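import Cfsg.Agent.Linear.Dickson.Transvections
import Cfsg.Agent.Aschbacher.Subfield

/-!
Upper and lower unipotent parameters of a subgroup of `SL₂(F)`: their products lie in a subfield of
the same size, with one exception over nine elements.
-/

set_option autoImplicit false

namespace Cfsg.Agent.Linear.Mitchell.Tv

open Matrix Cfsg.Agent.Linear Cfsg.Agent.Linear.Dickson

variable {F : Type*} [Field F]

local notation "S2" => Matrix.SpecialLinearGroup (Fin 2) F
local notation "M2" => Matrix (Fin 2) (Fin 2) F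
local notation "P2" => Matrix.ProjectiveSpecialLinearGroup (Fin 2) F

theorem loSL_add (a b : F) : loSL (a + b) = loSL a * loSL b := by
  apply SL_ext_two <;> simp [SL_mul_entries, loSL_coe]

theorem loSL_zero : loSL (0 : F) = 1 := by
  apply SL_ext_two <;> simp [loSL_coe]

theorem loSL_neg (a : F) : loSL (-a) = (loSL a)⁻¹ :=
  eq_inv_of_mul_eq_one_left (by rw [← loSL_add, neg_add_cancel, loSL_zero])

/-- The upper parameters. -/
def upA (Γ : Subgroup S2) : AddSubgroup F where
  carrier := {x | upSL x ∈ Γ}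
  zero_mem' := by
    show upSL (0 : F) ∈ Γ
    rw [upSL_zero]
    exact Γ.one_mem
  add_mem' {a b} ha hb := by
    show upSL (a + b) ∈ Γ
    rw [upSL_add]
    exact Γ.mul_mem ha hb
  neg_mem' {a} ha := by
    show upSL (-a) ∈ Γ
    rw [upSL_neg]
    exact Γ.inv_mem ha

/-- The lower parameters. -/
def loA (Γ : Subgroup S2) : AddSubgroup F where
  carrier := {x | loSL x ∈ Γ}
  zero_mem' := by
    show loSL (0 : F) ∈ Γ
    rw [loSL_zero]
    exact Γ.one_mem
  add_mem' {a b} ha hb := by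
    show loSL (a + b) ∈ Γ
    rw [loSL_add]
    exact Γ.mul_mem ha hb
  neg_mem' {a} ha := by
    show loSL (-a) ∈ Γ
    rw [loSL_neg]
    exact Γ.inv_mem ha

theorem mem_upA {Γ : Subgroup S2} {x : F} : x ∈ upA Γ ↔ upSL x ∈ Γ := Iff.rfl

theorem mem_loA {Γ : Subgroup S2} {x : F} : x ∈ loA Γ ↔ loSL x ∈ Γ := Iff.rfl

/-- The outcome for a pair of parameter groups. -/
def PairOK (A B : AddSubgroup F) : Prop :=
  (∃ K : Subfield F, Nat.card K = Nat.card A ∧ Nat.card B = Nat.card A ∧
    ∀ a ∈ A, ∀ b ∈ B, a * b ∈ K) ∨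
  (Nat.card A = 3 ∧ Nat.card B = 3 ∧ ∀ a ∈ A, ∀ b ∈ B, a ≠ 0 → b ≠ 0 → (a * b) ^ 2 = -1)

variable [Finite F]

/-- The multiplicative stabiliser of an additive group. -/
def stab (A : AddSubgroup F) : Subfield F where
  carrier := {k | ∀ x ∈ A, x * k ∈ A}
  mul_mem' {k l} hk hl x hx := by rw [← mul_assoc]; exact hl _ (hk x hx)
  one_mem' x hx := by rwa [mul_one]
  add_mem' {k l} hk hl x hx := by rw [mul_add]; exact A.add_mem (hk x hx) (hl x hx)
  zero_mem' x _ := by rw [mul_zero]; exact A.zero_mem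
  neg_mem' {k} hk x hx := by rw [mul_neg]; exact A.neg_mem (hk x hx)
  inv_mem' k hk x hx := by
    rcases eq_or_ne k 0 with rfl | hk0
    · rw [_root_.inv_zero, mul_zero]; exact A.zero_mem
    obtain ⟨⟨y, hy⟩, e⟩ := Finite.surjective_of_injective (α := A)
      (f := fun y => ⟨y.1 * k, hk _ y.2⟩)
      (fun y z e => Subtype.ext (mul_right_cancel₀ hk0 (congrArg Subtype.val e))) ⟨x, hx⟩
    have e' : y * k = x := congrArg Subtype.val e
    rw [← e', mul_inv_cancel_right₀ hk0]
    exact hy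

theorem mem_stab {A : AddSubgroup F} {k : F} : k ∈ stab A ↔ ∀ x ∈ A, x * k ∈ A := Iff.rfl

section Odd

/-- The exceptional products. -/
def Exc (x : F) : Prop := (3 : F) = 0 ∧ x ^ 2 = -1

omit [Finite F] in
theorem Exc.ne_zero {x : F} (h : Exc x) : x ≠ 0 := fun e => by
  have := h.2
  rw [e] at this
  simp at this

theorem closure_mem_top (lam : F) :
    Subfield.closure ({⟨lam, Subfield.subset_closure rfl⟩} : Set (Subfield.closure ({lam} : Set F)))
      = ⊤ := by
  refine eq_top_iff.mpr fun x _ => ?_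
  have h : (x : F) ∈ (Subfield.closure ({⟨lam, Subfield.subset_closure rfl⟩} :
      Set (Subfield.closure ({lam} : Set F)))).map (Subfield.closure ({lam} : Set F)).subtype := by
    rw [RingHom.map_field_closure, Set.image_singleton]
    exact x.2
  obtain ⟨y, hy, e⟩ := Subfield.mem_map.mp h
  exact Subtype.ext (a1 := y) e ▸ hy


/-- A non-exceptional product spreads the parameters over the field it generates. -/
theorem spread {Γ : Subgroup S2} {a b : F} (h2 : (2 : F) ≠ 0) (ha : a ∈ upA Γ) (hb : b ∈ loA Γ) (ha0 : a ≠ 0) (hb0 : b ≠ 0)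
    (hne : ¬ Exc (a * b)) {k : F} (hk : k ∈ Subfield.closure ({a * b} : Set F)) :
    a * k ∈ upA Γ ∧ b * k ∈ loA Γ ∧ k ∈ stab (upA Γ) ∧ k ∈ stab (loA Γ) := by
  classical
  set K := Subfield.closure ({a * b} : Set F) with hK
  let lam : K := ⟨a * b, Subfield.subset_closure rfl⟩
  have : Fintype K := Fintype.ofFinite _
  have h2K : (2 : K) ≠ 0 := fun h => h2 (by
    rw [← map_ofNat K.subtype, h, map_zero])
  let w : Fˣ := (Units.mk0 b hb0)⁻¹
  let f := scHom (K.subtype : K →+* F) w
  have htop : Subgroup.closure ({loSL 1, upSL lam} : Set (Matrix.SpecialLinearGroup (Fin 2) K)) = ⊤ := by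
    rcases two_transvections h2K (lam := lam) (fun e => mul_ne_zero ha0 hb0 (congrArg Subtype.val e))
      (closure_mem_top _) with h | ⟨h9, hs, -⟩
    · exact h.1
    · refine absurd ⟨?_, ?_⟩ hne
      · have h0 : (9 : K) = 0 := by
          have := Nat.cast_card_eq_zero K
          rw [h9] at this
          exact_mod_cast this
        have h9' : (3 : F) * 3 = 0 := by
          rw [show (3 : F) * 3 = K.subtype 9 by rw [map_ofNat]; norm_num, h0, map_zero]
        exact mul_self_eq_zero.mp h9'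
      · simpa [lam] using congrArg K.subtype hs
  have hmem : ∀ g, f g ∈ Γ := by
    intro g
    have : g ∈ Γ.comap f := by
      refine (?_ : _ ≤ Γ.comap f) (htop ▸ Subgroup.mem_top g)
      rw [Subgroup.closure_le]
      rintro _ (rfl | rfl) <;> show f _ ∈ Γ
      · convert mem_loA.mp hb using 1
        apply SL_ext_two <;> simp [f, scHom_coe, scMat, loSL_coe, w]
      · convert mem_upA.mp ha using 1
        apply SL_ext_two <;> simp [f, scHom_coe, scMat, upSL_coe, w, lam]
        field_simp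
    exact this
  have hup : ∀ l : K, b⁻¹ * (l : F) ∈ upA Γ := fun l => by
    rw [mem_upA]
    convert hmem (upSL l) using 1
    apply SL_ext_two <;> simp [f, scHom_coe, scMat, upSL_coe, w]
  have hlo : ∀ l : K, b * (l : F) ∈ loA Γ := fun l => by
    rw [mem_loA]
    convert hmem (loSL l) using 1
    apply SL_ext_two <;> simp [f, scHom_coe, scMat, loSL_coe, w, mul_comm]
  have hsq : ∀ (l : F), l ∈ K → l ≠ 0 →
      (∀ x ∈ upA Γ, x * (l * l) ∈ upA Γ) ∧ (∀ y ∈ loA Γ, y * (l * l) ∈ loA Γ) := by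
    intro l hl hl0
    let u : Kˣ := Units.mk0 ⟨l, hl⟩ fun e => hl0 (congrArg Subtype.val e)
    constructor
    · intro x hx
      rw [mem_upA]
      convert Γ.mul_mem (Γ.mul_mem (hmem (dSL u)) hx) (hmem (dSL u⁻¹)) using 1
      apply SL_ext_two <;> simp [f, scHom_coe, scMat, dSL_coe, upSL_coe, SL_mul_entries, u, hl0]
      ring
    · intro y hy
      rw [mem_loA]
      convert Γ.mul_mem (Γ.mul_mem (hmem (dSL u⁻¹)) hy) (hmem (dSL u)) using 1
      apply SL_ext_two <;> simp [f, scHom_coe, scMat, dSL_coe, loSL_coe, SL_mul_entries, u, hl0]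
      ring
  have hsq' : ∀ (l : F), l ∈ K →
      (∀ x ∈ upA Γ, x * (l * l) ∈ upA Γ) ∧ (∀ y ∈ loA Γ, y * (l * l) ∈ loA Γ) := by
    intro l hl
    rcases eq_or_ne l 0 with rfl | hl0
    · simp
    · exact hsq l hl hl0
  have h2mem : (2 : F) ∈ K := by
    rw [← one_add_one_eq_two]
    exact K.add_mem K.one_mem K.one_mem
  have h1 := hsq' ((k + 1) / 2) (K.div_mem (K.add_mem hk K.one_mem) h2mem)
  have h1' := hsq' ((k - 1) / 2) (K.div_mem (K.sub_mem hk K.one_mem) h2mem)
  have hdec : k = (k + 1) / 2 * ((k + 1) / 2) - (k - 1) / 2 * ((k - 1) / 2) := by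
    field_simp
    ring
  refine ⟨?_, hlo ⟨k, hk⟩, fun x hx => ?_, fun x hx => ?_⟩
  · convert hup ⟨a * b * k, K.mul_mem lam.2 hk⟩ using 1
    field_simp
  · rw [hdec, mul_sub]
    exact (upA Γ).sub_mem (h1.1 x hx) (h1'.1 x hx)
  · rw [hdec, mul_sub]
    exact (loA Γ).sub_mem (h1.2 x hx) (h1'.2 x hx)

theorem ncard_three (h2 : (2 : F) ≠ 0) {A : AddSubgroup F} {α : F} (hα : α ∈ A) (hα0 : α ≠ 0)
    (h : ∀ x ∈ A, x ≠ 0 → x * x = α * α) : Nat.card A = 3 := by
  have e : (A : Set F) = {0, α, -α} := by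
    ext x
    simp only [SetLike.mem_coe, Set.mem_insert_iff, Set.mem_singleton_iff]
    refine ⟨fun hx => ?_, ?_⟩
    · rcases eq_or_ne x 0 with hx0 | hx0
      · exact Or.inl hx0
      · exact Or.inr (mul_self_eq_mul_self_iff.mp (h x hx hx0))
    · rintro (rfl | rfl | rfl)
      exacts [A.zero_mem, hα, A.neg_mem hα]
  have hne : α ≠ -α := fun e => hα0 (by
    have : (2 : F) * α = 0 := by linear_combination e
    exact (mul_eq_zero.mp this).resolve_left h2)
  rw [← SetLike.coe_sort_coe, Nat.card_coe_set_eq, e,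
    Set.ncard_insert_of_notMem (by simp [hα0, Ne.symm hα0]), Set.ncard_pair hne]

theorem pair_odd {Γ : Subgroup S2} (h2 : (2 : F) ≠ 0) {α β : F} (hα : α ∈ upA Γ) (hα0 : α ≠ 0) (hβ : β ∈ loA Γ)
    (hβ0 : β ≠ 0) : PairOK (upA Γ) (loA Γ) := by
  by_cases hall : ∀ a ∈ upA Γ, ∀ b ∈ loA Γ, a ≠ 0 → b ≠ 0 → Exc (a * b)
  · refine Or.inr ⟨ncard_three h2 hα hα0 fun x hx hx0 => ?_,
      ncard_three h2 hβ hβ0 fun y hy hy0 => ?_, fun a ha b hb ha0 hb0 => (hall a ha b hb ha0 hb0).2⟩
    · have e1 := (hall x hx β hβ hx0 hβ0).2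
      have e2 := (hall α hα β hβ hα0 hβ0).2
      exact mul_right_cancel₀ (mul_ne_zero hβ0 hβ0) (by linear_combination e1 - e2)
    · have e1 := (hall α hα y hy hα0 hy0).2
      have e2 := (hall α hα β hβ hα0 hβ0).2
      exact mul_left_cancel₀ (mul_ne_zero hα0 hα0) (by linear_combination e1 - e2)
  push Not at hall
  obtain ⟨a', ha', b', hb', ha'0, hb'0, hne'⟩ := hall
  left
  set M := stab (upA Γ) ⊓ stab (loA Γ) with hM
  have hgood : ∀ a ∈ upA Γ, ∀ b ∈ loA Γ, ¬ Exc (a * b) → a * b ∈ M := by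
    intro a ha b hb hne
    rcases eq_or_ne (a * b) 0 with h0 | h0
    · rw [h0]; exact M.zero_mem
    obtain ⟨ha0, hb0⟩ := mul_ne_zero_iff.mp h0
    obtain ⟨-, -, h1, h2⟩ := spread h2 ha hb ha0 hb0 hne (Subfield.subset_closure rfl)
    exact ⟨h1, h2⟩
  have hsum : ∀ l l' : F, Exc l → ¬ Exc l' → l' ≠ 0 → ¬ Exc (l + l') := by
    intro l l' hl hl' h0 hs
    have hz : l' * (2 * l + l') = 0 := by linear_combination hs.2 - hl.2
    have e : l' = l := by
      have h1 := (mul_eq_zero.mp hz).resolve_left h0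
      linear_combination h1 - l * hl.1
    exact hl' (e ▸ hl)
  have shareL : ∀ a ∈ upA Γ, ∀ a₁ ∈ upA Γ, ∀ b ∈ loA Γ, ¬ Exc (a₁ * b) → a₁ * b ≠ 0 → a * b ∈ M := by
    intro a ha a₁ ha₁ b hb hne h0
    by_cases he : Exc (a * b)
    · have h := hgood (a + a₁) ((upA Γ).add_mem ha ha₁) b hb (by
        rw [add_mul]; exact hsum _ _ he hne h0)
      convert M.sub_mem h (hgood a₁ ha₁ b hb hne) using 1
      ring
    · exact hgood a ha b hb he
  have shareR : ∀ a ∈ upA Γ, ∀ b ∈ loA Γ, ∀ b₁ ∈ loA Γ, ¬ Exc (a * b₁) → a * b₁ ≠ 0 → a * b ∈ M := by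
    intro a ha b hb b₁ hb₁ hne h0
    by_cases he : Exc (a * b)
    · have h := hgood a ha (b + b₁) ((loA Γ).add_mem hb hb₁) (by
        rw [mul_add]; exact hsum _ _ he hne h0)
      convert M.sub_mem h (hgood a ha b₁ hb₁ hne) using 1
      ring
    · exact hgood a ha b hb he
  have hprod : ∀ a ∈ upA Γ, ∀ b ∈ loA Γ, a * b ∈ M := by
    intro a ha b hb
    by_cases he : Exc (a * b)
    swap
    · exact hgood a ha b hb he
    have ha0 : a ≠ 0 := left_ne_zero_of_mul he.ne_zero
    have hb0 : b ≠ 0 := right_ne_zero_of_mul he.ne_zero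
    have h1 : a' * b ∈ M := shareR a' ha' b hb b' hb' hne' (mul_ne_zero ha'0 hb'0)
    by_cases he1 : Exc (a' * b)
    · have : (a * b) * (a * b) = (a' * b) * (a' * b) := by linear_combination he.2 - he1.2
      rcases mul_self_eq_mul_self_iff.mp this with e | e <;> rw [e]
      exacts [h1, M.neg_mem h1]
    · exact shareL a ha a' ha' b hb he1 (mul_ne_zero ha'0 hb0)
  have c1 : ∀ {M' : Subfield F}, M ≤ M' → Nat.card (upA Γ) ≤ Nat.card M' := fun {M'} hle =>
    Nat.card_le_card_of_injective (fun a : upA Γ => (⟨a * β, hle (hprod a a.2 β hβ)⟩ : M'))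
      fun x y e => Subtype.ext (mul_right_cancel₀ hβ0 (congrArg Subtype.val e))
  have c2 : ∀ {M' : Subfield F}, M ≤ M' → Nat.card (loA Γ) ≤ Nat.card M' := fun {M'} hle =>
    Nat.card_le_card_of_injective (fun b : loA Γ => (⟨α * b, hle (hprod α hα b b.2)⟩ : M'))
      fun x y e => Subtype.ext (mul_left_cancel₀ hα0 (congrArg Subtype.val e))
  have d1 : Nat.card (stab (upA Γ)) ≤ Nat.card (upA Γ) :=
    Nat.card_le_card_of_injective (fun k : stab (upA Γ) => (⟨α * k, k.2 α hα⟩ : upA Γ))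
      fun x y e => Subtype.ext (mul_left_cancel₀ hα0 (congrArg Subtype.val e))
  have d2 : Nat.card (stab (loA Γ)) ≤ Nat.card (loA Γ) :=
    Nat.card_le_card_of_injective (fun k : stab (loA Γ) => (⟨β * k, k.2 β hβ⟩ : loA Γ))
      fun x y e => Subtype.ext (mul_left_cancel₀ hβ0 (congrArg Subtype.val e))
  have e1 := c1 (inf_le_right (a := stab (upA Γ)) (b := stab (loA Γ)))
  have e2 := c2 (inf_le_left (a := stab (upA Γ)) (b := stab (loA Γ)))
  exact ⟨stab (upA Γ), le_antisymm d1 (c1 inf_le_left), by omega,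
    fun a ha b hb => (hprod a ha b hb).1⟩

end Odd

section Even

variable [CharP F 2]

omit [Finite F] in
theorem two_eq_zero' : (2 : F) = 0 := CharTwo.two_eq_zero

omit [Finite F] in
theorem proj_injective_two : Function.Injective (proj (F := F)) := by
  intro x y h
  rcases proj_eq_iff.mp h with e | e
  · exact e.symm
  · rw [e]
    apply SL_ext_two <;> simp [Matrix.SpecialLinearGroup.coe_neg, CharTwo.neg_eq]

omit [Finite F] in
theorem sq_upSL (x : F) : upSL x * upSL x = 1 := by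
  rw [← upSL_add, CharTwo.add_self_eq_zero, upSL_zero]

omit [Finite F] in
theorem sq_loSL (x : F) : loSL x * loSL x = 1 := by
  rw [← loSL_add, CharTwo.add_self_eq_zero, loSL_zero]

omit [Finite F] in
theorem eq_upSL_of_commute {y : S2} {x : F} (hx : x ≠ 0) (h : y * upSL x = upSL x * y) :
    y = upSL ((y : M2) 0 1) := by
  have h00 := congrArg (fun z : S2 => (z : M2) 0 0) h
  have h01 := congrArg (fun z : S2 => (z : M2) 0 1) h
  simp [SL_mul_entries, upSL_coe] at h00 h01
  have h10 : (y : M2) 1 0 = 0 := h00.resolve_left hx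
  have h11 : (y : M2) 1 1 = (y : M2) 0 0 :=
    mul_left_cancel₀ hx (by linear_combination -h01)
  have hd := SL_det_two y
  rw [h10, h11, mul_zero, sub_zero] at hd
  have h1 : (y : M2) 0 0 = 1 := by
    have : ((y : M2) 0 0 - 1) ^ 2 = 0 := by
      linear_combination hd + (1 - (y : M2) 0 0) * two_eq_zero' (F := F)
    exact sub_eq_zero.mp (pow_eq_zero_iff two_ne_zero |>.1 this)
  apply SL_ext_two <;> simp [upSL_coe, h10, h11, h1]

omit [Finite F] in
theorem eq_loSL_of_commute {y : S2} {x : F} (hx : x ≠ 0) (h : y * loSL x = loSL x * y) :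
    y = loSL ((y : M2) 1 0) := by
  have h00 := congrArg (fun z : S2 => (z : M2) 0 0) h
  have h10 := congrArg (fun z : S2 => (z : M2) 1 0) h
  simp [SL_mul_entries, loSL_coe] at h00 h10
  have h01 : (y : M2) 0 1 = 0 := h00.resolve_right hx
  have h11 : (y : M2) 1 1 = (y : M2) 0 0 :=
    mul_left_cancel₀ hx (by linear_combination h10)
  have hd := SL_det_two y
  rw [h01, h11, zero_mul, sub_zero] at hd
  have h1 : (y : M2) 0 0 = 1 := by
    have : ((y : M2) 0 0 - 1) ^ 2 = 0 := by
      linear_combination hd + (1 - (y : M2) 0 0) * two_eq_zero' (F := F)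
    exact sub_eq_zero.mp (pow_eq_zero_iff two_ne_zero |>.1 this)
  apply SL_ext_two <;> simp [loSL_coe, h01, h11, h1]

/-- The case of a subfield group. -/
theorem pair_even_subfield {Γ : Subgroup S2} {K : Type*} [Field K] [Finite K] (ι : K →+* F)
    (g : P2) (w : Fˣ) (h : Γ.map proj = (pslSub ι w).map (MulAut.conj g).toMonoidHom) {α β : F}
    (hα : α ∈ upA Γ) (hα0 : α ≠ 0) (hβ : β ∈ loA Γ) (hβ0 : β ≠ 0) :
    PairOK (upA Γ) (loA Γ) := by
  classical
  have : Fintype K := Fintype.ofFinite K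
  have : CharP K 2 := CharTwo.of_one_ne_zero_of_two_eq_zero one_ne_zero
    (ι.injective (by rw [map_ofNat, map_zero]; exact two_eq_zero'))
  have : Fact (Nat.Prime 2) := ⟨Nat.prime_two⟩
  obtain ⟨g, rfl⟩ := proj_surjective g
  let f : Matrix.SpecialLinearGroup (Fin 2) K →* S2 :=
    (MulAut.conj g).toMonoidHom.comp (scHom ι w)
  have hf : ∀ y : S2, y ∈ Γ ↔ ∃ z, f z = y := by
    intro y
    have e : ∀ z, proj (f z) = proj g * proj (scHom ι w z) * (proj g)⁻¹ := fun z => by
      simp [f]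
    constructor
    · intro hy
      obtain ⟨_, ⟨z, rfl⟩, hz⟩ := (h ▸ Subgroup.mem_map_of_mem _ hy :
        proj y ∈ (pslSub ι w).map (MulAut.conj (proj g)).toMonoidHom)
      exact ⟨z, proj_injective_two ((e z).trans hz)⟩
    · rintro ⟨z, rfl⟩
      have : proj (f z) ∈ Γ.map proj := by
        rw [h, e]
        exact conj_mem_map_conj ⟨z, rfl⟩
      obtain ⟨y, hy, hy'⟩ := this
      exact proj_injective_two hy' ▸ hy
  have finj : Function.Injective f := by
    intro x y e
    have e' := (MulAut.conj g).injective e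
    apply SL_ext_two <;> apply ι.injective
    · simpa [scHom_coe, scMat] using congrArg (fun z : S2 => (z : M2) 0 0) e'
    · simpa [scHom_coe, scMat] using congrArg (fun z : S2 => (z : M2) 0 1) e'
    · simpa [scHom_coe, scMat] using congrArg (fun z : S2 => (z : M2) 1 0) e'
    · simpa [scHom_coe, scMat] using congrArg (fun z : S2 => (z : M2) 1 1) e'
  have hinv : ∀ u ∈ Γ, u ≠ 1 → u * u = 1 →
      ∃ φ : K → S2, Function.Injective φ ∧ ∀ t, φ t ∈ Γ ∧ φ t * u = u * φ t := by
    intro u hu hu1 huu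
    obtain ⟨z, rfl⟩ := (hf u).mp hu
    have hz1 : z ≠ 1 := fun e => hu1 (by rw [e, map_one])
    have hzz : z ^ 2 = 1 := finj (by rw [map_pow, map_one, sq, huu])
    have hz : ¬ IsScalarTwo (z : Matrix (Fin 2) (Fin 2) K) := by
      rw [isScalarTwo_SL_iff]
      rintro (e | e)
      · exact hz1 e
      · refine hz1 (e.trans ?_)
        apply SL_ext_two <;> simp [Matrix.SpecialLinearGroup.coe_neg, CharTwo.neg_eq]
    obtain ⟨c, -, hcz⟩ := exists_conj_upSL hz ((pow_char_eq_one_iff 2 z).mp hzz)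
    obtain ⟨k, hk⟩ := isConj_iff.mp hcz
    refine ⟨fun t => f (k * upSL t * k⁻¹), fun x y e => ?_, fun t => ⟨(hf _).mpr ⟨_, rfl⟩, ?_⟩⟩
    · have := finj e
      have hxy : (upSL x : Matrix.SpecialLinearGroup (Fin 2) K) = upSL y :=
        mul_left_cancel (mul_right_cancel this)
      simpa [upSL_coe] using congrArg
        (fun z : Matrix.SpecialLinearGroup (Fin 2) K => (z : Matrix (Fin 2) (Fin 2) K) 0 1) hxy
    · dsimp only
      rw [← map_mul, ← map_mul, ← hk, show k * upSL t * k⁻¹ * (k * upSL c * k⁻¹) =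
        k * (upSL t * upSL c) * k⁻¹ by group, show k * upSL c * k⁻¹ * (k * upSL t * k⁻¹) =
        k * (upSL c * upSL t) * k⁻¹ by group, ← upSL_add, ← upSL_add, add_comm]
  have hA : Nat.card K ≤ Nat.card (upA Γ) := by
    obtain ⟨φ, hφ, hc⟩ := hinv _ hα (fun e => hα0 (by
      simpa [upSL_coe] using congrArg (fun z : S2 => (z : M2) 0 1) e)) (sq_upSL α)
    refine Nat.card_le_card_of_injective
      (fun t => (⟨(φ t : M2) 0 1, by
        rw [mem_upA, ← eq_upSL_of_commute hα0 (hc t).2]; exact (hc t).1⟩ : upA Γ)) fun x y e => ?_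
    refine hφ ?_
    rw [eq_upSL_of_commute hα0 (hc x).2, eq_upSL_of_commute hα0 (hc y).2]
    exact congrArg upSL (congrArg Subtype.val e)
  have hB : Nat.card K ≤ Nat.card (loA Γ) := by
    obtain ⟨φ, hφ, hc⟩ := hinv _ hβ (fun e => hβ0 (by
      simpa [loSL_coe] using congrArg (fun z : S2 => (z : M2) 1 0) e)) (sq_loSL β)
    refine Nat.card_le_card_of_injective
      (fun t => (⟨(φ t : M2) 1 0, by
        rw [mem_loA, ← eq_loSL_of_commute hβ0 (hc t).2]; exact (hc t).1⟩ : loA Γ)) fun x y e => ?_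
    refine hφ ?_
    rw [eq_loSL_of_commute hβ0 (hc x).2, eq_loSL_of_commute hβ0 (hc y).2]
    exact congrArg loSL (congrArg Subtype.val e)
  have hprod : ∀ a ∈ upA Γ, ∀ b ∈ loA Γ, a * b ∈ ι.fieldRange := by
    intro a ha b hb
    obtain ⟨z, hz⟩ := (hf _).mp (Γ.mul_mem ha hb)
    have htr : ((upSL a * loSL b : S2) : M2).trace = a * b := by
      simp [Matrix.trace_fin_two, SL_mul_entries, upSL_coe, loSL_coe]
      linear_combination two_eq_zero' (F := F)
    refine RingHom.mem_fieldRange.mpr ⟨(z : Matrix (Fin 2) (Fin 2) K).trace, ?_⟩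
    rw [← htr, ← hz, show f z = g * scHom ι w z * g⁻¹ from rfl, trace_conj, scHom_coe, scMat,
      Matrix.trace_fin_two, Matrix.trace_fin_two, map_add]
    simp
  have hcard : Nat.card ι.fieldRange = Nat.card K :=
    (Nat.card_congr (Equiv.ofInjective ι ι.injective)).symm
  have hA' : Nat.card (upA Γ) ≤ Nat.card ι.fieldRange :=
    Nat.card_le_card_of_injective (fun a : upA Γ => (⟨a * β, hprod a a.2 β hβ⟩ : ι.fieldRange))
      fun x y e => Subtype.ext (mul_right_cancel₀ hβ0 (congrArg Subtype.val e))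
  have hB' : Nat.card (loA Γ) ≤ Nat.card ι.fieldRange :=
    Nat.card_le_card_of_injective (fun b : loA Γ => (⟨α * b, hprod α hα b b.2⟩ : ι.fieldRange))
      fun x y e => Subtype.ext (mul_left_cancel₀ hα0 (congrArg Subtype.val e))
  exact Or.inl ⟨ι.fieldRange, by omega, by omega, hprod⟩

theorem pair_even {Γ : Subgroup S2} (hA : 3 ≤ Nat.card (upA Γ)) {β : F} (hβ : β ∈ loA Γ)
    (hβ0 : β ≠ 0) : PairOK (upA Γ) (loA Γ) := by
  classical
  have : Fintype F := Fintype.ofFinite F
  have : Fact (Nat.Prime 2) := ⟨Nat.prime_two⟩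
  obtain ⟨α, hα, α', hα', hα0, hα'0, hne⟩ : ∃ α ∈ upA Γ, ∃ α' ∈ upA Γ, α ≠ 0 ∧ α' ≠ 0 ∧ α ≠ α' := by
    obtain ⟨x, hx, hx0⟩ : ∃ x ∈ upA Γ, x ≠ 0 := by
      by_contra hc
      push Not at hc
      have : Nat.card (upA Γ) ≤ 1 := Finite.card_le_one_iff_subsingleton.mpr
        ⟨fun a b => Subtype.ext ((hc a a.2).trans (hc b b.2).symm)⟩
      omega
    by_contra hc
    push Not at hc
    have : ((upA Γ : AddSubgroup F) : Set F) ⊆ {0, x} := fun y hy => by
      rcases eq_or_ne y 0 with rfl | hy0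
      · simp
      · simp [hc x hx y hy hx0 hy0]
    have h2 := (Set.ncard_le_ncard this).trans (Set.ncard_insert_le _ _)
    rw [Set.ncard_singleton, ← Nat.card_coe_set_eq] at h2
    exact absurd h2 (by have := hA; rw [← SetLike.coe_sort_coe] at this; omega)
  set H := Γ.map proj with hH
  have haH : ∀ {x : F}, x ∈ upA Γ → proj (upSL x) ∈ H := fun hx => Subgroup.mem_map_of_mem _ hx
  have hbH : proj (loSL β) ∈ H := Subgroup.mem_map_of_mem _ hβ
  have hne1 : ∀ {x : F}, x ≠ 0 → proj (upSL x) ≠ (1 : P2) := fun hx e => hx (by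
    have := proj_injective_two (e.trans (map_one proj).symm)
    simpa [upSL_coe] using congrArg (fun z : S2 => (z : M2) 0 1) this)
  have hua : ∀ x : F, IsUni (proj (upSL x)) := fun x => isUni_proj.mpr (by
    simp [Matrix.trace_fin_two, upSL_coe]; norm_num)
  have hub : IsUni (proj (loSL β)) := isUni_proj.mpr (by
    simp [Matrix.trace_fin_two, loSL_coe]; norm_num)
  have hnc : proj (upSL α) * proj (loSL β) ≠ proj (loSL β) * proj (upSL α) := fun e => by
    rw [← map_mul, ← map_mul] at e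
    have := congrArg (fun z : S2 => (z : M2) 0 0) (proj_injective_two e)
    simp [SL_mul_entries, upSL_coe, loSL_coe] at this
    exact this.elim hα0 hβ0
  rcases shape 2 H with h | ⟨c, hc, hle⟩ | ⟨⟨f⟩⟩ | ⟨⟨f⟩⟩ | ⟨⟨f⟩⟩ | ⟨K, iK, iK', ι, g, w, h⟩
  · exfalso
    obtain ⟨g, hg⟩ := h
    have m1 := mem_cen_stdUni_of_isUni (hg _ (haH hα)) ((isUni_conj g).mpr (hua α))
    have m2 := mem_cen_stdUni_of_isUni (hg _ hbH) ((isUni_conj g).mpr hub)
    have h := cen_comm stdUni_ne_one m1 m2
    exact hnc (by simpa [mul_assoc] using congrArg (fun z => g⁻¹ * z * g) h)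
  · exfalso
    have hout : ∀ x, x ≠ 0 → proj (upSL x) ∉ cen c := fun x hx hm =>
      hc ((isUni_iff_of_mem_cen (ne_one_of_not_isUni hc) (hne1 hx) hm).mp (hua x))
    have hnor : ∀ {x}, x ∈ H → ∀ y, y ∈ cen c ↔ x * y * x⁻¹ ∈ cen c := fun hx =>
      Subgroup.mem_normalizer_iff.mp (hle hx)
    have hm := inverter_mul_mem hc (hnor (haH hα)) (hnor (haH hα')) (hout α hα0) (hout α' hα'0)
    rw [← map_mul, ← upSL_add] at hm
    exact hout _ (fun e => hne (CharTwo.add_eq_zero.mp e)) hm
  · exfalso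
    have hall : ∀ σ τ : alternatingGroup (Fin 4), σ * σ = 1 → τ * τ = 1 → σ * τ = τ * σ := by
      decide +kernel
    have hs : ∀ {x : P2} (hx : x ∈ H), x * x = 1 → f ⟨x, hx⟩ * f ⟨x, hx⟩ = 1 := fun hx e => by
      rw [← map_mul, ← map_one f]; exact congrArg f (Subtype.ext e)
    have := hall _ _ (hs (haH hα) (by rw [← map_mul, sq_upSL, map_one]))
      (hs hbH (by rw [← map_mul, sq_loSL, map_one]))
    rw [← map_mul, ← map_mul] at this
    exact hnc (congrArg Subtype.val (f.injective this))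
  · exfalso
    obtain ⟨σ, hσ, hσ2⟩ : ∃ σ : Equiv.Perm (Fin 4), σ ^ 4 = 1 ∧ σ ^ 2 ≠ 1 := by
      decide +kernel
    obtain ⟨y, hy⟩ := proj_surjective ((f.symm σ : H) : P2)
    have h4 : proj y ^ 4 = 1 := by
      rw [hy, ← SubmonoidClass.coe_pow, ← map_pow, hσ, map_one, Subgroup.coe_one]
    have h2' : proj y ^ 2 ≠ 1 := by
      rw [hy, ← SubmonoidClass.coe_pow, ← map_pow]
      exact fun e => hσ2 (f.symm.injective ((Subtype.ext e).trans (map_one f.symm).symm))
    have ht := trace_sq_eq_two_of_fourth h2' h4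
    rw [two_eq_zero', sq_eq_zero_iff] at ht
    refine h2' ?_
    rw [← map_pow, ← map_one proj]
    congr 1
    exact (pow_char_eq_one_iff 2 y).mpr (ht.trans two_eq_zero'.symm)
  · obtain ⟨r, hr⟩ := exists_root_of_five_dvd (F := F) (dvd_of_altFive f)
    let K := Aschbacher.frobFixed (F := F) 2 2
    have hr4 : r ∈ K := by
      rw [Aschbacher.mem_frobFixed]
      linear_combination (r ^ 2 + r + 2) * hr + (r + 1) * two_eq_zero' (F := F)
    have hr0 : r ≠ 0 := fun e => by rw [e] at hr; simp at hr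
    have hr1 : r ≠ 1 := fun e => by
      rw [e] at hr
      exact one_ne_zero (by linear_combination -hr : (1 : F) = 0)
    have : Fintype K := Fintype.ofFinite _
    have hKle : Fintype.card K ≤ 4 := by
      rw [← Nat.card_eq_fintype_card, ← SetLike.coe_sort_coe, Nat.card_coe_set_eq]
      let p : Polynomial F := Polynomial.X ^ 4 - Polynomial.X
      have hd : p.natDegree = 4 := by
        simp only [p]; compute_degree!
      have hp0 : p ≠ 0 := fun e => by rw [e] at hd; simp at hd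
      calc (K : Set F).ncard ≤ (p.roots.toFinset : Set F).ncard :=
            Set.ncard_le_ncard fun x hx => by
              rw [Finset.mem_coe, Multiset.mem_toFinset, Polynomial.mem_roots hp0]
              have hx' : x ^ (2 ^ 2) = x := hx
              simp [p, sub_eq_zero]
              simpa using hx'
        _ ≤ 4 := by
              rw [Set.ncard_coe_finset]
              exact (Multiset.toFinset_card_le _).trans ((Polynomial.card_roots' p).trans hd.le)
    have hKge : 4 ≤ Fintype.card K := by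
      rw [← Nat.card_eq_fintype_card, ← SetLike.coe_sort_coe, Nat.card_coe_set_eq]
      have hsub : ({0, 1, r, r + 1} : Set F) ⊆ K := by
        rintro x (rfl | rfl | rfl | rfl)
        exacts [K.zero_mem, K.one_mem, hr4, K.add_mem hr4 K.one_mem]
      refine le_trans (le_of_eq ?_) (Set.ncard_le_ncard hsub)
      have a1 : r ≠ r + 1 := fun e => one_ne_zero (by linear_combination -e : (1 : F) = 0)
      have a2 : (0 : F) ≠ r + 1 := fun e => hr1 (CharTwo.add_eq_zero.mp e.symm)
      have a3 : (1 : F) ≠ r + 1 := fun e => hr0 (by linear_combination -e)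
      rw [Set.ncard_insert_of_notMem (by simp [Ne.symm hr0, a2]),
        Set.ncard_insert_of_notMem (by simp [Ne.symm hr1, hr0]), Set.ncard_pair a1]
    obtain ⟨g, w, hle⟩ := exists_conj_le_pslSub (K.subtype : K →+* F) (r := ⟨r, hr4⟩)
      (Subtype.ext hr) f
    refine pair_even_subfield K.subtype g w (Subgroup.eq_of_le_of_card_ge hle ?_) hα hα0 hβ hβ0
    rw [card_map_conj, Nat.card_congr f.toEquiv, card_alt_five]
    have hc := card_pslSub_mul (K.subtype : K →+* F) w
    rw [le_antisymm hKle hKge, show Nat.gcd 2 (4 - 1) = 1 from rfl] at hc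
    omega
  · refine pair_even_subfield ι g w ?_ hα hα0 hβ hβ0
    rcases h with h | ⟨lam, ν, hν, -, h⟩
    · exact h
    · rw [hH] at h
      rw [h]
      congr 1
      refine le_antisymm (sup_le le_rfl ?_) (pslSub_le_pglSub ι w lam)
      rw [Subgroup.zpowers_le]
      have : CharP K 2 := CharTwo.of_one_ne_zero_of_two_eq_zero one_ne_zero
        (ι.injective (by rw [map_ofNat, map_zero]; exact two_eq_zero'))
      obtain ⟨s, hs⟩ := (bijective_frobenius K 2).2 (ν : K)
      rw [frobenius_def] at hs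
      have hs0 : s ≠ 0 := fun e => ν.ne_zero (by rw [← hs, e]; simp)
      have hls : ι s = (lam : F) := by
        refine (bijective_frobenius F 2).1 ?_
        rw [frobenius_def, frobenius_def, ← map_pow, hs, hν]
      refine ⟨dSL (Units.mk0 s hs0), ?_⟩
      show proj (scHom ι w (dSL (Units.mk0 s hs0))) = _
      congr 1
      apply SL_ext_two <;> simp [scHom_coe, scMat, dSL_coe, ← hls]

end Even

/-- The pair lemma in `SL₂`. -/
theorem pair_SL2 {Γ : Subgroup S2} (hA : 3 ≤ Nat.card (upA Γ)) {β : F} (hβ : β ∈ loA Γ)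
    (hβ0 : β ≠ 0) : PairOK (upA Γ) (loA Γ) := by
  by_cases h2 : (2 : F) = 0
  · have : CharP F 2 := CharTwo.of_one_ne_zero_of_two_eq_zero one_ne_zero h2
    exact pair_even hA hβ hβ0
  · obtain ⟨α, hα, hα0⟩ : ∃ x ∈ upA Γ, x ≠ 0 := by
      by_contra hc
      push Not at hc
      have : Nat.card (upA Γ) ≤ 1 := Finite.card_le_one_iff_subsingleton.mpr
        ⟨fun a b => Subtype.ext ((hc a a.2).trans (hc b b.2).symm)⟩
      omega
    exact pair_odd h2 hα hα0 hβ hβ0

end Cfsg.Agent.Linear.Mitchell.Tv
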