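import Cfsg.Agent.Linear.Mitchell.Tv.Basic
import Cfsg.Agent.H36.SUThreeGeo.Basic
import Cfsg.Agent.H58.HermCongr

/-!
A group whose transvections are exactly those of a Hermitian form over a subfield is a conjugate of
`SU₃`.
-/

set_option autoImplicit false

namespace Cfsg.Agent.Linear.Mitchell.Tv

open scoped MatrixGroups Matrix
open Matrix Cfsg.Geo Cfsg.Agent.H95
open Cfsg.Agent.Symplectic (ut ut_mulVec ut_mem_iso ut_mem_sl UtIn isUnitaryForm_hermForm)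

variable {F : Type*} [Field F]

theorem tvMat_map {K : Subfield F} (a φ : Fin 3 → K) :
    (tvMat a φ).map (K.subtype : K →+* F) =
      tvMat (fun i => (a i : F)) (fun i => (φ i : F)) := by
  ext i j
  simp only [tvMat, Matrix.map_apply, Matrix.add_apply, vecMulVec_apply, map_add, map_mul]
  congr 1
  rcases eq_or_ne i j with rfl | h
  · simp
  · simp [Matrix.one_apply_ne h]

/-- The transfer to the standard unitary group. -/
theorem isSUForm_of_flags {P : Subgroup (GL (Fin 3) F)} (hP : Setting P) (K : Subfield F)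
    [Fintype K] {q : ℕ} (hK : Fintype.card K = q ^ 2) (hq : 3 ≤ q) (H : GL (Fin 3) K)
    (hH : ((H : Matrix (Fin 3) (Fin 3) K).map fun x => x ^ q)ᵀ = H)
    (hin : ∀ (d : Fin 3 → K) (l : K), l ^ q = -l →
      ((H : Matrix (Fin 3) (Fin 3) K) *ᵥ fun i => d i ^ q) ⬝ᵥ d = 0 →
      InTv P (fun i => (d i : F))
        (fun i => ((l • ((H : Matrix (Fin 3) (Fin 3) K) *ᵥ fun j => d j ^ q)) i : K)))
    (hout : ∀ x ∈ tvSet P, ∃ (d : Fin 3 → K) (l : K), l ^ q = -l ∧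
      ((H : Matrix (Fin 3) (Fin 3) K) *ᵥ fun i => d i ^ q) ⬝ᵥ d = 0 ∧
      (x : Matrix (Fin 3) (Fin 3) F) = tvMat (fun i => (d i : F))
        (fun i => ((l • ((H : Matrix (Fin 3) (Fin 3) K) *ᵥ fun j => d j ^ q)) i : K)))
    {a φ : Fin 3 → F} (ha : a ≠ 0) (hφ : φ ≠ 0) (hne : InTv P a φ) :
    IsSUForm P := by
  obtain ⟨σ, hσ, hf⟩ := isUnitaryForm_hermForm (n := 3) hK
  obtain ⟨B, hB⟩ := H58.HermCongr.exists_congr_one (σ := σ)
    (fun x => by rw [hσ, hσ, Unitary.pow_q_q hK])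
    (by
      by_contra h
      push Not at h
      exact hf.ne_refl (RingEquiv.ext h))
    (fun x hx => by
      obtain ⟨y, hy⟩ := Unitary.exists_norm_eq hK (a := x) (by rw [← hσ]; exact hx)
      exact ⟨y, by rw [hσ]; exact hy⟩)
    H (by rw [show (σ : K → K) = fun x => x ^ q from funext hσ]; exact hH)
  set Qm : GL (Fin 3) K := Tv.dual B⁻¹
  have hQm : (Qm : Matrix (Fin 3) (Fin 3) K) = (B : Matrix (Fin 3) (Fin 3) K)ᵀ := by
    show (((B⁻¹)⁻¹ : GL (Fin 3) K) : Matrix (Fin 3) (Fin 3) K)ᵀ = _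
    rw [inv_inv]
  set f := Cfsg.hermForm 3 K q
  have hform : ∀ x y : Fin 3 → K, f ((Qm : Matrix (Fin 3) (Fin 3) K) *ᵥ x)
      ((Qm : Matrix (Fin 3) (Fin 3) K) *ᵥ y) =
      ((H : Matrix (Fin 3) (Fin 3) K) *ᵥ fun i => y i ^ q) ⬝ᵥ x := by
    intro x y
    have e : (fun i => (((Qm : Matrix (Fin 3) (Fin 3) K) *ᵥ y) i) ^ q) =
        ((B : Matrix (Fin 3) (Fin 3) K).map σ)ᵀ *ᵥ fun i => y i ^ q := by
      funext i
      rw [← hσ]
      simp only [hQm, mulVec, dotProduct, transpose_apply, Matrix.map_apply]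
      rw [map_sum]
      simp only [hσ, mul_pow]
    show ((Qm : Matrix (Fin 3) (Fin 3) K) *ᵥ x) ⬝ᵥ
      (fun i => (((Qm : Matrix (Fin 3) (Fin 3) K) *ᵥ y) i) ^ q) = _
    rw [e, hQm, mulVec_transpose, ← dotProduct_mulVec, mulVec_mulVec, ← hB, dotProduct_comm]
  set ι : GL (Fin 3) K →* GL (Fin 3) F :=
    Matrix.GeneralLinearGroup.map (n := Fin 3) (K.subtype : K →+* F)
  -- the transvection at `Qm d`
  have hconj : ∀ (d : Fin 3 → K) (l : K),
      ((H : Matrix (Fin 3) (Fin 3) K) *ᵥ fun i => d i ^ q) ⬝ᵥ d = 0 →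
      (((ι Qm)⁻¹ * ι (ut hf ((Qm : Matrix (Fin 3) (Fin 3) K) *ᵥ d) l) * ι Qm : GL (Fin 3) F) :
        Matrix (Fin 3) (Fin 3) F) =
        tvMat (fun i => (d i : F))
          (fun i => ((l • ((H : Matrix (Fin 3) (Fin 3) K) *ᵥ fun j => d j ^ q)) i : K)) := by
    intro d l hd
    have hv : f ((Qm : Matrix (Fin 3) (Fin 3) K) *ᵥ d) ((Qm : Matrix (Fin 3) (Fin 3) K) *ᵥ d) = 0 := by
      rw [hform, hd]
    rw [← map_inv, ← map_mul, ← map_mul, ← tvMat_map]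
    refine congrArg (fun M : Matrix (Fin 3) (Fin 3) K => M.map (K.subtype : K →+* F))
      (mat_ext fun x => ?_)
    rw [Units.val_mul, Units.val_mul, ← mulVec_mulVec, ← mulVec_mulVec, ut_mulVec hf hv, hform,
      mulVec_add, mulVec_smul, inv_mulVec_mulVec, inv_mulVec_mulVec, tvMat_mulVec, smul_dotProduct,
      smul_eq_mul]
  refine isSUForm_of_cj (g := ι Qm) ⟨K, q, 1, by rw [Nat.card_eq_fintype_card, hK], hq, ?_⟩
  show cj (ι Qm) P = cj 1 ((GU 3 K q ⊓ specialLinear (Fin 3) K).map ι)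
  rw [cj_one]
  refine le_antisymm ?_ ?_
  · rw [cj, Subgroup.map_le_iff_le_comap]
    conv_lhs => rw [← closure_tvSet hP ha hφ hne]
    rw [Subgroup.closure_le]
    intro x hx
    obtain ⟨d, l, hl, hd, hxd⟩ := hout x hx
    have hv : f ((Qm : Matrix (Fin 3) (Fin 3) K) *ᵥ d) ((Qm : Matrix (Fin 3) (Fin 3) K) *ᵥ d) = 0 := by
      rw [hform, hd]
    refine ⟨ut hf ((Qm : Matrix (Fin 3) (Fin 3) K) *ᵥ d) l,
      ⟨fun u v => mem_isoGrp.1 (ut_mem_iso hf hv (by rw [hσ]; exact hl)) u v, ut_mem_sl hf _ _⟩, ?_⟩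
    have e : x = (ι Qm)⁻¹ * ι (ut hf ((Qm : Matrix (Fin 3) (Fin 3) K) *ᵥ d) l) * ι Qm :=
      Units.ext (hxd.trans (hconj d l hd).symm)
    show _ = ι Qm * x * (ι Qm)⁻¹
    rw [e]
    group
  · rw [Subgroup.map_le_iff_le_comap]
    refine H36.SUThreeGeo.su_le_of_ut_three hf hK hq hσ rfl fun v hv l hl => ?_
    set d := ((Qm⁻¹ : GL (Fin 3) K) : Matrix (Fin 3) (Fin 3) K) *ᵥ v
    have hvd : (Qm : Matrix (Fin 3) (Fin 3) K) *ᵥ d = v := mulVec_inv_mulVec Qm v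
    have hd : ((H : Matrix (Fin 3) (Fin 3) K) *ᵥ fun i => d i ^ q) ⬝ᵥ d = 0 := by
      rw [← hform, hvd]; exact hv
    obtain ⟨h0, hm⟩ := hin d l (by rw [← hσ]; exact hl) hd
    show ι (ut hf v l) ∈ cj (ι Qm) P
    rw [mem_cj]
    convert hm using 1
    refine Units.ext ?_
    rw [← hvd]
    exact hconj d l hd

end Cfsg.Agent.Linear.Mitchell.Tv
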