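import Cfsg.Agent.Linear.Mitchell.Tv.RootField
import Cfsg.Agent.Linear.Mitchell.Tv.SUTransfer

/-!
Separated transvections with root groups of order at least three are those of a Hermitian form.
-/

set_option autoImplicit false

namespace Cfsg.Agent.Linear.Mitchell.Tv

open scoped MatrixGroups Matrix
open Matrix Cfsg.Geo Cfsg.Agent.H95 Cfsg.Agent.Linear Cfsg.Agent.Linear.Dickson

variable {F : Type*} [Field F] {P : Subgroup (GL (Fin 3) F)}

local notation "M3" => Matrix (Fin 3) (Fin 3) F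

/-- A separated group in standard position, with its root field and the automorphism fixing it. -/
structure Std (P : Subgroup (GL (Fin 3) F)) (K : Subfield F) (σ : F →+* F) : Prop where
  setting : Setting P
  sep : Separated P
  root : ∀ b ψ : Fin 3 → F, b ≠ 0 → ψ ≠ 0 → InTv P b ψ → ∀ c, c ∈ root P b ψ ↔ c ∈ K
  prod : ∀ b ψ d θ : Fin 3 → F, InTv P b ψ → InTv P d θ → (ψ ⬝ᵥ d) * (θ ⬝ᵥ b) ∈ K
  mem : ∀ x, x ∈ K ↔ σ x = x
  three : 3 ≤ Nat.card K
  h02 : InTv P (E 0) (E 2)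
  h20 : InTv P (E 2) (E 0)

/-- Some flag with centre ratio `η` exists. -/
def EE (P : Subgroup (GL (Fin 3) F)) (η : F) : Prop :=
  ∃ δ t ν : F, InTv P ![δ, η, 1] ![1, t, ν]

theorem vec_ne_zero (δ η : F) : (![δ, η, 1] : Fin 3 → F) ≠ 0 := fun e => by
  simpa using congrFun e 2

theorem axis_ne_zero (t ν : F) : (![1, t, ν] : Fin 3 → F) ≠ 0 := fun e => by
  simpa using congrFun e 0

theorem normal_dot {δ η t ν : F} (h : InTv P ![δ, η, 1] ![1, t, ν]) : δ + t * η + ν = 0 := by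
  simpa [dotProduct, Fin.sum_univ_three] using inTv_dot h

namespace Std

variable {K : Subfield F} {σ : F →+* F}

theorem scale (S : Std P K σ) {b ψ : Fin 3 → F} (h : InTv P b ψ) {k : F} (hk : k ∈ K) :
    InTv P b (k • ψ) := by
  rcases eq_or_ne ψ 0 with rfl | hψ
  · rwa [smul_zero]
  rcases eq_or_ne b 0 with rfl | hb
  · exact inTv_zero_left P _
  exact mem_root.mp ((S.root b ψ hb hψ h k).mpr hk)

/-- The translates along the first root group. -/
theorem trans0 (S : Std P K σ) {δ η t ν k : F} (h : InTv P ![δ, η, 1] ![1, t, ν]) (hk : k ∈ K) :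
    InTv P ![δ + k, η, 1] ![1, t, ν - k] := by
  have := inTv_conj_tv h (S.scale S.h02 hk)
  convert this using 1 <;> ext i <;> fin_cases i <;> simp [E, dotProduct, Fin.sum_univ_three]

/-- A flag off the line through `E 0` is a normalised one, up to a scalar. -/
theorem normal (S : Std P K σ) {d θ : Fin 3 → F} (hθ : θ ≠ 0) (h : InTv P d θ) (hd2 : d 2 ≠ 0) :
    ∃ δ t ν : F, ∃ k ∈ K, InTv P ![δ, d 1 / d 2, 1] ![1, t, ν] ∧
      d = d 2 • ![δ, d 1 / d 2, 1] ∧ tvMat d θ = tvMat ![δ, d 1 / d 2, 1] (k • ![1, t, ν]) := by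
  have hd : d ≠ 0 := fun e => hd2 (by rw [e]; rfl)
  have hθ0 : θ 0 ≠ 0 := by
    rcases S.sep _ _ d θ (E_ne_zero 0) (E_ne_zero 2) hd hθ S.h02 h with ⟨-, e⟩ | ⟨⟨c, hc⟩, -⟩
    · rwa [dot_E] at e
    · exact absurd (by rw [hc]; simp [E]) hd2
  set k := d 2 * θ 0 with hk
  have hkK : k ∈ K := by
    have := S.prod _ _ _ _ S.h02 h
    rwa [E_dot, dot_E] at this
  have hk0 : k ≠ 0 := mul_ne_zero hd2 hθ0
  have e1 : d = d 2 • (![d 0 / d 2, d 1 / d 2, 1] : Fin 3 → F) := by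
    ext i; fin_cases i <;> simp <;> field_simp
  have e2 : d 2 • θ = k • (![1, θ 1 / θ 0, θ 2 / θ 0] : Fin 3 → F) := by
    ext i; fin_cases i <;> simp [hk] <;> field_simp
  have h' := h
  rw [e1] at h'
  have h1 := inTv_of_smul h' (by
    have := inTv_dot h'
    rw [dotProduct_smul, smul_eq_mul, mul_eq_zero] at this
    exact this.resolve_left hd2)
  rw [e2] at h1
  have h2 := S.scale h1 (K.inv_mem hkK)
  rw [smul_smul, inv_mul_cancel₀ hk0, one_smul] at h2
  refine ⟨d 0 / d 2, θ 1 / θ 0, θ 2 / θ 0, k, hkK, h2, e1, ?_⟩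
  rw [← e2, ← tvMat_smul_left, ← e1]

/-- A flag with centre on the line of `E 0` and `E 2` has its coordinate in the root field. -/
theorem mid_zero (S : Std P K σ) {δ t ν : F}
    (h : InTv P ![δ, 0, 1] ![1, t, ν]) : δ ∈ K ∧ ν = -δ ∧ t = 0 := by
  have h0 := normal_dot h
  have hν : ν = -δ := by linear_combination h0
  have p1 : δ * ν ∈ K := by
    have := S.prod _ _ _ _ S.h20 h
    rw [E_dot, dot_E] at this
    simpa using this
  have horb : InTv P ![1, 0, 1] ![-1, 0, 1] := by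
    have := inTv_conj_tv S.h02 S.h20
    convert this using 1 <;> ext i <;> fin_cases i <;> simp [E]
  have p2 : (1 - δ) * (1 + ν) ∈ K := by
    have := S.prod _ _ _ _ horb h
    simpa [dotProduct, Fin.sum_univ_three, sub_eq_neg_add] using this
  rw [S.mem, map_mul, hν, map_neg] at p1
  rw [S.mem, map_mul, map_sub, map_add, map_one, hν, map_neg] at p2
  have hδ : σ δ = δ := by
    have e1 : (2 : F) * (σ δ - δ) = 0 := by linear_combination -p2 - p1
    have e2 : (σ δ - δ) * (σ δ - δ) = 0 := by linear_combination -p1 - δ * e1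
    exact sub_eq_zero.mp (mul_self_eq_zero.mp e2)
  have hδK := (S.mem δ).mpr hδ
  have h' : InTv P ![δ, 0, 1] ![1, 0, -δ] := by
    have := S.trans0 (δ := 0) (η := 0) (t := 0) (ν := 0) (k := δ) (by
      convert S.h20 using 1 <;> ext i <;> fin_cases i <;> simp [E]) hδK
    simpa using this
  obtain ⟨-, c, hc⟩ := S.sep.flag_eq (vec_ne_zero δ 0) (axis_ne_zero 0 _) (vec_ne_zero δ 0)
    (axis_ne_zero t ν) h' h (Or.inl (inTv_dot h'))
  refine ⟨hδK, hν, ?_⟩
  simpa using congrFun hc 1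

/-- The equations of a normalised flag. -/
theorem facts (S : Std P K σ) {δ η t ν : F} (h : InTv P ![δ, η, 1] ![1, t, ν]) (hη : η ≠ 0) :
    δ ∉ K ∧ ν = -σ δ ∧ σ (σ δ) = δ ∧ η * t = σ δ - δ := by
  have h0 := normal_dot h
  have hd := vec_ne_zero δ η
  have hθ := axis_ne_zero t ν
  have notline : ∀ (u : Fin 3 → F), u 1 = 0 → ∀ c : F, (![δ, η, 1] : Fin 3 → F) ≠ c • u :=
    fun u hu c e => hη (by simpa [hu] using congrFun e 1)
  have h20 : δ ≠ 0 ∧ ν ≠ 0 := by
    rcases S.sep _ _ _ _ (E_ne_zero 2) (E_ne_zero 0) hd hθ S.h20 h with ⟨e1, e2⟩ | ⟨⟨c, hc⟩, -⟩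
    · rw [E_dot] at e1
      rw [dot_E] at e2
      exact ⟨by simpa using e1, by simpa using e2⟩
    · exact absurd hc (notline _ (by simp [E]) c)
  have orbit : ∀ k ∈ K, InTv P ![1, 0, k] ![-k, 0, 1] := fun k hk => by
    have := inTv_conj_tv S.h02 (S.scale S.h20 hk)
    convert this using 1 <;> ext i <;> fin_cases i <;> simp [E]
  have hprod : ∀ k ∈ K, (1 - k * δ) * (1 + k * ν) ∈ K ∧ 1 - k * δ ≠ 0 := fun k hk => by
    have ha : (![1, 0, k] : Fin 3 → F) ≠ 0 := fun e => by simpa using congrFun e 0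
    have hb : (![-k, 0, 1] : Fin 3 → F) ≠ 0 := fun e => by simpa using congrFun e 2
    refine ⟨?_, ?_⟩
    · have := S.prod _ _ _ _ (orbit k hk) h
      simpa [dotProduct, Fin.sum_univ_three, sub_eq_neg_add, mul_comm] using this
    · rcases S.sep _ _ _ _ ha hb hd hθ (orbit k hk) h with ⟨e, -⟩ | ⟨⟨c, hc⟩, -⟩
      · simpa [dotProduct, Fin.sum_univ_three, sub_eq_neg_add] using e
      · exact absurd hc (notline _ (by simp) c)
  have hδK : δ ∉ K := fun hδ => by
    obtain ⟨-, e⟩ := hprod δ⁻¹ (K.inv_mem hδ)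
    exact e (by rw [inv_mul_cancel₀ h20.1, sub_self])
  have p1 : σ δ * σ ν = δ * ν := by
    have := S.prod _ _ _ _ S.h20 h
    rw [E_dot, dot_E, S.mem, map_mul] at this
    simpa using this
  have p2 : σ ν - σ δ = ν - δ := by
    have := (hprod 1 K.one_mem).1
    rw [one_mul, one_mul, S.mem, map_mul, map_sub, map_add, map_one] at this
    linear_combination this + p1
  have hne : σ δ - δ ≠ 0 := sub_ne_zero.mpr fun e => hδK ((S.mem δ).mpr e)
  have hν : ν = -σ δ := by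
    have : (σ δ - δ) * (σ δ + ν) = 0 := by linear_combination p1 - σ δ * p2
    linear_combination (mul_eq_zero.mp this).resolve_left hne
  have hσν : σ ν = -δ := by linear_combination p2 + hν
  refine ⟨hδK, hν, ?_, by linear_combination h0 - hν⟩
  have := congrArg σ hν
  rw [map_neg, hσν] at this
  linear_combination this

/-- A reference flag determines the axis of any other one that it is not opposite to. -/
theorem of_reference (S : Std P K σ) {c : F} (hc0 : c ≠ 0) (hc : σ c = -c) {δ₁ η₁ : F}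
    (hη₁ : η₁ ≠ 0) (h₁ : InTv P ![δ₁, η₁, 1] ![1, c * σ η₁, -σ δ₁]) (hn₁ : σ (σ η₁) = η₁)
    (hd₁ : σ (σ δ₁) = δ₁) (he₁ : c * η₁ * σ η₁ = σ δ₁ - δ₁) {δ η t : F}
    (h : InTv P ![δ, η, 1] ![1, t, -σ δ]) (hd : σ (σ δ) = δ) (he : η * t = σ δ - δ)
    (hne : σ δ₁ - δ₁ + (σ δ - δ) ≠ 0) : σ (σ η) = η ∧ t = c * σ η := by
  obtain ⟨N, hN⟩ : ∃ N, N = δ - σ δ₁ := ⟨_, rfl⟩
  obtain ⟨e, heE⟩ : ∃ e, e = c * σ η₁ * η := ⟨_, rfl⟩
  have hσN : σ N = σ δ - δ₁ := by rw [hN, map_sub, hd₁]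
  have hσσN : σ (σ N) = N := by rw [hσN, map_sub, hd, hN]
  have hp : ∀ k ∈ K, (N + k + e) * (t * η₁ - σ N - k) ∈ K := fun k hk => by
    have := S.prod _ _ _ _ h₁ (S.trans0 h hk)
    simp only [dotProduct, Fin.sum_univ_three, Matrix.cons_val_zero, Matrix.cons_val_one,
      Matrix.cons_val, one_mul, mul_one] at this
    convert this using 1
    rw [hσN, hN, heE]
    ring
  have k0 := hp 0 K.zero_mem
  have k1 := hp 1 K.one_mem
  simp only [add_zero, sub_zero] at k0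
  rw [S.mem, map_mul, map_add, map_sub, hσσN] at k0
  rw [S.mem, map_mul, map_add, map_add, map_sub, map_sub, map_one, hσσN] at k1
  have hs : σ (t * η₁) - σ e = t * η₁ - e := by linear_combination k1 - k0
  have hee : σ e * σ (t * η₁) = e * (t * η₁) := by
    have h3 : e * (t * η₁) = (σ δ₁ - δ₁) * (σ δ - δ) := by
      rw [heE, ← he₁, ← he]; ring
    rw [← map_mul, h3, map_mul, map_sub, map_sub, hd₁, hd]
    ring
  have hfac : (N - σ N) * (t * η₁ + σ e) = 0 := by
    linear_combination -k0 + hee + σ N * hs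
  have hNn : N - σ N ≠ 0 := fun e0 => hne (by rw [hσN, hN] at e0; linear_combination -e0)
  have ht : t * η₁ = -σ e := by
    linear_combination (mul_eq_zero.mp hfac).resolve_left hNn
  have hσσe : σ (σ e) = e := by
    rw [ht, map_neg] at hs
    linear_combination -hs
  have hcη : c * σ η₁ ≠ 0 := mul_ne_zero hc0 ((map_ne_zero σ).mpr hη₁)
  constructor
  · refine mul_left_cancel₀ hcη ?_
    rw [← heE]
    conv_rhs => rw [← hσσe]
    rw [heE, map_mul, map_mul, map_mul, map_mul, hn₁, hc, map_neg, hc, neg_neg]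
  · refine mul_right_cancel₀ hη₁ ?_
    rw [ht, heE, map_mul, map_mul, hn₁, hc]
    ring

theorem exists_norm_ne (S : Std P K σ) {δ₀ : F} (h0 : δ₀ ≠ 0) :
    ∃ k ∈ K, k ≠ 0 ∧ (1 + k * δ₀) * σ (1 + k * δ₀) ≠ 1 := by
  obtain ⟨k, hk, hk0, hk1⟩ : ∃ k ∈ K, k ≠ 0 ∧ k ≠ 1 := by
    by_contra hcon
    push Not at hcon
    have hsub : (K : Set F) ⊆ {0, 1} := fun x hx => by
      by_cases hx0 : x = 0
      · exact Or.inl hx0
      · exact Or.inr (hcon x hx hx0)
    have h2 := Set.ncard_le_ncard hsub (Set.toFinite _)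
    rw [← Nat.card_coe_set_eq, SetLike.coe_sort_coe] at h2
    have := (Set.ncard_insert_le (0 : F) {1}).trans_eq (by rw [Set.ncard_singleton])
    have := S.three
    omega
  by_contra hcon
  push Not at hcon
  have e1 := hcon 1 K.one_mem one_ne_zero
  have e2 := hcon k hk hk0
  rw [map_add, map_mul, map_one, (S.mem k).mp hk] at e2
  rw [one_mul, map_add, map_one] at e1
  have : k * (1 - k) * (δ₀ * σ δ₀) = 0 := by linear_combination k * e1 - e2
  exact mul_ne_zero (mul_ne_zero hk0 (sub_ne_zero.mpr (Ne.symm hk1)))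
    (mul_ne_zero h0 ((map_ne_zero σ).mpr h0)) this

/-- The conjugates of the reference flag along the second root group. -/
theorem second_reference (S : Std P K σ) {c δ₀ : F} (hh : InTv P ![δ₀, 1, 1] ![1, c, -σ δ₀])
    (hd : σ (σ δ₀) = δ₀) {k : F} (hk : k ∈ K) (hm : 1 + k * δ₀ ≠ 0) :
    InTv P ![δ₀ / (1 + k * δ₀), (1 + k * δ₀)⁻¹, 1]
      ![1, c * σ (1 + k * δ₀)⁻¹, -σ (δ₀ / (1 + k * δ₀))] := by
  set m := 1 + k * δ₀ with hmdef
  have hσm : σ m ≠ 0 := (map_ne_zero σ).mpr hm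
  have hσmv : σ m = 1 + k * σ δ₀ := by rw [hmdef, map_add, map_mul, map_one, (S.mem k).mp hk]
  have h := inTv_conj_tv hh (S.scale S.h20 hk)
  have ec : (![δ₀, 1, 1] : Fin 3 → F) + ((k • (E 0 : Fin 3 → F)) ⬝ᵥ ![δ₀, 1, 1]) • (E 2 : Fin 3 → F)
      = m • ![δ₀ / m, m⁻¹, 1] := by
    ext i; fin_cases i <;> simp [E] <;>
      first
        | rw [mul_div_cancel₀ _ hm]
        | rw [mul_inv_cancel₀ hm]
        | rw [hmdef]
  have ea : m • ((![1, c, -σ δ₀] : Fin 3 → F) -
      ((![1, c, -σ δ₀] : Fin 3 → F) ⬝ᵥ (E 2 : Fin 3 → F)) • k • (E 0 : Fin 3 → F))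
      = (m * σ m) • ![1, c * σ m⁻¹, -σ (δ₀ / m)] := by
    ext i; fin_cases i <;> simp [E, vecHead, vecTail, map_inv₀, map_div₀] <;> field_simp <;>
        (left; rw [hσmv]; ring)
  rw [ec] at h
  have h1 := inTv_of_smul h (by
    have := inTv_dot h
    rw [dotProduct_smul, smul_eq_mul, mul_eq_zero] at this
    exact this.resolve_left hm)
  rw [ea] at h1
  have hnK : m * σ m ∈ K := by
    rw [S.mem, map_mul, hσmv]
    simp only [hmdef, map_add, map_mul, map_one, (S.mem k).mp hk, hd]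
    ring
  have h2 := S.scale h1 (K.inv_mem hnK)
  rwa [smul_smul, inv_mul_cancel₀ (mul_ne_zero hm hσm), one_smul] at h2

variable {δ₀ : F}

/-- Every normalised flag is Hermitian. -/
theorem classify (S : Std P K σ)
    (hh : InTv P ![δ₀, 1, 1] ![1, σ δ₀ - δ₀, -σ δ₀]) (hd₀ : σ (σ δ₀) = δ₀) (hδ₀ : δ₀ ∉ K)
    {δ η t ν : F} (h : InTv P ![δ, η, 1] ![1, t, ν]) :
    σ (σ δ) = δ ∧ σ (σ η) = η ∧ ν = -σ δ ∧ t = (σ δ₀ - δ₀) * σ η ∧
      (σ δ₀ - δ₀) * η * σ η = σ δ - δ := by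
  set c := σ δ₀ - δ₀ with hcdef
  have hc : σ c = -c := by rw [hcdef, map_sub, hd₀]; ring
  have hc0 : c ≠ 0 := sub_ne_zero.mpr fun e => hδ₀ ((S.mem _).mpr e)
  rcases eq_or_ne η 0 with rfl | hη
  · obtain ⟨hδK, hν, ht⟩ := S.mid_zero h
    have e := (S.mem δ).mp hδK
    exact ⟨by rw [e, e], by simp, by rw [e, hν], by simp [ht], by simp [e]⟩
  obtain ⟨-, hν, hd, he⟩ := S.facts h hη
  rw [hν] at h
  suffices hkey : σ (σ η) = η ∧ t = c * σ η by
    exact ⟨hd, hkey.1, hν, hkey.2, by rw [← he, hkey.2]; ring⟩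
  by_cases hne : c + (σ δ - δ) = 0
  · obtain ⟨k, hk, -, hn⟩ := S.exists_norm_ne (δ₀ := δ₀) (fun e => hδ₀ (by rw [e]; exact K.zero_mem))
    have hm : 1 + k * δ₀ ≠ 0 := fun e => by
      rcases eq_or_ne k 0 with rfl | hk0
      · simp at e
      · exact hδ₀ (by
          have : δ₀ = -k⁻¹ := by field_simp; linear_combination e
          rw [this]; exact K.neg_mem (K.inv_mem hk))
    set m := 1 + k * δ₀ with hmdef
    have hσm : σ m ≠ 0 := (map_ne_zero σ).mpr hm
    have hσσm : σ (σ m) = m := by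
      simp only [hmdef, map_add, map_mul, map_one, (S.mem k).mp hk, hd₀]
    have hσmv : σ m = 1 + k * σ δ₀ := by rw [hmdef, map_add, map_mul, map_one, (S.mem k).mp hk]
    have e1 : σ (δ₀ / m) - δ₀ / m = c / (m * σ m) := by
      rw [map_div₀, hcdef]
      field_simp
      rw [hσmv]
      ring
    refine S.of_reference hc0 hc (inv_ne_zero hm) (S.second_reference hh hd₀ hk hm)
      (by rw [map_inv₀, map_inv₀, hσσm]) (by rw [map_div₀, map_div₀, hd₀, hσσm]) ?_ h hd he ?_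
    · rw [e1, map_inv₀]; field_simp
    · intro e0
      rw [e1] at e0
      have e2 : c / (m * σ m) = c := by linear_combination e0 - hne
      field_simp at e2
      exact hn e2.symm
  · exact S.of_reference (δ₁ := δ₀) (η₁ := 1) hc0 hc one_ne_zero (by simpa using hh) (by simp) hd₀
      (by simp [hcdef]) h hd he hne

/-- The ratios are closed under the affine combinations over the root field. -/
theorem ee_comb (S : Std P K σ) {η' η'' z : F} (h' : EE P η') (h'' : EE P η'') (hz : z ∈ K)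
    (hz0 : z ≠ 0) : EE P (z * η'' + (1 - z) * η') := by
  obtain ⟨δ', t', ν', h'⟩ := h'
  obtain ⟨δ'', t'', ν'', h''⟩ := h''
  have e1 : (E 2 : Fin 3 → F) ⬝ᵥ ![δ', η', 1] = 1 := by rw [E_dot]; simp
  have e2 : (![1, t', ν'] : Fin 3 → F) ⬝ᵥ E 0 = 1 := by rw [dot_E]; simp
  have hCA := rowPair_mul_colPair (a := E 0) (b := ![δ', η', 1]) S.h02.1 h'.1
    (by rw [e1]; exact one_ne_zero) (by rw [e2]; exact one_ne_zero)
  set Γ := P.comap (embHom _ _ hCA)
  have hup : ∀ x ∈ K, upSL x ∈ Γ := fun x hx => by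
    obtain ⟨h0, hm⟩ := S.scale S.h02 hx
    rw [Subgroup.mem_comap]
    convert hm using 1
    exact Units.ext (by rw [embHom_upSL, e1, inv_one, mul_one]; rfl)
  have hlo : ∀ x ∈ K, loSL x ∈ Γ := fun x hx => by
    obtain ⟨h0, hm⟩ := S.scale h' hx
    rw [Subgroup.mem_comap]
    convert hm using 1
    exact Units.ext (by rw [embHom_loSL, e2, inv_one, mul_one]; rfl)
  set u : Fˣ := Units.mk0 z hz0
  have hd : dSL u ∈ Γ := by
    have e : dSL u = upSL z * loSL (-z⁻¹) * upSL z * (upSL (-1) * loSL 1 * upSL (-1)) := by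
      apply SL_ext_two <;> simp [u, SL_mul_entries, upSL_coe, loSL_coe, dSL_coe] <;> field_simp <;>
        first
          | ring1
          | simp
    rw [e]
    have m1 := K.neg_mem K.one_mem
    exact Γ.mul_mem (Γ.mul_mem (Γ.mul_mem (hup _ hz) (hlo _ (K.neg_mem (K.inv_mem hz)))) (hup _ hz))
      (Γ.mul_mem (Γ.mul_mem (hup _ m1) (hlo _ K.one_mem)) (hup _ m1))
  set G : GL (Fin 3) F := embHom _ _ hCA (dSL u)
  have hG := h''.conj (show G ∈ P from hd)
  have g2 : ((G : M3) *ᵥ ![δ'', η'', 1]) 2 = z⁻¹ := by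
    simp [G, u, embHom_val, mulVec, dotProduct, Matrix.mul_apply,
      Fin.sum_univ_two, Fin.sum_univ_three, rowPair, colPair, dSL_coe, E]
  have g1 : ((G : M3) *ᵥ ![δ'', η'', 1]) 1 = η'' + (z⁻¹ - 1) * η' := by
    simp [G, u, embHom_val, mulVec, dotProduct, Matrix.mul_apply,
      Fin.sum_univ_two, Fin.sum_univ_three, rowPair, colPair, dSL_coe, E]
    ring
  have hne : (![1, t'', ν''] : Fin 3 → F) ᵥ* ((G⁻¹ : GL (Fin 3) F) : M3) ≠ 0 := fun e =>
    axis_ne_zero t'' ν''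
      (vecMul_injective_of_isUnit (G⁻¹).isUnit (e.trans (zero_vecMul _).symm))
  obtain ⟨δ, t, ν, k, -, hn, -, -⟩ := S.normal hne hG (by rw [g2]; exact inv_ne_zero hz0)
  rw [g1, g2] at hn
  refine ⟨δ, t, ν, ?_⟩
  convert hn using 3
  field_simp

variable [Finite F]

omit [Finite F] in
theorem sq_fixed {q : ℕ} (hσ : ∀ x, σ x = x ^ q) (x : F) : x ^ (q ^ 2) = σ (σ x) := by
  rw [hσ, hσ, ← pow_mul, sq]

/-- The field of the Hermitian form. -/
theorem card_fixed_sq (S : Std P K σ) (hσ : ∀ x, σ x = x ^ Nat.card K)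
    (hh : InTv P ![δ₀, 1, 1] ![1, σ δ₀ - δ₀, -σ δ₀]) (hd₀ : σ (σ δ₀) = δ₀) (hδ₀ : δ₀ ∉ K) :
    Nat.card {x : F // σ (σ x) = x} = Nat.card K ^ 2 ∧ ∀ η, σ (σ η) = η → EE P η := by
  classical
  obtain ⟨m, hmdef⟩ : ∃ m, m = 1 + δ₀ := ⟨_, rfl⟩
  have hm : m ≠ 0 := fun e => hδ₀ (by
    have : δ₀ = -1 := by linear_combination e - hmdef
    rw [this]; exact K.neg_mem K.one_mem)
  obtain ⟨ε, hε⟩ : ∃ ε, ε = m⁻¹ := ⟨_, rfl⟩
  have hεK : ε ∉ K := fun e => hδ₀ (by
    have h1 : m ∈ K := by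
      have := K.inv_mem e
      rwa [hε, inv_inv] at this
    have := K.sub_mem h1 K.one_mem
    rwa [hmdef, add_sub_cancel_left] at this)
  have e0 : EE P 0 := ⟨0, 0, 0, by
    convert S.h20 using 1 <;> ext i <;> fin_cases i <;> simp [E]⟩
  have e1 : EE P 1 := ⟨_, _, _, hh⟩
  have eε : EE P ε := by
    have := S.second_reference hh hd₀ K.one_mem (by rw [one_mul, ← hmdef]; exact hm)
    rw [one_mul, ← hmdef, ← hε] at this
    exact ⟨_, _, _, this⟩
  have esmul : ∀ {η z : F}, EE P η → z ∈ K → EE P (z * η) := fun {η z} h hz => by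
    rcases eq_or_ne z 0 with rfl | hz0
    · rwa [zero_mul]
    · simpa using S.ee_comb e0 h hz hz0
  obtain ⟨z, hz, hz0, hz1⟩ : ∃ z ∈ K, z ≠ 0 ∧ z ≠ 1 := by
    by_contra hcon
    push Not at hcon
    have hsub : (K : Set F) ⊆ {0, 1} := fun x hx => by
      by_cases hx0 : x = 0
      · exact Or.inl hx0
      · exact Or.inr (hcon x hx hx0)
    have h2 := Set.ncard_le_ncard hsub
    rw [← Nat.card_coe_set_eq, SetLike.coe_sort_coe] at h2
    have := (Set.ncard_insert_le (0 : F) {1}).trans_eq (by rw [Set.ncard_singleton])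
    have := S.three
    omega
  have eadd : ∀ {x y : F}, EE P x → EE P y → EE P (x + y) := fun {x y} hx hy => by
    have h1 : (1 - z) ≠ 0 := sub_ne_zero.mpr (Ne.symm hz1)
    have := S.ee_comb (esmul hx (K.inv_mem (K.sub_mem K.one_mem hz))) (esmul hy (K.inv_mem hz)) hz hz0
    convert this using 1
    field_simp
    ring
  let T : Set F := Set.range fun ab : K × K => (ab.1 : F) + ab.2 * ε
  have hinj : Function.Injective fun ab : K × K => (ab.1 : F) + ab.2 * ε := by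
    rintro ⟨a, b⟩ ⟨a', b'⟩ e
    dsimp only at e
    by_cases hb : b = b'
    · subst hb
      exact Prod.ext (Subtype.ext (add_right_cancel e)) rfl
    · refine absurd ?_ hεK
      have hbb : (b : F) - b' ≠ 0 := sub_ne_zero.mpr fun h => hb (Subtype.ext h)
      have : ε = ((a' : F) - a) / (b - b') := by
        field_simp
        linear_combination e
      rw [this]
      exact K.div_mem (K.sub_mem a'.2 a.2) (K.sub_mem b.2 b'.2)
  have hT : T.ncard = Nat.card K ^ 2 := by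
    rw [← Nat.card_coe_set_eq, Nat.card_range_of_injective hinj, Nat.card_prod, sq]
  have hfix : ∀ x ∈ T, x ^ (Nat.card K ^ 2) = x := by
    rintro _ ⟨⟨a, b⟩, rfl⟩
    rw [sq_fixed hσ]
    have ha := (S.mem _).mp a.2
    have hb := (S.mem _).mp b.2
    simp only [map_add, map_mul, ha, hb, hε, hmdef, map_inv₀, map_one, hd₀]
  have hq2 : 2 ≤ Nat.card K ^ 2 := by have := S.three; nlinarith
  have hall : ∀ x, σ (σ x) = x → x ∈ T := fun x hx =>
    mem_of_pow_eq hq2 hT.ge hfix (by rw [sq_fixed hσ, hx])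
  refine ⟨?_, fun η hη => ?_⟩
  · rw [← hT, ← Nat.card_coe_set_eq]
    refine Nat.card_congr (Equiv.subtypeEquivRight fun x => ⟨hall x, fun hx => ?_⟩)
    rw [← sq_fixed hσ]
    exact hfix x hx
  · obtain ⟨⟨a, b⟩, e⟩ := hall η hη
    rw [← e]
    exact eadd (by simpa using esmul e1 a.2) (esmul eε b.2)

/-- The transvections are exactly those of the form. -/
theorem hermitian (S : Std P K σ) (hσ : ∀ x, σ x = x ^ Nat.card K)
    (hh : InTv P ![δ₀, 1, 1] ![1, σ δ₀ - δ₀, -σ δ₀]) (hd₀ : σ (σ δ₀) = δ₀) (hδ₀ : δ₀ ∉ K)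
    {c : F} (hcdef : c = σ δ₀ - δ₀) :
    (∀ (X : Fin 3 → F) (L : F), (∀ i, σ (σ (X i)) = X i) → σ L = -L →
      c * σ (X 2) * X 0 + c ^ 2 * σ (X 1) * X 1 - c * σ (X 0) * X 2 = 0 →
      InTv P X (L • ![c * σ (X 2), c ^ 2 * σ (X 1), -(c * σ (X 0))])) ∧
    ∀ a φ : Fin 3 → F, a ≠ 0 → φ ≠ 0 → InTv P a φ → ∃ (X : Fin 3 → F) (L : F),
      (∀ i, σ (σ (X i)) = X i) ∧ σ (σ L) = L ∧ σ L = -L ∧
      c * σ (X 2) * X 0 + c ^ 2 * σ (X 1) * X 1 - c * σ (X 0) * X 2 = 0 ∧
      tvMat a φ = tvMat X (L • ![c * σ (X 2), c ^ 2 * σ (X 1), -(c * σ (X 0))]) := by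
  have hc : σ c = -c := by rw [hcdef, map_sub, hd₀]; ring
  have hc0 : c ≠ 0 := by rw [hcdef]; exact sub_ne_zero.mpr fun e => hδ₀ ((S.mem _).mpr e)
  constructor
  · intro X L hX hL hiso
    by_cases h2 : X 2 = 0
    · have h1 : X 1 = 0 := by
        rw [h2, map_zero] at hiso
        have : c ^ 2 * (σ (X 1) * X 1) = 0 := by linear_combination hiso
        simpa [hc0] using this
      have e1 : X = X 0 • (E 0 : Fin 3 → F) := by
        ext i; fin_cases i <;> simp [E, h1, h2]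
      have e2 : L • (![c * σ (X 2), c ^ 2 * σ (X 1), -(c * σ (X 0))] : Fin 3 → F) =
          (-(L * c * σ (X 0))) • E 2 := by
        ext i; fin_cases i <;> simp [E, h1, h2] <;> ring
      rw [e2, e1]
      refine inTv_smul_left ?_ (by simp [E])
      rw [smul_smul]
      refine S.scale S.h02 ((S.mem _).mpr ?_)
      simp only [Pi.smul_apply, E, smul_eq_mul, Pi.single_eq_same, mul_one, map_mul, map_neg,
        hL, hc, hX]
      ring
    · set δ := X 0 / X 2 with hδ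
      set η := X 1 / X 2 with hη
      have hs2 : σ (X 2) ≠ 0 := (map_ne_zero σ).mpr h2
      have hd : σ (σ δ) = δ := by rw [hδ, map_div₀, map_div₀, hX, hX]
      have hn : σ (σ η) = η := by rw [hη, map_div₀, map_div₀, hX, hX]
      obtain ⟨δ', t, ν, h'⟩ := (S.card_fixed_sq hσ hh hd₀ hδ₀).2 η hn
      obtain ⟨hd', -, rfl, rfl, he'⟩ := S.classify hh hd₀ hδ₀ h'
      rw [← hcdef] at h' he'
      have he : c * η * σ η = σ δ - δ := by
        rw [hδ, hη, map_div₀, map_div₀]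
        field_simp
        refine mul_left_cancel₀ hc0 ?_
        linear_combination hiso
      have hk : δ - δ' ∈ K := by
        rw [S.mem, map_sub]
        linear_combination he' - he
      have h := S.trans0 h' hk
      rw [add_sub_cancel, show -σ δ' - (δ - δ') = -σ δ by linear_combination he' - he] at h
      have e1 : X = X 2 • (![δ, η, 1] : Fin 3 → F) := by
        ext i; fin_cases i <;> simp [hδ, hη] <;> field_simp
      rw [e1]
      refine inTv_smul_left ?_ ?_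
      · have e2 : X 2 • L • (![c * σ ((X 2 • (![δ, η, 1] : Fin 3 → F)) 2),
            c ^ 2 * σ ((X 2 • (![δ, η, 1] : Fin 3 → F)) 1),
            -(c * σ ((X 2 • (![δ, η, 1] : Fin 3 → F)) 0))] : Fin 3 → F) =
            (X 2 * L * (c * σ (X 2))) • ![1, c * σ η, -σ δ] := by
          ext i; fin_cases i <;> simp <;> ring
        rw [e2]
        refine S.scale h ((S.mem _).mpr ?_)
        simp only [map_mul, hX, hL, hc]
        ring
      · simp [dotProduct, Fin.sum_univ_three]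
        linear_combination L * c * σ (X 2) * he
  · intro a φ ha hφ h
    by_cases h2 : a 2 = 0
    · obtain ⟨⟨s, hs⟩, r, hr⟩ := S.sep.flag_eq (E_ne_zero 0) (E_ne_zero 2) ha hφ S.h02 h
        (Or.inl (by rw [E_dot]; exact h2))
      have hk : s * r ∈ K := by
        have h' := h
        rw [hs, hr] at h'
        have h'' := inTv_of_smul h' (by simp [E])
        rw [smul_smul] at h''
        exact (S.root _ _ (E_ne_zero 0) (E_ne_zero 2) S.h02 _).mp (mem_root.mpr h'')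
      have hkσ := (S.mem _).mp hk
      refine ⟨E 0, -(s * r) / c, fun i => ?_, ?_, ?_, ?_, ?_⟩
      · fin_cases i <;> simp [E]
      · rw [map_div₀, map_neg, hkσ, hc, map_div₀, map_neg, map_neg, hkσ, hc, neg_neg]
      · rw [map_div₀, map_neg, hkσ, hc, div_neg, neg_div]
      · simp [E]
      · rw [hs, hr, tvMat_smul_left, smul_smul]
        congr 1
        ext i; fin_cases i <;> simp [E] <;> field_simp
    · obtain ⟨δ, t, ν, k, hk, hn, -, he⟩ := S.normal hφ h h2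
      obtain ⟨hd, hη, rfl, rfl, he'⟩ := S.classify hh hd₀ hδ₀ hn
      rw [← hcdef] at he he'
      have hkσ := (S.mem _).mp hk
      refine ⟨![δ, a 1 / a 2, 1], k / c, fun i => ?_, ?_, ?_, ?_, ?_⟩
      · fin_cases i
        exacts [hd, hη, (by simp)]
      · simp [map_div₀, map_neg, hc, hkσ]
      · rw [map_div₀, hkσ, hc, div_neg]
      · simp [-map_div₀]
        linear_combination c * he'
      · rw [he]
        congr 1
        ext i; fin_cases i <;> simp <;> field_simp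

end Std

variable [Finite F]

/-- The automorphism fixing exactly the root field. -/
theorem exists_frob (K : Subfield F) : ∃ σ : F →+* F, ∀ x, σ x = x ^ Nat.card K := by
  have : Fintype K := Fintype.ofFinite K
  obtain ⟨p, hp⟩ := CharP.exists F
  have : CharP K p := RingHom.charP K.subtype K.subtype.injective p
  obtain ⟨n, hpp, hn⟩ := FiniteField.card K p
  have : Fact p.Prime := ⟨hpp⟩
  exact ⟨iterateFrobenius F p n, fun x => by rw [iterateFrobenius_def, Nat.card_eq_fintype_card, hn]⟩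

/-- Separated transvections with large root groups give a unitary group. -/
theorem isSUForm_of_separated (hP : Setting P) (hS : Separated P) {a φ : Fin 3 → F} (ha : a ≠ 0)
    (hφ : φ ≠ 0) (h : InTv P a φ) (hs : 3 ≤ Nat.card (root P a φ)) : IsSUForm P := by
  classical
  obtain ⟨b, ψ, hb, hψ, hbψ, hψa⟩ := exists_axis_off hP ha hφ h ha
  have hφb : φ ⬝ᵥ b ≠ 0 := fun e => by
    obtain ⟨-, k, hk⟩ := hS.flag_eq ha hφ hb hψ h hbψ (Or.inl e)
    exact hψa (by rw [hk, smul_dotProduct, inTv_dot h, smul_zero])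
  obtain ⟨g, i02, i20⟩ := exists_pair_frame h hbψ hφb hψa
  set lam := (φ ⬝ᵥ b) * (ψ ⬝ᵥ a)
  have hlam : lam ≠ 0 := mul_ne_zero hφb hψa
  refine isSUForm_of_cj (g := g) ?_
  set Q := cj g P
  have hQ := setting_cj hP g
  have hSQ := separated_cj hS g
  have hcard : ∀ (k : GL (Fin 3) F), 3 ≤ Nat.card (root (cj k Q) ((k : M3) *ᵥ E 0)
      (E 2 ᵥ* ((k⁻¹ : GL (Fin 3) F) : M3))) := by
    intro k
    have hga : (g : M3) *ᵥ a ≠ 0 := fun e =>
      ha (mulVec_injective_of_isUnit g.isUnit (e.trans (mulVec_zero _).symm))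
    have hgφ : φ ᵥ* ((g⁻¹ : GL (Fin 3) F) : M3) ≠ 0 := fun e =>
      hφ (vecMul_injective_of_isUnit (g⁻¹).isUnit (e.trans (zero_vecMul _).symm))
    have le : ∀ (k : GL (Fin 3) F) {R : Subgroup (GL (Fin 3) F)} (x χ : Fin 3 → F),
        Nat.card (root R x χ) ≤ Nat.card (root (cj k R) ((k : M3) *ᵥ x)
          (χ ᵥ* ((k⁻¹ : GL (Fin 3) F) : M3))) := fun k R x χ =>
      Nat.card_le_card_of_injective
        (fun c => ⟨c.1, mem_root.mpr (by simpa [smul_vecMul] using inTv_cj (g := k) (mem_root.mp c.2))⟩)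
        fun x y e => Subtype.ext (by simpa using e)
    refine le_trans ?_ (le k (R := Q) _ _)
    rw [card_root_const hQ hSQ.noMixed hga hgφ (inTv_cj h) (hs.trans (le g a φ)) (E_ne_zero 0)
      (E_ne_zero 2) i02]
    exact hs.trans (le g a φ)
  obtain ⟨d, θ, hd, hθ, hdθ, hd1⟩ := exists_centre_off hQ (E_ne_zero 0) (E_ne_zero 2) i02 (E_ne_zero 1)
  rw [E_dot] at hd1
  have hd2 : d 2 ≠ 0 := fun e => by
    obtain ⟨⟨k, hk⟩, -⟩ := hSQ.flag_eq (E_ne_zero 0) (E_ne_zero 2) hd hθ i02 hdθ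
      (Or.inl (by rw [E_dot]; exact e))
    exact hd1 (by rw [hk]; simp [E])
  let T : GL (Fin 3) F := ⟨Matrix.diagonal ![1, d 2 / d 1, 1], Matrix.diagonal ![1, d 1 / d 2, 1],
    by rw [diagonal_mul_diagonal, ← diagonal_one]; congr 1; ext i; fin_cases i <;> simp [hd1, hd2],
    by rw [diagonal_mul_diagonal, ← diagonal_one]; congr 1; ext i; fin_cases i <;> simp [hd1, hd2]⟩
  have hTv : ∀ (x : Fin 3 → F) i, ((T : M3) *ᵥ x) i = (![1, d 2 / d 1, 1] : Fin 3 → F) i * x i :=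
    fun x i => mulVec_diagonal _ _ _
  have hvT : ∀ (x : Fin 3 → F) i, (x ᵥ* ((T⁻¹ : GL (Fin 3) F) : M3)) i =
      x i * (![1, d 1 / d 2, 1] : Fin 3 → F) i := fun x i => vecMul_diagonal _ _ _
  have T0 : (T : M3) *ᵥ E 0 = E 0 := funext fun i => by rw [hTv]; fin_cases i <;> simp [E]
  have T2 : (T : M3) *ᵥ E 2 = E 2 := funext fun i => by rw [hTv]; fin_cases i <;> simp [E]
  have T2' : E 2 ᵥ* ((T⁻¹ : GL (Fin 3) F) : M3) = E 2 :=
    funext fun i => by rw [hvT]; fin_cases i <;> simp [E]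
  have T0' : (lam • E 0) ᵥ* ((T⁻¹ : GL (Fin 3) F) : M3) = lam • E 0 :=
    funext fun i => by rw [hvT]; fin_cases i <;> simp [E]
  refine isSUForm_of_cj (g := T) ?_
  set R := cj T Q
  have hR := setting_cj hQ T
  have hSR := separated_cj hSQ T
  have j02 : InTv R (E 0) (E 2) := by
    have := inTv_cj (g := T) i02
    rwa [T0, T2'] at this
  have j20' : InTv R (E 2) (lam • E 0) := by
    have := inTv_cj (g := T) i20
    rwa [T2, T0'] at this
  have hsR : 3 ≤ Nat.card (root R (E 0) (E 2)) := by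
    have := hcard T
    rwa [T0, T2'] at this
  obtain ⟨K, h3, hKm, hKr, hKp⟩ :=
    exists_rootField hR hSR (E_ne_zero 0) (E_ne_zero 2) j02 hsR
  obtain ⟨σ, hσ⟩ := exists_frob K
  have hlamK : lam ∈ K := by
    have := hKp _ _ _ _ j02 j20'
    rw [E_dot, smul_dotProduct, E_dot, smul_eq_mul] at this
    simpa [E] using this
  have j20 : InTv R (E 2) (E 0) := by
    have := mem_root.mp ((hKr _ _ (E_ne_zero 2) (smul_ne_zero hlam (E_ne_zero 0)) j20' lam⁻¹).mpr
      (K.inv_mem hlamK))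
    rwa [smul_smul, inv_mul_cancel₀ hlam, one_smul] at this
  have S : Std R K σ := ⟨hR, hSR, hKr, hKp, fun x => by rw [hσ]; exact hKm x, h3, j02, j20⟩
  have hTd := inTv_cj (g := T) hdθ
  have g2 : ((T : M3) *ᵥ d) 2 = d 2 := by rw [hTv]; simp
  have g1 : ((T : M3) *ᵥ d) 1 = d 2 := by rw [hTv]; simp; field_simp
  obtain ⟨δ₀, t₀, ν₀, k, -, hn, -, -⟩ := S.normal (fun e =>
    hθ (vecMul_injective_of_isUnit (T⁻¹).isUnit (e.trans (zero_vecMul _).symm))) hTd
    (by rw [g2]; exact hd2)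
  rw [g1, g2, div_self hd2] at hn
  obtain ⟨hδ₀, rfl, hd₀, he₀⟩ := S.facts hn one_ne_zero
  rw [one_mul] at he₀
  subst he₀
  obtain ⟨hcardfix, -⟩ := S.card_fixed_sq hσ hn hd₀ hδ₀
  obtain ⟨hin, hout⟩ := S.hermitian hσ hn hd₀ hδ₀ rfl
  set L : Subfield F := (σ.comp σ).eqLocusField (RingHom.id F)
  have hmemL : ∀ x : F, x ∈ L ↔ σ (σ x) = x := fun x => Iff.rfl
  have : Fintype L := Fintype.ofFinite L
  have hL : Fintype.card L = Nat.card K ^ 2 := by
    rw [← Nat.card_eq_fintype_card, ← hcardfix]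
    exact Nat.card_congr (Equiv.subtypeEquivRight hmemL)
  have hcσ : σ (σ δ₀ - δ₀) = -(σ δ₀ - δ₀) := by rw [map_sub, hd₀]; ring
  let c : L := ⟨σ δ₀ - δ₀, (hmemL _).mpr (by rw [hcσ, map_neg, hcσ, neg_neg])⟩
  have hc0 : c ≠ 0 := fun e =>
    hδ₀ ((S.mem _).mpr (sub_eq_zero.mp (congrArg (fun z : L => (z : F)) e)))
  have hcq : c ^ Nat.card K = -c := Subtype.ext (by push_cast; rw [← hσ]; exact hcσ)
  let H : GL (Fin 3) L := Matrix.GeneralLinearGroup.mkOfDetNeZero
    !![0, 0, c; 0, c ^ 2, 0; -c, 0, 0] (by simp [Matrix.det_fin_three, hc0])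
  have hHv : ∀ d : Fin 3 → L, ((H : Matrix (Fin 3) (Fin 3) L) *ᵥ fun i => d i ^ Nat.card K) =
      ![c * d 2 ^ Nat.card K, c ^ 2 * d 1 ^ Nat.card K, -(c * d 0 ^ Nat.card K)] := by
    intro d
    ext i; fin_cases i <;> simp [H, mulVec, dotProduct, Fin.sum_univ_three]
  have hcoe : ∀ (d : Fin 3 → L) (l : L), (fun i => (((l • ((H : Matrix (Fin 3) (Fin 3) L) *ᵥ
      fun j => d j ^ Nat.card K)) i : L) : F)) =
      (l : F) • ![(σ δ₀ - δ₀) * σ (d 2 : F), (σ δ₀ - δ₀) ^ 2 * σ (d 1 : F),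
        -((σ δ₀ - δ₀) * σ (d 0 : F))] := by
    intro d l
    ext i
    rw [hHv]
    fin_cases i <;> simp [c, hσ]
  have hdot : ∀ d : Fin 3 → L,
      ((H : Matrix (Fin 3) (Fin 3) L) *ᵥ fun i => d i ^ Nat.card K) ⬝ᵥ d = 0 ↔
      (σ δ₀ - δ₀) * σ (d 2 : F) * d 0 + (σ δ₀ - δ₀) ^ 2 * σ (d 1 : F) * d 1 -
        (σ δ₀ - δ₀) * σ (d 0 : F) * d 2 = 0 := by
    intro d
    rw [hHv, ← ZeroMemClass.coe_eq_zero]
    simp [dotProduct, Fin.sum_univ_three, c, hσ, sub_eq_add_neg]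
  refine isSUForm_of_flags hR L hL h3 H ?_ ?_ ?_ (E_ne_zero 0) (E_ne_zero 2) j02
  · have h0q : Nat.card K ≠ 0 := by omega
    have hcF : (c : F) ^ Nat.card K = -(c : F) := by rw [← hσ]; exact hcσ
    have hnF : (-(c : F)) ^ Nat.card K = (c : F) := by
      rw [← hσ, map_neg, hσ, hcF, neg_neg]
    have hsF : ((c : F) ^ 2) ^ Nat.card K = (c : F) ^ 2 := by
      rw [← pow_mul, mul_comm, pow_mul, hcF, neg_sq]
    ext i j
    rw [Matrix.transpose_apply, Matrix.map_apply]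
    fin_cases i <;> fin_cases j <;> simp [H, h0q, hcF, hnF, hsF]
  · intro d l hl hd
    rw [hcoe]
    refine hin _ _ (fun i => (hmemL _).mp (d i).2) ?_ ((hdot d).mp hd)
    have := congrArg (fun z : L => (z : F)) hl
    push_cast at this
    rw [hσ]
    exact this
  · rintro x ⟨a', φ', h0, ha', hφ', hm, rfl⟩
    obtain ⟨X, l, hX, hll, hl, hiso, he⟩ := hout a' φ' ha' hφ' ⟨h0, hm⟩
    refine ⟨fun i => ⟨X i, (hmemL _).mpr (hX i)⟩, ⟨l, (hmemL _).mpr hll⟩, ?_, ?_, ?_⟩
    · refine Subtype.ext ?_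
      push_cast
      rw [← hσ]
      exact hl
    · exact (hdot _).mpr hiso
    · rw [hcoe]
      exact he

end Cfsg.Agent.Linear.Mitchell.Tv
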