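import Cfsg.Agent.Linear.Mitchell.Tv.Mixed
import Cfsg.Agent.Linear.Mitchell.Tv.SUCase

/-!
Mitchell's theorem for subgroups of `SL₃(F)` containing a transvection.
-/

set_option autoImplicit false

namespace Cfsg.Agent.Linear.Mitchell.Tv

open scoped MatrixGroups Matrix
open Matrix Cfsg.Geo Cfsg.Agent.H95

/-- A quasi-simple absolutely irreducible subgroup of `SL₃(F)` with a transvection is `SL₃` or `SU₃`
over a subfield, or has order 168 or 360 modulo scalars. -/
theorem of_transvection {F : Type*} [Field F] [Fintype F] (p : ℕ) [Fact p.Prime] [CharP F p]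
    {P : Subgroup (GL (Fin 3) F)} (hS : Setting P) {a φ : Fin 3 → F} (ha : a ≠ 0) (hφ : φ ≠ 0)
    (h : InTv P a φ) :
    IsSLForm P ∨ IsSUForm P ∨ projCard P = 168 ∨ projCard P = 360 := by
  by_cases hN : NoMixed P
  · have hsep := separated_of_noMixed hS hN
    have h2 := two_le_card_root h
    rcases h2.eq_or_lt with e | e
    · exact (false_of_root_two hS hsep ha hφ h e.symm).elim
    · exact Or.inr (Or.inl (isSUForm_of_separated hS hsep ha hφ h e))
  · simp only [NoMixed, not_forall] at hN
    obtain ⟨b, ψ, d, θ, hb, hψ, hd, hθ, hbψ, hdθ, hne⟩ := hN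
    have key : IsSLForm P ∨ projCard P = 168 ∨ projCard P = 360 := by
      by_cases e : ψ ⬝ᵥ d = 0
      · exact of_mixed hS hb hd hψ hbψ hdθ e fun e' => hne ⟨fun _ => e', fun _ => e⟩
      · have e' : θ ⬝ᵥ b = 0 := by
          by_contra e'
          exact hne ⟨fun x => absurd x e, fun x => absurd x e'⟩
        exact of_mixed hS hd hb hθ hdθ hbψ e' e
    rcases key with e | e
    exacts [Or.inl e, Or.inr (Or.inr e)]

end Cfsg.Agent.Linear.Mitchell.Tv
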