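import Cfsg.Agent.Linear.Mitchell.Defs

/-!
Transvection flags in a quasi-simple absolutely irreducible subgroup of `GL₃(F)`: root groups,
change of basis, duality and the generation of the group by its transvections.
-/

set_option autoImplicit false

namespace Cfsg.Agent.Linear.Mitchell.Tv

open scoped MatrixGroups Matrix commutatorElement
open Matrix Cfsg.Geo Cfsg.Agent.H95

variable {F : Type*} [Field F]

section General

variable {ι : Type} [Fintype ι] [DecidableEq ι] {H : Subgroup (GL ι F)}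

theorem inTv_dot {a φ : ι → F} (h : InTv H a φ) : φ ⬝ᵥ a = 0 := h.1

theorem inTv_neg {a φ : ι → F} (h : InTv H a φ) : InTv H a (-φ) :=
  ⟨by simp [h.1], by
    have := H.inv_mem h.2
    convert this using 1
    exact Units.ext rfl⟩

theorem inTv_of_mat {a φ b ψ : ι → F} (h : InTv H a φ) (hd : ψ ⬝ᵥ b = 0)
    (e : tvMat b ψ = tvMat a φ) : InTv H b ψ :=
  ⟨hd, by convert h.2 using 1; exact Units.ext e⟩

theorem inTv_of_smul {c : F} {a φ : ι → F} (h : InTv H (c • a) φ) (h0 : φ ⬝ᵥ a = 0) :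
    InTv H a (c • φ) :=
  inTv_of_mat h (by simp [h0]) (tvMat_smul_left c a φ).symm

theorem vecMul_tvMat (a φ x : ι → F) : x ᵥ* tvMat a φ = x + (x ⬝ᵥ a) • φ := by
  rw [tvMat, vecMul_add, vecMul_one, vecMul_vecMulVec]

/-- Conjugation of a transvection by another one. -/
theorem inTv_conj_tv {a φ b ψ : ι → F} (h : InTv H a φ) (h' : InTv H b ψ) :
    InTv H (a + (ψ ⬝ᵥ a) • b) (φ - (φ ⬝ᵥ b) • ψ) := by
  have key := h.conj h'.2
  rw [tv_mulVec] at key
  rw [show ((tv b ψ h'.1)⁻¹ : GL ι F).val = tvMat b (-ψ) from rfl, vecMul_tvMat, smul_neg,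
    ← sub_eq_add_neg] at key
  exact key

/-- The commutator of two transvections with one incidence. -/
theorem inTv_mixed {a φ b ψ : ι → F} (h : InTv H a φ) (h' : InTv H b ψ) (h0 : φ ⬝ᵥ b = 0) :
    InTv H ((ψ ⬝ᵥ a) • b) φ := by
  have h1 := inTv_conj_tv h h'
  rw [h0, zero_smul, sub_zero] at h1
  have h2 := (inTv_of_mat (inTv_neg h) (ψ := φ) (b := -a) (by simp [h.1]) (by
    rw [← neg_one_smul F a, tvMat_smul_left, neg_one_smul])).add_left h1
  simpa using h2

theorem tv_comm {a φ b ψ : ι → F} (h : φ ⬝ᵥ a = 0) (h' : ψ ⬝ᵥ b = 0) (h1 : φ ⬝ᵥ b = 0)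
    (h2 : ψ ⬝ᵥ a = 0) : tv a φ h * tv b ψ h' = tv b ψ h' * tv a φ h := by
  refine Units.ext (mat_ext fun x => ?_)
  simp only [Units.val_mul, ← mulVec_mulVec, tv_mulVec, dotProduct_add, dotProduct_smul, h1, h2,
    smul_zero, add_zero]
  abel

theorem eq_zero_of_tvMat_scalar {a φ : ι → F} (h : φ ⬝ᵥ a = 0) {c : F}
    (e : tvMat a φ = c • (1 : Matrix ι ι F)) : a = 0 ∨ φ = 0 := by
  rcases eq_or_ne a 0 with ha | ha
  · exact Or.inl ha
  have h1 := congrArg (fun M => M *ᵥ a) e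
  simp only [tvMat_mulVec, h, zero_smul, add_zero, smul_mulVec, one_mulVec] at h1
  have hc : c = 1 := by
    obtain ⟨i, hi⟩ := Function.ne_iff.mp ha
    have := congrFun h1 i
    simp only [Pi.smul_apply, smul_eq_mul] at this
    exact mul_right_cancel₀ hi (by rw [one_mul]; exact this.symm)
  refine Or.inr (funext fun j => ?_)
  have h2 := congrArg (fun M => M *ᵥ (Pi.single j (1 : F))) e
  simp only [hc, tvMat_mulVec, one_smul, one_mulVec] at h2
  rw [add_eq_left, smul_eq_zero] at h2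
  simpa using h2.resolve_right ha

/-- The axes of the transvections in `H` with a given centre. -/
def axes (H : Subgroup (GL ι F)) (a : ι → F) : AddSubgroup (ι → F) where
  carrier := {φ | InTv H a φ}
  zero_mem' := inTv_zero_right H a
  add_mem' := InTv.add_right
  neg_mem' := inTv_neg

theorem mem_axes {a φ : ι → F} : φ ∈ axes H a ↔ InTv H a φ := Iff.rfl

/-- The root group of a flag, as a set of scalars. -/
def root (H : Subgroup (GL ι F)) (a φ : ι → F) : AddSubgroup F :=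
  (axes H a).comap (LinearMap.toSpanSingleton F (ι → F) φ).toAddMonoidHom

theorem mem_root {a φ : ι → F} {c : F} : c ∈ root H a φ ↔ InTv H a (c • φ) := Iff.rfl

theorem one_mem_root {a φ : ι → F} (h : InTv H a φ) : (1 : F) ∈ root H a φ := by
  rwa [mem_root, one_smul]

theorem root_mul {a φ : ι → F} {k : F} {c : F} :
    c ∈ root H a (k • φ) ↔ c * k ∈ root H a φ := by rw [mem_root, mem_root, smul_smul]

theorem card_root_pos [Finite F] (a φ : ι → F) : 0 < Nat.card (root H a φ) := Nat.card_pos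

theorem two_le_card_root [Finite F] {a φ : ι → F} (h : InTv H a φ) :
    2 ≤ Nat.card (root H a φ) := by
  have : Nontrivial (root H a φ) :=
    ⟨⟨0, ⟨1, one_mem_root h⟩, fun e => zero_ne_one (congrArg Subtype.val e)⟩⟩
  exact Finite.one_lt_card

theorem root_conj {g : GL ι F} (hg : g ∈ H) (a φ : ι → F) :
    root H ((g : Matrix ι ι F) *ᵥ a) (φ ᵥ* ((g⁻¹ : GL ι F) : Matrix ι ι F)) = root H a φ := by
  ext c
  rw [mem_root, mem_root]
  constructor
  · intro h
    have := h.conj (H.inv_mem hg)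
    rwa [mulVec_mulVec, ← Units.val_mul, inv_mul_cancel, Units.val_one, one_mulVec, smul_vecMul,
      vecMul_vecMul, ← Units.val_mul, inv_inv, inv_mul_cancel, Units.val_one, vecMul_one] at this
  · intro h
    have := h.conj hg
    rwa [smul_vecMul] at this

/-- Transvections in `H`. -/
def tvSet (H : Subgroup (GL ι F)) : Set (GL ι F) :=
  {t | ∃ (a φ : ι → F) (h : φ ⬝ᵥ a = 0), a ≠ 0 ∧ φ ≠ 0 ∧ t ∈ H ∧ t = tv a φ h}

/-- Conjugation of a subgroup, as a change of basis. -/
def cj (g : GL ι F) (H : Subgroup (GL ι F)) : Subgroup (GL ι F) :=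
  H.map (MulAut.conj g).toMonoidHom

theorem mem_cj {g x : GL ι F} : x ∈ cj g H ↔ g⁻¹ * x * g ∈ H := by
  rw [cj, Subgroup.mem_map_equiv]
  simp

theorem cj_cj (g k : GL ι F) : cj g (cj k H) = cj (g * k) H := by
  ext x
  simp [mem_cj, mul_assoc]

theorem cj_one : cj (1 : GL ι F) H = H := by
  ext x
  simp [mem_cj]

theorem inTv_cj {g : GL ι F} {a φ : ι → F} (h : InTv H a φ) :
    InTv (cj g H) ((g : Matrix ι ι F) *ᵥ a) (φ ᵥ* ((g⁻¹ : GL ι F) : Matrix ι ι F)) := by
  refine ⟨?_, ?_⟩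
  · rw [← dotProduct_mulVec, mulVec_mulVec, ← Units.val_mul, inv_mul_cancel, Units.val_one,
      one_mulVec, h.1]
  · rw [mem_cj]
    convert h.2 using 1
    refine Units.ext (mat_ext fun x => ?_)
    rw [tv_mulVec, Units.val_mul, Units.val_mul, ← mulVec_mulVec, ← mulVec_mulVec, tv_mulVec,
      mulVec_add, mulVec_smul, mulVec_mulVec _ ((g⁻¹ : GL ι F) : Matrix ι ι F), ← Units.val_mul,
      inv_mul_cancel, Units.val_one, one_mulVec, mulVec_mulVec _ ((g⁻¹ : GL ι F) : Matrix ι ι F),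
      ← Units.val_mul, inv_mul_cancel, Units.val_one, one_mulVec, ← dotProduct_mulVec,
      mulVec_mulVec, ← Units.val_mul, inv_mul_cancel, Units.val_one, one_mulVec]

/-- Inverse transpose. -/
def dual : GL ι F →* GL ι F where
  toFun g := ⟨((g⁻¹ : GL ι F) : Matrix ι ι F)ᵀ, (g : Matrix ι ι F)ᵀ,
    by rw [← transpose_mul, ← Units.val_mul, mul_inv_cancel, Units.val_one, transpose_one],
    by rw [← transpose_mul, ← Units.val_mul, inv_mul_cancel, Units.val_one, transpose_one]⟩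
  map_one' := Units.ext (by simp)
  map_mul' g h := Units.ext (by simp [transpose_mul])

theorem dual_dual (g : GL ι F) : dual (dual g) = g :=
  Units.ext (transpose_transpose _)

theorem dual_injective : Function.Injective (dual (ι := ι) (F := F)) :=
  Function.LeftInverse.injective dual_dual

theorem map_dual_dual : (H.map dual).map dual = H := by
  ext x
  simp [Subgroup.mem_map, dual_dual]

theorem inTv_dual {a φ : ι → F} (h : InTv H a φ) : InTv (H.map dual) φ a := by
  have h' : InTv H a (-φ) := inTv_neg h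
  refine ⟨by rw [dotProduct_comm]; exact h.1, ⟨tv a (-φ) h'.1, h'.2, Units.ext ?_⟩⟩
  show (tvMat a (-(-φ)))ᵀ = tvMat φ a
  rw [neg_neg, tvMat, tvMat, transpose_add, transpose_one, transpose_vecMulVec]

theorem inTv_dual_iff {a φ : ι → F} : InTv (H.map dual) φ a ↔ InTv H a φ :=
  ⟨fun h => map_dual_dual (H := H) ▸ inTv_dual h, inTv_dual⟩

theorem root_dual {a φ : ι → F} (h0 : φ ⬝ᵥ a = 0) : root (H.map dual) φ a = root H a φ := by
  ext c
  rw [mem_root, mem_root, inTv_dual_iff]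
  exact ⟨fun h => inTv_of_smul h h0, fun h => inTv_smul_left h h0⟩

theorem map_subgroupOf_eq {P : Subgroup (GL ι F)} (N : Subgroup (GL ι F))
    (f : GL ι F →* GL ι F) (hf : Function.Injective f) (h : ∀ x, f x ∈ N ↔ x ∈ N) :
    (N.subgroupOf P).map (P.equivMapOfInjective f hf : P →* P.map f) = N.subgroupOf (P.map f) := by
  refine Subgroup.ext fun y => ⟨?_, fun hy => ?_⟩
  · rintro ⟨z, hz, rfl⟩
    exact (h z).2 hz
  · obtain ⟨_, x, hx, rfl⟩ := y
    exact ⟨⟨x, hx⟩, (h x).1 hy, rfl⟩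

end General

section Three

variable {P : Subgroup (GL (Fin 3) F)}

theorem le_of_cover (hP : Setting P) {N : Subgroup (GL (Fin 3) F)}
    (hcov : ∀ x ∈ P, ∃ n ∈ N, ∃ z ∈ scalars (Fin 3) F, x = n * z) : P ≤ N := by
  have hz : ∀ z ∈ scalars (Fin 3) F, ∀ y : GL (Fin 3) F, z * y = y * z := fun z hz y => by
    obtain ⟨c, hc⟩ := (mem_scalars_iff z).mp hz
    exact Units.ext (by rw [Units.val_mul, Units.val_mul, hc, Matrix.smul_mul, Matrix.one_mul,
      Matrix.mul_smul, Matrix.mul_one])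
  rw [← hP.perfect, Subgroup.commutator_le]
  intro x hx y hy
  obtain ⟨n, hn, z, hzm, rfl⟩ := hcov x hx
  obtain ⟨m, hm, w, hwm, rfl⟩ := hcov y hy
  have e : ⁅n * z, m * w⁆ = ⁅n, m⁆ := by
    have h1 : ⁅n * z, m * w⁆ = n * (z * (m * w) * z⁻¹) * n⁻¹ * (w⁻¹ * m⁻¹) := by
      simp [commutatorElement_def, mul_assoc]
    have h2 : z * (m * w) * z⁻¹ = m * w := by rw [hz z hzm (m * w), mul_inv_cancel_right]
    have h3 : n * (m * w) * n⁻¹ = n * m * n⁻¹ * w := by
      rw [← mul_assoc n, mul_assoc (n * m), hz w hwm, ← mul_assoc]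
    rw [h1, h2, h3, commutatorElement_def, mul_assoc (n * m * n⁻¹) w, mul_inv_cancel_left]
  rw [e, commutatorElement_def]
  exact N.mul_mem (N.mul_mem (N.mul_mem hn hm) (N.inv_mem hn)) (N.inv_mem hm)

/-- The only normal subgroup containing a non-scalar element is the whole group. -/
theorem eq_of_normal (hP : Setting P) {N : Subgroup (GL (Fin 3) F)} (hle : N ≤ P)
    (hn : ∀ g ∈ P, ∀ x ∈ N, g * x * g⁻¹ ∈ N) {t : GL (Fin 3) F} (ht : t ∈ N)
    (hts : t ∉ scalars (Fin 3) F) : N = P := by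
  have := hP.simple
  have hN : (N.subgroupOf P).Normal :=
    ⟨fun x hx g => Subgroup.mem_subgroupOf.mpr (hn g g.2 x (Subgroup.mem_subgroupOf.mp hx))⟩
  set π := QuotientGroup.mk' ((scalars (Fin 3) F).subgroupOf P) with hπ
  rcases (hN.map π (QuotientGroup.mk'_surjective _)).eq_bot_or_eq_top with h | h
  · exfalso
    have : π ⟨t, hle ht⟩ ∈ (N.subgroupOf P).map π :=
      Subgroup.mem_map_of_mem _ (Subgroup.mem_subgroupOf.mpr ht)
    rw [h, Subgroup.mem_bot, hπ, QuotientGroup.mk'_apply, QuotientGroup.eq_one_iff] at this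
    exact hts (Subgroup.mem_subgroupOf.mp this)
  refine le_antisymm hle (le_of_cover hP fun x hx => ?_)
  obtain ⟨n, hn', e⟩ := (h ▸ Subgroup.mem_top (π ⟨x, hx⟩) : π ⟨x, hx⟩ ∈ (N.subgroupOf P).map π)
  rw [hπ, QuotientGroup.mk'_apply, QuotientGroup.mk'_apply, QuotientGroup.eq] at e
  exact ⟨n, Subgroup.mem_subgroupOf.mp hn', _, Subgroup.mem_subgroupOf.mp e, by simp⟩

theorem scalar_of_central (hP : Setting P) {t : GL (Fin 3) F}
    (h : ∀ g ∈ P, t * g = g * t) : t ∈ scalars (Fin 3) F := by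
  obtain ⟨c, hc⟩ := hP.abs.2 (t : Matrix (Fin 3) (Fin 3) F) (by
    rintro _ ⟨g, hg, rfl⟩
    exact congrArg Units.val (h g hg))
  have hc0 : c ≠ 0 := fun e => by
    have := t.isUnit
    rw [hc, e, zero_smul] at this
    exact not_isUnit_zero this
  exact (mem_scalars_iff t).mpr ⟨Units.mk0 c hc0, hc⟩

theorem tv_notMem_scalars {a φ : Fin 3 → F} (h : φ ⬝ᵥ a = 0) (ha : a ≠ 0) (hφ : φ ≠ 0) :
    tv a φ h ∉ scalars (Fin 3) F := fun hs => by
  obtain ⟨c, hc⟩ := (mem_scalars_iff _).mp hs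
  rcases eq_zero_of_tvMat_scalar h hc with e | e
  exacts [ha e, hφ e]

/-- A class of transvections closed under conjugation generates. -/
theorem closure_eq (hP : Setting P) {S : Set (GL (Fin 3) F)} (hS : S ⊆ tvSet P)
    (hc : ∀ g ∈ P, ∀ x ∈ S, g * x * g⁻¹ ∈ S) (hne : S.Nonempty) : Subgroup.closure S = P := by
  obtain ⟨t, ht⟩ := hne
  obtain ⟨a, φ, h, ha, hφ, -, rfl⟩ := hS ht
  refine eq_of_normal hP ((Subgroup.closure_le P).mpr fun x hx => ?_) ?_
    (Subgroup.subset_closure ht) (tv_notMem_scalars h ha hφ)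
  · obtain ⟨_, _, _, _, _, hm, -⟩ := hS hx
    exact hm
  · intro g hg x hx
    have : x ∈ (Subgroup.closure S).comap (MulAut.conj g).toMonoidHom := by
      refine (Subgroup.closure_le _).mpr (fun y hy => ?_) hx
      exact Subgroup.subset_closure (hc g hg y hy)
    exact this

theorem conj_mem_tvSet {g x : GL (Fin 3) F} (hg : g ∈ P) (hx : x ∈ tvSet P) :
    g * x * g⁻¹ ∈ tvSet P := by
  obtain ⟨a, φ, h, ha, hφ, hm, rfl⟩ := hx
  obtain ⟨h', -⟩ := InTv.conj ⟨h, hm⟩ hg
  refine ⟨_, _, h', ?_, ?_, P.mul_mem (P.mul_mem hg hm) (P.inv_mem hg), ?_⟩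
  · intro e
    refine ha (mulVec_injective_of_isUnit g.isUnit ?_)
    rw [e, mulVec_zero]
  · intro e
    refine hφ (vecMul_injective_of_isUnit (g⁻¹).isUnit ?_)
    show φ ᵥ* _ = 0 ᵥ* _
    rw [e, zero_vecMul]
  · refine Units.ext (mat_ext fun y => ?_)
    rw [tv_mulVec, Units.val_mul, Units.val_mul, ← mulVec_mulVec, ← mulVec_mulVec, tv_mulVec,
      mulVec_add, mulVec_smul, mulVec_mulVec _ (g : Matrix (Fin 3) (Fin 3) F), ← Units.val_mul,
      mul_inv_cancel, Units.val_one, one_mulVec, ← dotProduct_mulVec]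

/-- The group is generated by its transvections. -/
theorem closure_tvSet (hP : Setting P) {a φ : Fin 3 → F} (ha : a ≠ 0) (hφ : φ ≠ 0)
    (h : InTv P a φ) : Subgroup.closure (tvSet P) = P :=
  closure_eq hP le_rfl (fun _ hg _ hx => conj_mem_tvSet hg hx)
    ⟨_, a, φ, h.1, ha, hφ, h.2, rfl⟩

/-- The centres span. -/
theorem exists_centre_off (hP : Setting P) {a φ : Fin 3 → F} (ha : a ≠ 0) (hφ : φ ≠ 0)
    (h : InTv P a φ) {v : Fin 3 → F} (hv : v ≠ 0) :
    ∃ b ψ, b ≠ 0 ∧ ψ ≠ 0 ∧ InTv P b ψ ∧ v ⬝ᵥ b ≠ 0 := by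
  by_contra hc
  push Not at hc
  let W : Submodule F (Fin 3 → F) :=
    Submodule.span F {b | ∃ ψ, ψ ≠ 0 ∧ InTv P b ψ}
  have hW : W = ⊥ ∨ W = ⊤ := hP.abs.1 W (by
    rintro _ ⟨g, hg, rfl⟩
    rw [Submodule.map_span, Submodule.span_le]
    rintro _ ⟨b, ⟨ψ, hψ, hb⟩, rfl⟩
    refine Submodule.subset_span ⟨ψ ᵥ* ((g⁻¹ : GL (Fin 3) F) : Matrix (Fin 3) (Fin 3) F), ?_,
      hb.conj hg⟩
    intro e
    refine hψ (vecMul_injective_of_isUnit (g⁻¹).isUnit ?_)
    show ψ ᵥ* _ = 0 ᵥ* _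
    rw [e, zero_vecMul])
  rcases hW with e | e
  · exact ha ((Submodule.eq_bot_iff W).mp e a (Submodule.subset_span ⟨φ, hφ, h⟩))
  · obtain ⟨i, hi⟩ := Function.ne_iff.mp hv
    have hle : ∀ x ∈ W, v ⬝ᵥ x = 0 := fun x hx => by
      induction hx using Submodule.span_induction with
      | mem x hx =>
        obtain ⟨ψ, hψ, hb⟩ := hx
        rcases eq_or_ne x 0 with rfl | hx0
        · simp
        · exact hc x ψ hx0 hψ hb
      | zero => simp
      | add x y _ _ hx hy => simp [dotProduct_add, hx, hy]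
      | smul c x _ hx => simp [hx]
    exact hi (by simpa using hle (Pi.single i 1) (e ▸ Submodule.mem_top))

theorem setting_dual (hP : Setting P) : Setting (P.map (dual (ι := Fin 3) (F := F))) := by
  have hsc : ∀ x : GL (Fin 3) F, x ∈ scalars (Fin 3) F → Tv.dual x ∈ scalars (Fin 3) F := by
    intro x hx
    obtain ⟨c, hc⟩ := (mem_scalars_iff _).mp ((scalars (Fin 3) F).inv_mem hx)
    refine (mem_scalars_iff _).mpr ⟨c, ?_⟩
    show ((x⁻¹ : GL (Fin 3) F) : Matrix (Fin 3) (Fin 3) F)ᵀ = _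
    rw [hc, transpose_smul, transpose_one]
  refine ⟨?_, ?_, ?_, ?_⟩
  · rintro _ ⟨x, hx, rfl⟩
    have h1 := (specialLinear (Fin 3) F).inv_mem (hP.le_sl hx)
    rw [specialLinear, MonoidHom.mem_ker] at h1 ⊢
    refine Units.ext ?_
    rw [Matrix.GeneralLinearGroup.val_det_apply]
    show ((x⁻¹ : GL (Fin 3) F) : Matrix (Fin 3) (Fin 3) F)ᵀ.det = 1
    rw [det_transpose, ← Matrix.GeneralLinearGroup.val_det_apply, h1, Units.val_one]
  · rw [← Subgroup.map_commutator, hP.perfect]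
  · refine ⟨fun W hW => ?_, fun M hM => ?_⟩
    · -- the annihilator is invariant
      let W' : Submodule F (Fin 3 → F) :=
        { carrier := {v | ∀ w ∈ W, w ⬝ᵥ v = 0}
          zero_mem' := by simp
          add_mem' := fun {x y} hx hy w hw => by simp [dotProduct_add, hx w hw, hy w hw]
          smul_mem' := fun c x hx w hw => by simp [hx w hw] }
      rcases hP.abs.1 W' (by
        rintro _ ⟨g, hg, rfl⟩ _ ⟨v, hv, rfl⟩ w hw
        rw [Matrix.toLin'_apply, dotProduct_mulVec, ← mulVec_transpose]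
        refine hv _ ?_
        have := hW _ ⟨Tv.dual g⁻¹, ⟨g⁻¹, P.inv_mem hg, rfl⟩, rfl⟩ ⟨w, hw, rfl⟩
        simpa [Tv.dual, Matrix.toLin'_apply] using this) with e | e
      · right
        by_contra hne
        obtain ⟨f, hf, hle⟩ := W.exists_le_ker_of_lt_top (lt_top_iff_ne_top.mpr hne)
        let v : Fin 3 → F := fun i => f (Pi.single i 1)
        have hv : ∀ w, f w = w ⬝ᵥ v := fun w => by
          conv_lhs => rw [pi_eq_sum_univ w, map_sum]
          refine Finset.sum_congr rfl fun i _ => ?_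
          rw [map_smul, smul_eq_mul]
          congr 2
          ext j
          simp [Pi.single_apply, eq_comm]
        have : v ∈ W' := fun w hw => (hv w).symm.trans (hle hw)
        rw [e, Submodule.mem_bot] at this
        exact hf (LinearMap.ext fun w => by rw [hv, this, dotProduct_zero, LinearMap.zero_apply])
      · left
        refine (Submodule.eq_bot_iff W).mpr fun w hw => funext fun i => ?_
        have : (Pi.single i 1 : Fin 3 → F) ∈ W' := e ▸ Submodule.mem_top
        simpa using this w hw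
    · obtain ⟨c, hc⟩ := hP.abs.2 Mᵀ (by
        rintro _ ⟨g, hg, rfl⟩
        have h := congrArg Matrix.transpose (hM _ ⟨Tv.dual g⁻¹, ⟨g⁻¹, P.inv_mem hg, rfl⟩, rfl⟩)
        simpa [Tv.dual, transpose_mul] using h.symm)
      exact ⟨c, by rw [← transpose_transpose M, hc, transpose_smul, transpose_one]⟩
  · have := hP.simple
    let e : P ≃* P.map (Tv.dual (ι := Fin 3) (F := F)) := P.equivMapOfInjective _ dual_injective
    refine ((QuotientGroup.congr ((scalars (Fin 3) F).subgroupOf P)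
      ((scalars (Fin 3) F).subgroupOf _) e ?_).isSimpleGroup_congr).mp this
    exact map_subgroupOf_eq _ _ dual_injective fun x =>
      ⟨fun h => by simpa [dual_dual] using hsc _ h, hsc x⟩

/-- The axes span. -/
theorem exists_axis_off (hP : Setting P) {a φ : Fin 3 → F} (ha : a ≠ 0) (hφ : φ ≠ 0)
    (h : InTv P a φ) {v : Fin 3 → F} (hv : v ≠ 0) :
    ∃ b ψ, b ≠ 0 ∧ ψ ≠ 0 ∧ InTv P b ψ ∧ ψ ⬝ᵥ v ≠ 0 := by
  obtain ⟨ψ, b, hψ, hb, hi, hd⟩ :=
    exists_centre_off (setting_dual hP) hφ ha (inTv_dual h) hv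
  exact ⟨b, ψ, hb, hψ, inTv_dual_iff.mp hi, by rwa [dotProduct_comm]⟩

theorem cj_equiv_scalars (g : GL (Fin 3) F) (x : GL (Fin 3) F) :
    g * x * g⁻¹ ∈ scalars (Fin 3) F ↔ x ∈ scalars (Fin 3) F :=
  ⟨fun h => by simpa [mul_assoc] using (scalars_normal (ι := Fin 3) (F := F)).conj_mem _ h g⁻¹,
    fun h => (scalars_normal (ι := Fin 3) (F := F)).conj_mem _ h g⟩

/-- The isomorphism of the quotients by scalars. -/
noncomputable def cjQuotEquiv (g : GL (Fin 3) F) :
    P ⧸ (scalars (Fin 3) F).subgroupOf P ≃* (cj g P) ⧸ (scalars (Fin 3) F).subgroupOf (cj g P) :=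
  QuotientGroup.congr _ _ (P.equivMapOfInjective _ (MulAut.conj g).injective)
    (map_subgroupOf_eq _ _ (MulAut.conj g).injective (cj_equiv_scalars g))

theorem projCard_cj (g : GL (Fin 3) F) : projCard (cj g P) = projCard P :=
  (Nat.card_congr (cjQuotEquiv (P := P) g).toEquiv).symm

theorem setting_cj (hP : Setting P) (g : GL (Fin 3) F) : Setting (cj g P) := by
  refine ⟨?_, ?_, ?_, ?_⟩
  · rintro _ ⟨x, hx, rfl⟩
    exact (MonoidHom.normal_ker _).conj_mem _ (hP.le_sl hx) g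
  · rw [Tv.cj, ← Subgroup.map_commutator, hP.perfect]
  · have hmem : ∀ x ∈ P, g * x * g⁻¹ ∈ Tv.cj g P := fun x hx => ⟨x, hx, rfl⟩
    refine ⟨fun W hW => ?_, fun M hM => ?_⟩
    · let L := Matrix.toLin' (g : Matrix (Fin 3) (Fin 3) F)
      have hL : Function.Injective L := fun x y h =>
        mulVec_injective_of_isUnit g.isUnit (by simpa [L, Matrix.toLin'_apply] using h)
      have hLs : Function.Surjective L := LinearMap.surjective_of_injective hL
      rcases hP.abs.1 (W.comap L) (by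
        rintro _ ⟨x, hx, rfl⟩ _ ⟨v, hv, rfl⟩
        have := hW _ ⟨_, hmem x hx, rfl⟩ ⟨_, hv, rfl⟩
        show L _ ∈ W
        simpa [L, Matrix.toLin'_apply, mulVec_mulVec, Matrix.mul_assoc] using this) with e | e
      · exact Or.inl (by rw [← Submodule.map_comap_eq_of_surjective hLs W, e, Submodule.map_bot])
      · exact Or.inr (by rw [← Submodule.map_comap_eq_of_surjective hLs W, e, Submodule.map_top,
          LinearMap.range_eq_top.mpr hLs])
    · set G : Matrix (Fin 3) (Fin 3) F := (g : Matrix (Fin 3) (Fin 3) F) with hG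
      set G' : Matrix (Fin 3) (Fin 3) F := ((g⁻¹ : GL (Fin 3) F) : Matrix (Fin 3) (Fin 3) F) with hG'
      have h1 : G' * G = 1 := by rw [hG, hG', ← Units.val_mul, inv_mul_cancel, Units.val_one]
      have h2 : G * G' = 1 := by rw [hG, hG', ← Units.val_mul, mul_inv_cancel, Units.val_one]
      obtain ⟨c, hc⟩ := hP.abs.2 (G' * M * G) (by
        rintro _ ⟨x, hx, rfl⟩
        have h := hM _ ⟨_, hmem x hx, rfl⟩
        simp only [Units.val_mul] at h
        rw [← hG, ← hG'] at h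
        calc G' * M * G * (x : Matrix (Fin 3) (Fin 3) F)
            = G' * (M * (G * (x : Matrix (Fin 3) (Fin 3) F) * G')) * G := by
              simp only [Matrix.mul_assoc, h1, Matrix.mul_one]
          _ = G' * (G * (x : Matrix (Fin 3) (Fin 3) F) * G' * M) * G := by rw [h]
          _ = (x : Matrix (Fin 3) (Fin 3) F) * (G' * M * G) := by
              rw [show G' * (G * (x : Matrix (Fin 3) (Fin 3) F) * G' * M) =
                (G' * G) * ((x : Matrix (Fin 3) (Fin 3) F) * (G' * M)) by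
                simp only [Matrix.mul_assoc], h1, Matrix.one_mul]
              simp only [Matrix.mul_assoc])
      refine ⟨c, ?_⟩
      calc M = (G * G') * M * (G * G') := by rw [h2, Matrix.one_mul, Matrix.mul_one]
        _ = G * (G' * M * G) * G' := by simp only [Matrix.mul_assoc]
        _ = c • 1 := by rw [hc, Matrix.mul_smul, Matrix.mul_one, Matrix.smul_mul, h2]
  · have := hP.simple
    exact ((cjQuotEquiv (P := P) g).isSimpleGroup_congr).mp this

theorem isSLForm_of_cj {g : GL (Fin 3) F} (h : IsSLForm (Tv.cj g P)) : IsSLForm P := by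
  obtain ⟨K, k, e⟩ := h
  refine ⟨K, g⁻¹ * k, ?_⟩
  calc P = Tv.cj g⁻¹ (Tv.cj g P) := by rw [cj_cj, inv_mul_cancel, cj_one]
    _ = Tv.cj (g⁻¹ * k) ((specialLinear (Fin 3) K).map
        (Matrix.GeneralLinearGroup.map (n := Fin 3) (K.subtype : K →+* F))) := by
      rw [e, ← cj_cj g⁻¹ k]
      rfl
    _ = _ := rfl

theorem isSUForm_of_cj {g : GL (Fin 3) F} (h : IsSUForm (Tv.cj g P)) : IsSUForm P := by
  obtain ⟨K, q, k, hq, hq3, e⟩ := h
  refine ⟨K, q, g⁻¹ * k, hq, hq3, ?_⟩
  calc P = Tv.cj g⁻¹ (Tv.cj g P) := by rw [cj_cj, inv_mul_cancel, cj_one]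
    _ = Tv.cj (g⁻¹ * k) ((GU 3 K q ⊓ specialLinear (Fin 3) K).map
        (Matrix.GeneralLinearGroup.map (n := Fin 3) (K.subtype : K →+* F))) := by
      rw [e, ← cj_cj g⁻¹ k]
      rfl
    _ = _ := rfl

end Three

end Cfsg.Agent.Linear.Mitchell.Tv
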