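import Cfsg.Agent.Linear.Mitchell.Tv.SLCase
import Cfsg.Agent.PGroups.TwoGroups
import Cfsg.Agent.S0848

/-!
A middle root group of order two: the centraliser of a transvection is dihedral of order eight.
-/

set_option autoImplicit false

namespace Cfsg.Agent.Linear.Mitchell.Tv

open scoped MatrixGroups Matrix commutatorElement
open Matrix Cfsg.Geo Cfsg.Agent.H95

variable {F : Type*} [Field F] [Finite F] {P : Subgroup (GL (Fin 3) F)}

local notation "M3" => Matrix (Fin 3) (Fin 3) F

omit [Finite F] in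
theorem mem_zero_one {A : AddSubgroup F} (h : Nat.card A = 2) (h1 : (1 : F) ∈ A) {x : F}
    (hx : x ∈ A) : x = 0 ∨ x = 1 := by
  obtain ⟨u, v, huv, hall⟩ := Nat.card_eq_two_iff.mp h
  have key : ∀ z : A, z = u ∨ z = v := fun z => by
    have : z ∈ ({u, v} : Set A) := hall ▸ Set.mem_univ z
    simpa using this
  have h01 : (0 : A) ≠ ⟨1, h1⟩ := fun e => zero_ne_one (congrArg Subtype.val e)
  rcases key 0 with e0 | e0 <;> rcases key ⟨1, h1⟩ with e1 | e1 <;> rcases key ⟨x, hx⟩ with e | e <;>
    first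
      | exact absurd (e0.trans e1.symm) h01
      | exact Or.inl (congrArg Subtype.val (e.trans e0.symm))
      | exact Or.inr (congrArg Subtype.val (e.trans e1.symm))

theorem centraliser_struct (hP : Setting P) [CharP F 2]
    (R : ∀ {c : F}, c ∈ el P 0 2 → c = 0 ∨ c = 1) (i01 : InTv P (E 0) (E 1))
    (i12 : InTv P (E 1) (E 2)) (ht0 : (E 2 : Fin 3 → F) ⬝ᵥ E 0 = 0) {g : GL (Fin 3) F} (hg : g ∈ P)
    (hgt : g * tv (E 0) (E 2) ht0 = tv (E 0) (E 2) ht0 * g) :
    ∃ l u v w : F, l ≠ 0 ∧ l ^ 3 = 1 ∧ (u = 0 ∨ u = 1) ∧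
      (v = 0 ∨ v = 1) ∧ (g : M3) = l • !![1, u, w; 0, 1, v; 0, 0, 1] := by
  have two : (2 : F) = 0 := CharTwo.two_eq_zero
  obtain ⟨hx0, hxm⟩ := i01
  obtain ⟨hy0, hym⟩ := i12
  set t := tv (E 0) (E 2) ht0 with htdef
  have tval : (t : M3) = !![1, 0, 1; 0, 1, 0; 0, 0, 1] := by
    ext i j; fin_cases i <;> fin_cases j <;> simp [htdef, tvMat_apply, E]
  have hm := congrArg Units.val hgt
  rw [Units.val_mul, Units.val_mul, tval] at hm
  have ent : ∀ i j : Fin 3, ((g : M3) * (!![1, 0, 1; 0, 1, 0; 0, 0, 1] : M3)) i j =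
      ((!![1, 0, 1; 0, 1, 0; 0, 0, 1] : M3) * (g : M3)) i j := fun i j => by rw [hm]
  have a00 := ent 0 0
  have a01 := ent 0 1
  have a02 := ent 0 2
  have a12 := ent 1 2
  simp [Matrix.mul_apply, Fin.sum_univ_three] at a00 a01 a02 a12
  set l := (g : M3) 0 0 with hl
  set μ := (g : M3) 1 1 with hμ
  have g22 : (g : M3) 2 2 = l := by linear_combination -a02
  have hdet : (g : M3).det = 1 := by
    have h := hP.le_sl hg
    rw [specialLinear, MonoidHom.mem_ker] at h
    simpa using congrArg Units.val h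
  have gval : (g : M3) =
      !![l, (g : M3) 0 1, (g : M3) 0 2; 0, μ, (g : M3) 1 2; 0, 0, l] := by
    ext i j
    fin_cases i <;> fin_cases j <;> simp [hl, hμ, a00, a01, a12, g22]
  have hd : l * μ * l = 1 := by
    rw [gval, Matrix.det_fin_three] at hdet
    simp at hdet
    linear_combination hdet
  have hl0 : l ≠ 0 := fun e => one_ne_zero (by rw [← hd, e]; simp)
  -- the conjugate of the second centre
  have c1 : InTv P ((g : M3) *ᵥ E 1) (l⁻¹ • E 2) := by
    have := InTv.conj (⟨hy0, hym⟩ : InTv P (E 1) (E 2)) hg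
    convert this using 1
    refine (eq_comm.mp ?_)
    apply vecMul_injective_of_isUnit g.isUnit
    show (E 2 ᵥ* ((g⁻¹ : GL (Fin 3) F) : M3)) ᵥ* (g : M3) = (l⁻¹ • E 2) ᵥ* (g : M3)
    rw [vecMul_vecMul, ← Units.val_mul, inv_mul_cancel, Units.val_one, vecMul_one, smul_vecMul]
    ext j
    rw [gval]
    fin_cases j <;> simp [Matrix.vecMul, dotProduct, Fin.sum_univ_three, E, hl0]
  have d1 : (E 2 : Fin 3 → F) ⬝ᵥ ((g : M3) *ᵥ E 1) = 0 := by
    rw [E_dot, E, mulVec_single_one, gval]; simp
  have e1 := inTv_smul_left c1 d1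
  have hb : μ = l := by
    have h := inTv_mixed e1 (⟨hx0, hxm⟩ : InTv P (E 0) (E 1)) (E_dot_E (by decide))
    rw [E_dot] at h
    have hr : (l⁻¹ • ((g : M3) *ᵥ E 1)) 1 = l⁻¹ * μ := by
      simp [E, mulVec_single_one, hμ]
    rw [hr] at h
    have h' : l⁻¹ * μ ∈ el P 0 2 := inTv_of_smul h (E_dot_E (by decide))
    rcases R h' with e | e
    · exfalso
      have hμ0 : μ = 0 := by simpa [hl0] using e
      exact one_ne_zero (by rw [← hd, hμ0]; simp)
    · field_simp at e
      exact e
  have hu : (g : M3) 0 1 = 0 ∨ (g : M3) 0 1 = l := by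
    have h := e1.add_left (inTv_neg (⟨hy0, hym⟩ : InTv P (E 1) (E 2)) |> fun h' =>
      inTv_of_mat h' (b := -E 1) (ψ := E 2) (by simp [hy0]) (by
        rw [← neg_one_smul F (E 1), tvMat_smul_left, neg_one_smul]))
    have e : l⁻¹ • ((g : M3) *ᵥ E 1) + -E 1 = (l⁻¹ * (g : M3) 0 1) • E 0 := by
      rw [E, mulVec_single_one]
      ext i
      rw [gval]
      fin_cases i <;> simp [E, hb, hl0]
    rw [e] at h
    have h' : l⁻¹ * (g : M3) 0 1 ∈ el P 0 2 := inTv_of_smul h (E_dot_E (by decide))
    rcases R h' with e | e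
    · left; simpa [hl0] using e
    · right; field_simp at e; exact e
  have hv : (g : M3) 1 2 = 0 ∨ (g : M3) 1 2 = l := by
    have h := InTv.conj (⟨hx0, hxm⟩ : InTv P (E 0) (E 1)) hg
    have e0 : (g : M3) *ᵥ E 0 = l • E 0 := by
      rw [E, mulVec_single_one]
      ext i
      rw [gval]
      fin_cases i <;> simp
    set φ := (E 1 : Fin 3 → F) ᵥ* ((g⁻¹ : GL (Fin 3) F) : M3) with hφ
    have eφ : φ = l⁻¹ • E 1 + (-((g : M3) 1 2) * l⁻¹ * l⁻¹) • E 2 := by
      apply vecMul_injective_of_isUnit g.isUnit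
      show φ ᵥ* (g : M3) = _ ᵥ* (g : M3)
      rw [hφ, vecMul_vecMul, ← Units.val_mul, inv_mul_cancel, Units.val_one, vecMul_one]
      ext j
      rw [gval]
      fin_cases j <;> simp [Matrix.vecMul, dotProduct, Fin.sum_univ_three, E, hb, hl0]
      field_simp
      ring
    rw [e0] at h
    have h0 : φ ⬝ᵥ (E 0 : Fin 3 → F) = 0 := by rw [eφ]; simp [dot_E, E]
    have h' := (inTv_of_smul h h0).add_right (inTv_neg (⟨hx0, hxm⟩ : InTv P (E 0) (E 1)))
    have e : l • φ + -E 1 = (-((g : M3) 1 2) * l⁻¹) • E 2 := by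
      rw [eφ]
      ext j
      fin_cases j <;> simp [E, hl0]
      field_simp
    rw [e] at h'
    rcases R (show -((g : M3) 1 2) * l⁻¹ ∈ el P 0 2 from h') with e | e
    · left; simpa [hl0] using e
    · right
      field_simp at e
      linear_combination -e - l * two
  refine ⟨l, (g : M3) 0 1 / l, (g : M3) 1 2 / l, (g : M3) 0 2 / l, hl0,
    by rw [hb] at hd; linear_combination hd, ?_, ?_, ?_⟩
  · rcases hu with e | e <;> simp [e, hl0]
  · rcases hv with e | e <;> simp [e, hl0]
  · conv_lhs => rw [gval]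
    ext i j
    fin_cases i <;> fin_cases j <;> simp [hb] <;> field_simp

set_option maxHeartbeats 1000000 in
theorem projCard_of_middle_two (hP : Setting P) (h01 : (1 : F) ∈ el P 0 1)
    (h12 : (1 : F) ∈ el P 1 2) (h02 : (1 : F) ∈ el P 0 2) (hc : Nat.card (el P 0 2) = 2) :
    projCard P = 168 ∨ projCard P = 360 := by
  classical
  have two : (2 : F) = 0 := by
    have := card_nsmul_eq_zero' (G := el P 0 2) (x := ⟨1, h02⟩)
    rw [hc] at this
    simpa [nsmul_eq_mul] using congrArg Subtype.val this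
  have : CharP F 2 := CharTwo.of_one_ne_zero_of_two_eq_zero one_ne_zero two
  have R : ∀ {c : F}, c ∈ el P 0 2 → c = 0 ∨ c = 1 := fun h => mem_zero_one hc h02 h
  have i01 : InTv P (E 0) (E 1) := by simpa [el, mem_root] using h01
  have i12 : InTv P (E 1) (E 2) := by simpa [el, mem_root] using h12
  have i02 : InTv P (E 0) (E 2) := by simpa [el, mem_root] using h02
  obtain ⟨hx0, hxm⟩ := i01
  obtain ⟨hy0, hym⟩ := i12
  obtain ⟨ht0, htm⟩ := i02
  set x := tv (E 0) (E 1) hx0 with hxdef
  set y := tv (E 1) (E 2) hy0 with hydef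
  set t := tv (E 0) (E 2) ht0 with htdef
  have xval : (x : M3) = !![1, 1, 0; 0, 1, 0; 0, 0, 1] := by
    ext i j; fin_cases i <;> fin_cases j <;> simp [hxdef, tvMat_apply, E]
  have yval : (y : M3) = !![1, 0, 0; 0, 1, 1; 0, 0, 1] := by
    ext i j; fin_cases i <;> fin_cases j <;> simp [hydef, tvMat_apply, E]
  have tval : (t : M3) = !![1, 0, 1; 0, 1, 0; 0, 0, 1] := by
    ext i j; fin_cases i <;> fin_cases j <;> simp [htdef, tvMat_apply, E]
  have struct : ∀ g ∈ P, g * t = t * g → ∃ l u v w : F, l ≠ 0 ∧ l ^ 3 = 1 ∧ (u = 0 ∨ u = 1) ∧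
      (v = 0 ∨ v = 1) ∧ (g : M3) = l • !![1, u, w; 0, 1, v; 0, 0, 1] := fun g hg hgt =>
    centraliser_struct hP R ⟨hx0, hxm⟩ ⟨hy0, hym⟩ ht0 hg hgt
  set Z := (scalars (Fin 3) F).subgroupOf P with hZ
  let π := QuotientGroup.mk' Z
  have hπ : ∀ a b : P, π a = π b ↔ ∃ z ∈ scalars (Fin 3) F, (b : GL (Fin 3) F) = a * z := by
    intro a b
    rw [QuotientGroup.mk'_apply, QuotientGroup.mk'_apply, QuotientGroup.eq, hZ,
      Subgroup.mem_subgroupOf]
    constructor
    · exact fun h => ⟨_, h, by simp⟩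
    · rintro ⟨z, hz, e⟩
      simpa [e] using hz
  let X : P := ⟨x, hxm⟩
  let Y : P := ⟨y, hym⟩
  let T : P := ⟨t, htm⟩
  have hscal : ∀ z ∈ scalars (Fin 3) F, ∀ i j : Fin 3,
      (z : M3) i j = if i = j then (z : M3) 0 0 else 0 := by
    intro z hz i j
    obtain ⟨c, hc⟩ := (mem_scalars_iff z).mp hz
    rw [hc]
    split_ifs with h <;> simp [h]
  have hXT : X * T = T * X := Subtype.ext (Units.ext (by
    show (x : M3) * (t : M3) = (t : M3) * (x : M3)
    rw [xval, tval]
    ext i j; fin_cases i <;> fin_cases j <;> simp [Matrix.mul_apply, Fin.sum_univ_three]))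
  have hYT : Y * T = T * Y := Subtype.ext (Units.ext (by
    show (y : M3) * (t : M3) = (t : M3) * (y : M3)
    rw [yval, tval]
    ext i j; fin_cases i <;> fin_cases j <;> simp [Matrix.mul_apply, Fin.sum_univ_three]))
  have hxy : (X * Y) ^ 2 = T := Subtype.ext (Units.ext (by
    rw [sq]
    show (x : M3) * (y : M3) * ((x : M3) * (y : M3)) = (t : M3)
    rw [xval, yval, tval]
    ext i j
    fin_cases i <;> fin_cases j <;>
      simp [Matrix.mul_apply, Fin.sum_univ_three, CharTwo.add_self_eq_zero]))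
  have hTT : T * T = 1 := Subtype.ext (Units.ext (by
    show (t : M3) * (t : M3) = 1
    rw [tval]
    ext i j
    fin_cases i <;> fin_cases j <;>
      simp [Matrix.mul_apply, Fin.sum_univ_three, CharTwo.add_self_eq_zero]))
  have hXX : X * X = 1 := Subtype.ext (Units.ext (by
    show (x : M3) * (x : M3) = 1
    rw [xval]
    ext i j
    fin_cases i <;> fin_cases j <;>
      simp [Matrix.mul_apply, Fin.sum_univ_three, CharTwo.add_self_eq_zero]))
  have hYY : Y * Y = 1 := Subtype.ext (Units.ext (by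
    show (y : M3) * (y : M3) = 1
    rw [yval]
    ext i j
    fin_cases i <;> fin_cases j <;>
      simp [Matrix.mul_apply, Fin.sum_univ_three, CharTwo.add_self_eq_zero]))
  have hT1 : π T ≠ 1 := fun e => by
    rw [← map_one π] at e
    obtain ⟨z, hz, e'⟩ := (hπ _ _).mp e.symm
    have := hscal z hz 0 2
    rw [show z = t by simpa using e'.symm, tval] at this
    simp at this
  have hTord : orderOf (π T) = 2 :=
    orderOf_eq_prime (by rw [sq, ← map_mul, hTT, map_one]) hT1
  set C := Subgroup.centralizer ({π T} : Set (P ⧸ Z)) with hC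
  have hXC : π X ∈ C := by
    rw [hC, Subgroup.mem_centralizer_singleton_iff, ← map_mul, ← map_mul, hXT]
  have hYC : π Y ∈ C := by
    rw [hC, Subgroup.mem_centralizer_singleton_iff, ← map_mul, ← map_mul, hYT]
  -- eight elements cover the centraliser
  let f : Bool × Bool × Bool → P ⧸ Z := fun b =>
    π ((if b.1 then T else 1) * ((if b.2.1 then X else 1) * (if b.2.2 then Y else 1)))
  have hcover : ∀ q ∈ C, ∃ b, f b = q := by
    intro q hq
    obtain ⟨g, rfl⟩ := QuotientGroup.mk'_surjective Z q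
    rw [hC, Subgroup.mem_centralizer_singleton_iff, ← map_mul, ← map_mul] at hq
    obtain ⟨z, hz, e⟩ := (hπ _ _).mp hq
    obtain ⟨c, hzc⟩ := (mem_scalars_iff z).mp hz
    have hgt : (g : GL (Fin 3) F) * t = t * g := by
      have e' : t * (g : GL (Fin 3) F) = (g : GL (Fin 3) F) * t * z := e
      have h1 : (g : GL (Fin 3) F)⁻¹ * t * (g : GL (Fin 3) F) = t * z := by
        rw [mul_assoc, e']; group
      have hcomm : z * t = t * z := Units.ext (by
        rw [Units.val_mul, Units.val_mul, hzc, smul_mul_assoc, one_mul, mul_smul_comm, mul_one])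
      have htt : t * t = 1 := congrArg Subtype.val hTT
      have h2 : z * z = 1 := by
        have h3 : (t * z) * (t * z) = 1 := by
          rw [← h1]
          calc _ = (g : GL (Fin 3) F)⁻¹ * (t * t) * (g : GL (Fin 3) F) := by group
            _ = 1 := by rw [htt]; group
        calc z * z = (t * t) * (z * z) := by rw [htt, one_mul]
          _ = t * (t * z) * z := by group
          _ = t * (z * t) * z := by rw [hcomm]
          _ = (t * z) * (t * z) := by group
          _ = 1 := h3
      have hc1 : (c : F) = 1 := by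
        have h3 := congrArg (fun m : GL (Fin 3) F => (m : M3) 0 0) h2
        simp [hzc] at h3
        have : ((c : F) - 1) ^ 2 = 0 := by linear_combination h3 + (1 - (c : F)) * two
        exact sub_eq_zero.mp (pow_eq_zero_iff two_ne_zero |>.1 this)
      have hz1 : z = 1 := Units.ext (by rw [hzc, hc1, one_smul, Units.val_one])
      rw [e', hz1, mul_one]
    obtain ⟨l, u, v, w, hl, hl3, hu, hv, hg⟩ := struct g g.2 hgt
    -- split off the scalar
    have hzg : ((g : GL (Fin 3) F) ^ 4 : GL (Fin 3) F) ∈ scalars (Fin 3) F := by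
      refine (mem_scalars_iff _).mpr ⟨Units.mk0 l hl, ?_⟩
      rw [show (4 : ℕ) = 2 + 2 from rfl, pow_add, Units.val_mul, sq, Units.val_mul, hg]
      ext i j
      fin_cases i <;> fin_cases j <;> simp [Matrix.mul_apply, Fin.sum_univ_three]
      all_goals first
        | linear_combination l * hl3
        | linear_combination (2 * l ^ 4 * u) * two
        | linear_combination (2 * l ^ 4 * v) * two
        | linear_combination (2 * l ^ 4 * w + 3 * l ^ 4 * u * v) * two
    set n : P := g * (g ^ 4)⁻¹ with hn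
    have hgn : π g = π n := (hπ _ _).mpr ⟨_, (scalars (Fin 3) F).inv_mem hzg, by simp [hn]⟩
    have nval : ((n : GL (Fin 3) F) : M3) = !![1, u, w; 0, 1, v; 0, 0, 1] := by
      obtain ⟨c', hc'⟩ := (mem_scalars_iff _).mp hzg
      have h4 : (c' : F) = l := by
        have := congrArg (fun m : M3 => m 0 0) hc'
        rw [show (4 : ℕ) = 2 + 2 from rfl, pow_add, Units.val_mul, sq, Units.val_mul, hg] at this
        simp [Matrix.mul_apply, Fin.sum_univ_three] at this
        linear_combination -this + l * hl3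
      have hinv : (((g : GL (Fin 3) F) ^ 4)⁻¹ : GL (Fin 3) F).val = l⁻¹ • (1 : M3) := by
        refine Units.inv_eq_of_mul_eq_one_right ?_
        rw [hc', h4, smul_mul_smul_comm, one_mul, mul_inv_cancel₀ hl, one_smul]
      show ((g : GL (Fin 3) F) * ((g : GL (Fin 3) F) ^ 4)⁻¹ : GL (Fin 3) F).val = _
      rw [Units.val_mul, hinv, hg, smul_mul_smul_comm, mul_one, mul_inv_cancel₀ hl, one_smul]
    let bu : Bool := decide (u = 1)
    let bv : Bool := decide (v = 1)
    let m : P := n * (if bv then Y else 1) * (if bu then X else 1)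
    have mval : ((m : GL (Fin 3) F) : M3) = !![1, 0, w + u * v; 0, 1, 0; 0, 0, 1] := by
      show (((n : GL (Fin 3) F) * ((if bv then Y else 1 : P) : GL (Fin 3) F) *
        ((if bu then X else 1 : P) : GL (Fin 3) F) : GL (Fin 3) F) : M3) = _
      have eY : (((if bv then Y else 1 : P) : GL (Fin 3) F) : M3) =
          !![1, 0, 0; 0, 1, v; 0, 0, 1] := by
        rcases hv with rfl | rfl
        · rw [show bv = false by simp [bv]]
          ext i j; fin_cases i <;> fin_cases j <;> simp
        · rw [show bv = true by simp [bv]]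
          exact yval
      have eX : (((if bu then X else 1 : P) : GL (Fin 3) F) : M3) =
          !![1, u, 0; 0, 1, 0; 0, 0, 1] := by
        rcases hu with rfl | rfl
        · rw [show bu = false by simp [bu]]
          ext i j; fin_cases i <;> fin_cases j <;> simp
        · rw [show bu = true by simp [bu]]
          exact xval
      rw [Units.val_mul, Units.val_mul, nval, eY, eX]
      ext i j
      fin_cases i <;> fin_cases j <;>
        simp [Matrix.mul_apply, Fin.sum_univ_three, CharTwo.add_self_eq_zero, add_comm]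
    have hw : w + u * v ∈ el P 0 2 := by
      rw [el, mem_root]
      refine ⟨by simp [ht0], ?_⟩
      convert m.2 using 1
      refine Units.ext ?_
      rw [tv_val, mval]
      ext i j
      fin_cases i <;> fin_cases j <;> simp [tvMat_apply, E]
    have hm : m = if decide (w + u * v = 1) then T else 1 := by
      refine Subtype.ext (Units.ext ?_)
      rw [mval]
      rcases R hw with e | e <;> simp [e, T, tval]
      ext i j
      fin_cases i <;> fin_cases j <;> simp
    refine ⟨(decide (w + u * v = 1), bu, bv), ?_⟩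
    show π _ = π g
    rw [hgn]
    congr 1
    dsimp only
    rw [← hm]
    simp only [m]
    split_ifs <;> simp only [mul_one, one_mul, mul_assoc, hXX, hYY]
    · rw [← mul_assoc X X, hXX, one_mul, hYY, mul_one]
  have hle : Nat.card C ≤ 8 := by
    have h1 : Nat.card C ≤ (Set.range f).ncard := by
      rw [← SetLike.coe_sort_coe, Nat.card_coe_set_eq]
      exact Set.ncard_le_ncard (fun q hq => hcover q hq) (Set.finite_range f)
    refine h1.trans ?_
    rw [← Set.image_univ]
    refine (Set.ncard_image_le Set.finite_univ).trans ?_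
    simp
  let cX : C := ⟨π X, hXC⟩
  let cc : C := ⟨π (X * Y), by rw [map_mul]; exact C.mul_mem hXC hYC⟩
  have hcc4 : cc ^ 4 = 1 := Subtype.ext (by
    show π (X * Y) ^ 4 = 1
    rw [show (4 : ℕ) = 2 * 2 from rfl, pow_mul, ← map_pow, hxy, sq, ← map_mul, hTT, map_one])
  have hord : orderOf cc = 4 := by
    refine orderOf_eq_prime_pow (p := 2) (n := 1) ?_ hcc4
    intro e
    refine hT1 ?_
    have := congrArg Subtype.val e
    change π (X * Y) ^ (2 ^ 1) = 1 at this
    rwa [pow_one, ← map_pow, hxy] at this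
  have hnot : cX ∉ Subgroup.zpowers cc := by
    intro hm
    obtain ⟨k, hk⟩ := Subgroup.mem_zpowers_iff.mp hm
    have hcomm : cX * cc = cc * cX := hk ▸ (Commute.zpow_self cc k).eq
    refine hT1 ?_
    have h := congrArg Subtype.val hcomm
    change π X * π (X * Y) = π (X * Y) * π X at h
    rw [← hxy, sq, map_mul]
    nth_rewrite 1 [map_mul]
    calc π X * π Y * π (X * Y) = (π X * π X) * (π Y * π Y) := by
          have h' : π (X * Y) * π X = π X * π (X * Y) := h.symm
          calc π X * π Y * π (X * Y) = π (X * Y) * π X * π Y := by rw [map_mul]; group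
            _ = π X * π (X * Y) * π Y := by rw [h']
            _ = _ := by rw [map_mul]; group
      _ = 1 := by rw [← map_mul, ← map_mul, hXX, hYY, map_one, one_mul]
  have hcard : Nat.card C = 2 * 4 := by
    have h4 : Nat.card (Subgroup.zpowers cc) = 4 := by rw [Nat.card_zpowers, hord]
    have hd := (Subgroup.zpowers cc).card_subgroup_dvd_card
    rw [h4] at hd
    obtain ⟨j, hj⟩ := hd
    have hlt : 4 < Nat.card C := by
      rw [← h4]
      refine lt_of_le_of_ne (Nat.le_of_dvd Nat.card_pos
        (Subgroup.card_subgroup_dvd_card _)) fun e => hnot ?_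
      rw [Subgroup.eq_top_of_card_eq _ e]
      exact Subgroup.mem_top _
    rw [hj] at hlt hle ⊢
    have : j = 2 := by omega
    rw [this]
  have hXX' : cX ^ 2 = 1 := Subtype.ext (by
    show π X ^ 2 = 1
    rw [sq, ← map_mul, hXX, map_one])
  have hconj : cX * cc * cX⁻¹ = cc⁻¹ := by
    refine eq_inv_of_mul_eq_one_left (Subtype.ext ?_)
    show π X * π (X * Y) * (π X)⁻¹ * π (X * Y) = 1
    rw [← map_inv, ← map_mul, ← map_mul, ← map_mul,
      show X * (X * Y) * X⁻¹ * (X * Y) = (X * X) * (Y * Y) by group, hXX, hYY, mul_one, map_one]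
  obtain ⟨e⟩ := Cfsg.Agent.PGroups.nonempty_mulEquiv_dihedral hord hnot hXX' hconj hcard
  have hperf : commutator (P ⧸ Z) = ⊤ := by
    have hP' : commutator P = ⊤ := by
      refine Subgroup.map_injective P.subtype_injective ?_
      rw [commutator_def, Subgroup.map_commutator, ← MonoidHom.range_eq_map, Subgroup.range_subtype,
        hP.perfect]
    rw [commutator_def] at hP' ⊢
    rw [← Subgroup.map_top_of_surjective π (QuotientGroup.mk'_surjective Z),
      ← Subgroup.map_commutator, hP']
  exact Cfsg.Agent.S0848.result hperf (π T) hTord e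

end Cfsg.Agent.Linear.Mitchell.Tv
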