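import Cfsg.Agent.Linear.Mitchell.Tv.OneAxis
import Cfsg.Agent.S0215

/-!
Separated transvections with root groups of order two are isolated involutions: impossible by Z*.
-/

set_option autoImplicit false

namespace Cfsg.Agent.Linear.Mitchell.Tv

open scoped MatrixGroups Matrix
open Matrix Cfsg.Geo Cfsg.Agent.H95 Cfsg.Agent.Linear Cfsg.Agent.Linear.Dickson

variable {F : Type*} [Field F] {P : Subgroup (GL (Fin 3) F)}

local notation "M3" => Matrix (Fin 3) (Fin 3) F
local notation "S2" => Matrix.SpecialLinearGroup (Fin 2) F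
local notation "M2" => Matrix (Fin 2) (Fin 2) F

theorem Separated.noMixed (h : Separated P) : NoMixed P := by
  intro a φ b ψ ha hφ hb hψ h1 h2
  rcases h a φ b ψ ha hφ hb hψ h1 h2 with ⟨e1, e2⟩ | ⟨⟨c, hc⟩, d, hd⟩
  · exact iff_of_false e1 e2
  · exact iff_of_true (by rw [hc, dotProduct_smul, inTv_dot h1, smul_zero])
      (by rw [hd, smul_dotProduct, inTv_dot h1, smul_zero])

theorem trace_pow_two_pow [CharP F 2] (M : S2) (k : ℕ) :
    ((M ^ 2 ^ k : S2) : M2).trace = (M : M2).trace ^ 2 ^ k := by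
  induction k with
  | zero => simp
  | succ k ih =>
    rw [pow_succ 2 k, pow_mul, pow_mul, sq, Matrix.SpecialLinearGroup.coe_mul, SL_sq_eq,
      Matrix.trace_sub, Matrix.trace_smul, Matrix.trace_one, ih]
    simp [CharTwo.two_eq_zero, sq]

theorem embHom_injective {A : Matrix (Fin 3) (Fin 2) F} {C : Matrix (Fin 2) (Fin 3) F}
    (hCA : C * A = 1) : Function.Injective (embHom A C hCA) := by
  intro h k e
  have key : ∀ m : S2, C * (((embHom A C hCA m : GL (Fin 3) F) : M3) - 1) * A = (m : M2) - 1 := by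
    intro m
    rw [embHom_val, add_sub_cancel_left, ← Matrix.mul_assoc, ← Matrix.mul_assoc, hCA,
      Matrix.one_mul, Matrix.mul_assoc, hCA, Matrix.mul_one]
  refine Subtype.ext (sub_left_injective (b := (1 : M2)) ?_)
  show (h : M2) - 1 = (k : M2) - 1
  rw [← key h, ← key k, e]

variable [Finite F]

/-- Non-incident transvections of a group in characteristic two never lie in a common 2-group. -/
theorem not_two_power [CharP F 2] {a φ b ψ : Fin 3 → F} (h1 : φ ⬝ᵥ a = 0) (h2 : ψ ⬝ᵥ b = 0)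
    (h3 : φ ⬝ᵥ b ≠ 0) (h4 : ψ ⬝ᵥ a ≠ 0) (k : ℕ) :
    (tv a φ h1 * tv b ψ h2) ^ 2 ^ k ≠ 1 := by
  intro e
  have hCA := rowPair_mul_colPair h1 h2 h3 h4
  have eu : embHom _ _ hCA (upSL (φ ⬝ᵥ b)) = tv a φ h1 := Units.ext (by
    rw [embHom_upSL, mul_inv_cancel₀ h3, one_smul, tv_val])
  have el : embHom _ _ hCA (loSL (ψ ⬝ᵥ a)) = tv b ψ h2 := Units.ext (by
    rw [embHom_loSL, mul_inv_cancel₀ h4, one_smul, tv_val])
  rw [← eu, ← el, ← map_mul, ← map_pow, ← map_one (embHom _ _ hCA)] at e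
  have ht := congrArg (fun m : S2 => (m : M2).trace) (embHom_injective hCA e)
  rw [trace_pow_two_pow] at ht
  have htr : ((upSL (φ ⬝ᵥ b) * loSL (ψ ⬝ᵥ a) : S2) : M2).trace = (φ ⬝ᵥ b) * (ψ ⬝ᵥ a) := by
    simp [Matrix.trace_fin_two, upSL_coe, loSL_coe]
    linear_combination CharTwo.two_eq_zero (R := F)
  rw [htr] at ht
  have h0 : ((φ ⬝ᵥ b) * (ψ ⬝ᵥ a)) ^ 2 ^ k = 0 := by
    rw [ht]
    simp [CharTwo.two_eq_zero]
  exact mul_ne_zero h3 h4 (pow_eq_zero_iff (pow_ne_zero k two_ne_zero) |>.1 h0)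

set_option maxHeartbeats 1000000 in
theorem false_of_root_two (hP : Setting P) (hS : Separated P) {a φ : Fin 3 → F} (ha : a ≠ 0)
    (hφ : φ ≠ 0) (h : InTv P a φ) (h2 : Nat.card (root P a φ) = 2) : False := by
  classical
  have hN := hS.noMixed
  have hsmall : ∀ {c χ : Fin 3 → F}, c ≠ 0 → χ ≠ 0 → InTv P c χ → Nat.card (root P c χ) = 2 := by
    intro c χ hc hχ hcχ
    have := two_le_card_root hcχ
    by_contra hne
    have := card_root_const hP hN hc hχ hcχ (by omega) ha hφ h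
    omega
  have two : (2 : F) = 0 := by
    have := card_nsmul_eq_zero' (G := root P a φ) (x := ⟨1, one_mem_root h⟩)
    rw [h2] at this
    simpa [nsmul_eq_mul] using congrArg Subtype.val this
  have : CharP F 2 := CharTwo.of_one_ne_zero_of_two_eq_zero one_ne_zero two
  have : Fact (Nat.Prime 2) := ⟨Nat.prime_two⟩
  let t : P := ⟨tv a φ h.1, h.2⟩
  have htt : t * t = 1 := Subtype.ext (Units.ext (by
    show tvMat a φ * tvMat a φ = 1
    conv_lhs => rw [show tvMat a φ * tvMat a φ = tvMat a φ * tvMat a (-φ) by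
      rw [show (-φ : Fin 3 → F) = φ from funext fun i => CharTwo.neg_eq (φ i)]]
    exact tvMat_mul_neg a φ h.1))
  have ht1 : t ≠ 1 := fun e => by
    have := tv_notMem_scalars h.1 ha hφ
    rw [show tv a φ h.1 = 1 from congrArg Subtype.val e] at this
    exact this (one_mem _)
  have hto : orderOf t = 2 := orderOf_eq_prime (by rw [sq, htt]) ht1
  have hpg : IsPGroup 2 (Subgroup.zpowers t) := by
    refine IsPGroup.of_card (n := 1) ?_
    rw [Nat.card_zpowers, hto, pow_one]
  obtain ⟨S, hSle⟩ := hpg.exists_le_sylow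
  have htS : t ∈ (S : Subgroup P) := hSle (Subgroup.mem_zpowers t)
  obtain ⟨N, hN', hodd, hcomm⟩ := Cfsg.Agent.S0215.result S t hto htS (by
    intro g hg
    obtain ⟨h', hm⟩ := InTv.conj h g.2
    set b := ((g : GL (Fin 3) F) : M3) *ᵥ a
    set ψ := φ ᵥ* ((((g : GL (Fin 3) F))⁻¹ : GL (Fin 3) F) : M3)
    have hb : b ≠ 0 := fun e => ha
      (mulVec_injective_of_isUnit (g : GL (Fin 3) F).isUnit (e.trans (mulVec_zero _).symm))
    have hψ : ψ ≠ 0 := fun e => hφ
      (vecMul_injective_of_isUnit ((g : GL (Fin 3) F)⁻¹).isUnit (e.trans (zero_vecMul _).symm))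
    have egt : ((g * t * g⁻¹ : P) : GL (Fin 3) F) = tv b ψ h' := by
      refine Units.ext (mat_ext fun y => ?_)
      show ((((g : GL (Fin 3) F)) * tv a φ h.1 * ((g : GL (Fin 3) F))⁻¹ : GL (Fin 3) F) : M3) *ᵥ y = _
      rw [tv_mulVec, Units.val_mul, Units.val_mul, ← mulVec_mulVec, ← mulVec_mulVec, tv_mulVec,
        mulVec_add, mulVec_smul, mulVec_mulVec _ ((g : GL (Fin 3) F) : M3), ← Units.val_mul,
        mul_inv_cancel, Units.val_one, one_mulVec, ← dotProduct_mulVec]
    rcases hS a φ b ψ ha hφ hb hψ h ⟨h', hm⟩ with ⟨h3, h4⟩ | ⟨⟨c, hc⟩, d, hd⟩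
    · exfalso
      obtain ⟨k, hk⟩ := S.2 ⟨t * (g * t * g⁻¹), (S : Subgroup P).mul_mem htS hg⟩
      have hk' := congrArg (fun z : (S : Subgroup P) => ((z : P) : GL (Fin 3) F)) hk
      simp only [SubmonoidClass.coe_pow, Subgroup.coe_mul, Subgroup.coe_one] at hk'
      refine not_two_power h.1 h' h3 h4 k ?_
      rw [← egt]
      exact hk'
    · have hkey : InTv P a ((c * d) • φ) := by
        have h5 : InTv P (c • a) (d • φ) := hc ▸ hd ▸ ⟨h', hm⟩
        have := inTv_of_smul h5 (by rw [smul_dotProduct, h.1, smul_zero])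
        rwa [smul_smul] at this
      have hcd : c * d ≠ 0 := mul_ne_zero (fun e => hb (by rw [hc, e, zero_smul]))
        fun e => hψ (by rw [hd, e, zero_smul])
      have h1 := (mem_zero_one h2 (one_mem_root h) (mem_root.mpr hkey)).resolve_left hcd
      refine Subtype.ext ?_
      rw [egt]
      refine Units.ext ?_
      show tvMat b ψ = tvMat a φ
      rw [hc, hd, tvMat_smul_left, smul_smul, h1, one_smul])
  -- the normal subgroup consists of scalars
  have hNsc : N.map P.subtype ≤ scalars (Fin 3) F := by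
    intro x hx
    by_contra hxs
    have e := eq_of_normal hP (N := N.map P.subtype) (by
      rintro _ ⟨y, -, rfl⟩; exact y.2) (by
      intro g hg w hw
      obtain ⟨y, hy, hyw⟩ := hw
      refine ⟨(⟨g, hg⟩ : P) * y * (⟨g, hg⟩ : P)⁻¹, hN'.conj_mem y hy (⟨g, hg⟩ : P), ?_⟩
      rw [map_mul, map_mul, map_inv, Subgroup.coe_subtype, ← hyw, Subgroup.coe_subtype]) hx hxs
    obtain ⟨y, hy, ey⟩ : tv a φ h.1 ∈ N.map P.subtype := by rw [e]; exact h.2
    have hyt : y = t := Subtype.ext ey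
    subst hyt
    have hd := Subgroup.orderOf_dvd_natCard (s := N) hy
    rw [hto] at hd
    exact Nat.not_even_iff_odd.mpr hodd (even_iff_two_dvd.mpr hd)
  refine tv_notMem_scalars h.1 ha hφ (scalar_of_central hP fun g hg => ?_)
  set z : GL (Fin 3) F := ((t * ⟨g, hg⟩ * t⁻¹ * (⟨g, hg⟩ : P)⁻¹ : P) : GL (Fin 3) F) with hzdef
  have hzs : z ∈ scalars (Fin 3) F := hNsc ⟨_, hcomm ⟨g, hg⟩, rfl⟩
  obtain ⟨c, hc⟩ := (mem_scalars_iff z).mp hzs
  set T := tv a φ h.1
  have hT : T * T = 1 := congrArg Subtype.val htt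
  have hTi : T⁻¹ = T := inv_eq_of_mul_eq_one_right hT
  have hz' : z = T * g * T⁻¹ * g⁻¹ := rfl
  have hcm : z * T = T * z := Units.ext (by
    rw [Units.val_mul, Units.val_mul, hc, smul_mul_assoc, one_mul, mul_smul_comm, mul_one])
  have hzz : z * z = 1 := by
    have e1 : g * T * g⁻¹ = T * z := by
      rw [hz', hTi, ← mul_assoc, ← mul_assoc, ← mul_assoc, hT, one_mul]
    have e2 : (T * z) * (T * z) = 1 := by
      rw [← e1]
      calc _ = g * (T * T) * g⁻¹ := by group
        _ = 1 := by rw [hT]; group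
    calc z * z = (T * T) * (z * z) := by rw [hT, one_mul]
      _ = T * (T * z) * z := by group
      _ = T * (z * T) * z := by rw [hcm]
      _ = (T * z) * (T * z) := by group
      _ = 1 := e2
  have hc1 : (c : F) = 1 := by
    have h3 := congrArg (fun m : GL (Fin 3) F => (m : M3) 0 0) hzz
    simp [hc] at h3
    have : ((c : F) - 1) ^ 2 = 0 := by linear_combination h3 + (1 - (c : F)) * two
    exact sub_eq_zero.mp (pow_eq_zero_iff two_ne_zero |>.1 this)
  have hz1 : T * g * T⁻¹ * g⁻¹ = 1 := by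
    rw [← hz']; exact Units.ext (by rw [hc, hc1, one_smul, Units.val_one])
  have := mul_inv_eq_one.mp hz1
  exact mul_inv_eq_iff_eq_mul.mp this

end Cfsg.Agent.Linear.Mitchell.Tv
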