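import Cfsg.Agent.Linear.Mitchell.Tv.Dihedral

/-!
Two transvections with exactly one incidence: `SL₃` over a subfield, or order 168 or 360.
-/

set_option autoImplicit false

namespace Cfsg.Agent.Linear.Mitchell.Tv

open scoped MatrixGroups Matrix
open Matrix Cfsg.Geo Cfsg.Agent.H95

variable {F : Type*} [Field F] [Finite F] {P : Subgroup (GL (Fin 3) F)}

omit [Finite F] in
theorem eq_smul_E {χ : Fin 3 → F} (h0 : χ 0 = 0) (h1 : χ 1 = 0) :
    χ = χ 2 • (E 2 : Fin 3 → F) := by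
  ext i
  fin_cases i <;> simp [E, h0, h1]

/-- A flag with a second axis at its centre and an axis containing a second centre. -/
theorem card_axes_gt {a φ ψ : Fin 3 → F} (hne : φ ≠ 0) (hφ : InTv P a φ) (hψ : InTv P a ψ)
    (hind : ∀ c : F, ψ ≠ c • φ) : Nat.card (root P a φ) < Nat.card (axes P a) := by
  have hφ0 : ∀ c : root P a φ, (c : F) • φ ∈ axes P a := fun c => c.2
  have hψm : ψ ∈ axes P a := hψ
  let f : root P a φ ⊕ Unit → axes P a := fun z => match z with
    | Sum.inl c => ⟨(c : F) • φ, hφ0 c⟩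
    | Sum.inr _ => ⟨ψ, hψm⟩
  have hinj : Function.Injective f := by
    rintro (c | ⟨⟩) (d | ⟨⟩) e
    · have e' : (c : F) • φ = (d : F) • φ := congrArg Subtype.val e
      exact congrArg Sum.inl (Subtype.ext (smul_left_injective F hne e'))
    · exact absurd (congrArg Subtype.val e).symm (hind c)
    · exact absurd (congrArg Subtype.val e) (hind d)
    · rfl
  have := Nat.card_le_card_of_injective f hinj
  rw [Nat.card_sum, Nat.card_unique (α := Unit)] at this
  omega

theorem isSLForm_of_middle (hP : Setting P) (h01 : (1 : F) ∈ el P 0 1)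
    (h12 : (1 : F) ∈ el P 1 2) (h02 : (1 : F) ∈ el P 0 2) (hs : 3 ≤ Nat.card (el P 0 2)) :
    IsSLForm P := by
  have i01 : InTv P (E 0) (E 1) := by simpa [el, mem_root] using h01
  have i12 : InTv P (E 1) (E 2) := by simpa [el, mem_root] using h12
  have i02 : InTv P (E 0) (E 2) := by simpa [el, mem_root] using h02
  -- an opposite flag
  obtain ⟨d, θ, hd, hθ, hfl, hd2, hθ0⟩ : ∃ d θ, d ≠ 0 ∧ θ ≠ 0 ∧ InTv P d θ ∧ d 2 ≠ 0 ∧ θ 0 ≠ 0 := by
    obtain ⟨d₁, θ₁, hd₁, hθ₁, h₁, e₁⟩ :=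
      exists_axis_off hP (E_ne_zero 0) (E_ne_zero 2) i02 (E_ne_zero 0)
    rw [dot_E] at e₁
    obtain ⟨d₂, θ₂, hd₂, hθ₂, h₂, e₂⟩ :=
      exists_centre_off hP (E_ne_zero 0) (E_ne_zero 2) i02 (E_ne_zero 2)
    rw [E_dot] at e₂
    by_cases c1 : d₁ 2 = 0
    swap
    · exact ⟨d₁, θ₁, hd₁, hθ₁, h₁, c1, e₁⟩
    by_cases c2 : θ₂ 0 = 0
    swap
    · exact ⟨d₂, θ₂, hd₂, hθ₂, h₂, e₂, c2⟩
    have hdot1 := inTv_dot h₁
    have hdot2 := inTv_dot h₂
    simp only [dotProduct, Fin.sum_univ_three, c1, c2, mul_zero, zero_mul, add_zero, zero_add]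
      at hdot1 hdot2
    have hne : θ₂ 1 * d₁ 1 ≠ 0 := by
      refine mul_ne_zero (fun e => ?_) fun e => ?_
      · rw [e, zero_mul, zero_add, mul_eq_zero] at hdot2
        exact hθ₂ (by
          ext i
          fin_cases i
          exacts [c2, e, hdot2.resolve_right e₂])
      · rw [e, mul_zero, add_zero, mul_eq_zero] at hdot1
        exact hd₁ (by
          ext i
          fin_cases i
          exacts [hdot1.resolve_left e₁, e, c1])
    have hval : θ₂ ⬝ᵥ d₁ = θ₂ 1 * d₁ 1 := by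
      simp [dotProduct, Fin.sum_univ_three, c1, c2]
    refine ⟨_, _, fun e => e₂ ?_, fun e => ?_, inTv_conj_tv h₂ h₁, ?_, ?_⟩
    · simpa [c1] using congrFun e 2
    · have := congrFun e 0
      simp [c2, hval, hne, e₁] at this
    · simpa [c1] using e₂
    · simp [c2, hval, hne, e₁]
  -- an axis through the opposite centre and a centre on the opposite axis
  have hsd : Nat.card (root P d θ) = Nat.card (el P 0 2) :=
    (pair i02 hfl (by rwa [E_dot]) (by rwa [dot_E]) hs).1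
  have hV : Nat.card (root P d θ) < Nat.card (axes P (E 0)) := hsd ▸
    card_axes_gt (E_ne_zero 2) i02 i01 fun c e => by simpa [E] using congrFun e 1
  obtain ⟨φ₀, hφ₀, hφ₀n, hφ₀d⟩ := exists_axis_through (P := P) (a := E 0) (axes P (E 0))
    (fun _ h => h) hfl (by rwa [dot_E]) (hsd ▸ hs) hV
  have hsd' : Nat.card (root (P.map dual) θ d) = Nat.card (el P 0 2) := by
    rw [root_dual (inTv_dot hfl), hsd]
  have hW : Nat.card (root (P.map dual) θ d) < Nat.card (axes (P.map dual) (E 2)) := by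
    rw [hsd', el, ← root_dual (E_dot_E (by decide : (2 : Fin 3) ≠ 0))]
    exact card_axes_gt (E_ne_zero 0) (inTv_dual i02) (inTv_dual i12) fun c e => by simpa [E] using congrFun e 1
  obtain ⟨b', hb', hb'n, hb'θ⟩ := exists_axis_through (P := P.map dual) (a := E 2)
    (axes (P.map dual) (E 2)) (fun _ h => h) (inTv_dual hfl) (by rwa [dot_E]) (hsd' ▸ hs) hW
  have hb : InTv P b' (E 2) := inTv_dual_iff.mp hb'
  have hφ : InTv P (E 0) φ₀ := hφ₀
  rw [dotProduct_comm] at hb'θ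
  have hφ0 : φ₀ 0 = 0 := by simpa [dot_E] using inTv_dot hφ
  have hb2 : b' 2 = 0 := by simpa [E_dot] using inTv_dot hb
  have hφ1 : φ₀ 1 ≠ 0 := fun e => hφ₀n (by
    have h2 : φ₀ 2 * d 2 = 0 := by simpa [dotProduct, Fin.sum_univ_three, hφ0, e] using hφ₀d
    rw [eq_smul_E hφ0 e, (mul_eq_zero.mp h2).resolve_right hd2, zero_smul])
  have hb1 : b' 1 ≠ 0 := fun e => hb'n (by
    have h2 : θ 0 * b' 0 = 0 := by simpa [dotProduct, Fin.sum_univ_three, hb2, e] using hb'θ
    ext i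
    fin_cases i
    exacts [(mul_eq_zero.mp h2).resolve_left hθ0, e, hb2])
  have hφb : φ₀ ⬝ᵥ b' = φ₀ 1 * b' 1 := by simp [dotProduct, Fin.sum_univ_three, hφ0, hb2]
  -- the triangle
  have h21 : InTv P d ((θ 0) • φ₀) := by
    have := inTv_mixed hφ hfl hφ₀d
    rw [dot_E] at this
    exact inTv_of_smul this hφ₀d
  have h10 : InTv P b' ((d 2) • θ) := by
    have := inTv_mixed hfl hb hb'θ
    rw [E_dot] at this
    exact inTv_of_smul this hb'θ
  have hf : LinearIndependent F ![E 0, b', d] := by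
    have hdet : (Matrix.of ![E 0, b', d] : Matrix (Fin 3) (Fin 3) F).det ≠ 0 := by
      rw [Matrix.det_fin_three]
      simp [E, hb2, hb1, hd2]
    exact Matrix.linearIndependent_rows_iff_isUnit.mpr
      ((Matrix.isUnit_iff_isUnit_det _).mpr (isUnit_iff_ne_zero.mpr hdet))
  refine isSLForm_of_triangle hP hf ?_ ?_
  · intro i j hij
    fin_cases i <;> fin_cases j <;> first | exact absurd rfl hij | skip
    · refine ⟨φ₀, hφ, fun k hk => ?_, by simpa [hφb] using mul_ne_zero hφ1 hb1⟩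
      fin_cases k <;> first | exact absurd rfl hk | skip
      exacts [by simpa [dot_E] using hφ0, hφ₀d]
    · refine ⟨E 2, i02, fun k hk => ?_, by simpa [E_dot] using hd2⟩
      fin_cases k <;> first | exact absurd rfl hk | skip
      exacts [E_dot_E (by decide), by simpa [E_dot] using hb2]
    · refine ⟨d 2 • θ, h10, fun k hk => ?_, by simp [dot_E, hd2, hθ0]⟩
      fin_cases k <;> first | exact absurd rfl hk | skip
      exacts [by simp [hb'θ], by simp [inTv_dot hfl]]
    · refine ⟨E 2, hb, fun k hk => ?_, by simpa [E_dot] using hd2⟩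
      fin_cases k <;> first | exact absurd rfl hk | skip
      exacts [E_dot_E (by decide), by simpa [E_dot] using hb2]
    · refine ⟨θ, hfl, fun k hk => ?_, by simpa [dot_E] using hθ0⟩
      fin_cases k <;> first | exact absurd rfl hk | skip
      exacts [hb'θ, inTv_dot hfl]
    · refine ⟨θ 0 • φ₀, h21, fun k hk => ?_, by simp [hφb, hθ0, hφ1, hb1]⟩
      fin_cases k <;> first | exact absurd rfl hk | skip
      exacts [by simp [dot_E, hφ0], by simp [hφ₀d]]
  · intro χ _ hz hne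
    have z0 : χ ⬝ᵥ (E 0 : Fin 3 → F) = 0 := hz 0 (by decide)
    have z1 : χ ⬝ᵥ b' = 0 := hz 1 (by decide)
    rw [dot_E] at z0
    have hχ1 : χ 1 = 0 := by
      have : χ 1 * b' 1 = 0 := by simpa [dotProduct, Fin.sum_univ_three, z0, hb2] using z1
      exact (mul_eq_zero.mp this).resolve_right hb1
    have hχ2 : χ 2 ≠ 0 := fun e => hne (by rw [eq_smul_E z0 hχ1, e, zero_smul, zero_dotProduct])
    refine le_of_le_of_eq hs (Nat.card_congr ?_)
    show el P 0 2 ≃ root P (E 0) χ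
    have hroot : ∀ x : F, x ∈ root P (E 0) χ ↔ x * χ 2 ∈ el P 0 2 := fun x => by
      conv_lhs => rw [eq_smul_E z0 hχ1, root_mul]
      rfl
    exact
      { toFun := fun c => ⟨c.1 * (χ 2)⁻¹, (hroot _).2 (by
          rw [inv_mul_cancel_right₀ hχ2]; exact c.2)⟩
        invFun := fun c => ⟨c.1 * χ 2, (hroot _).1 c.2⟩
        left_inv := fun c => Subtype.ext (inv_mul_cancel_right₀ hχ2 _)
        right_inv := fun c => Subtype.ext (mul_inv_cancel_right₀ hχ2 _) }

/-- The mixed case. -/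
theorem of_mixed (hP : Setting P) {a φ b ψ : Fin 3 → F} (ha : a ≠ 0) (hb : b ≠ 0) (hφ : φ ≠ 0)
    (h : InTv P a φ) (h' : InTv P b ψ) (h0 : φ ⬝ᵥ b = 0) (h1 : ψ ⬝ᵥ a ≠ 0) :
    IsSLForm P ∨ projCard P = 168 ∨ projCard P = 360 := by
  set k := ψ ⬝ᵥ a
  let φ' : Fin 3 → F := k • φ
  let a' : Fin 3 → F := k⁻¹ • a
  have hbφ : InTv P b φ' := inTv_of_smul (inTv_mixed h h' h0) h0
  have haφ : InTv P a' φ' := by
    refine inTv_smul_left ?_ (by simp [φ', h.1])
    rwa [smul_smul, inv_mul_cancel₀ h1, one_smul]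
  have e1 : φ' ⬝ᵥ a' = 0 := inTv_dot haφ
  have e2 : φ' ⬝ᵥ b = 0 := inTv_dot hbφ
  have e3 : ψ ⬝ᵥ a' = 1 := by simp [a', k, inv_mul_cancel₀ h1]
  have e4 : ψ ⬝ᵥ b = 0 := inTv_dot h'
  have hφ' : φ' ≠ 0 := smul_ne_zero h1 hφ
  obtain ⟨i, hi⟩ := Function.ne_iff.mp hφ'
  let v : Fin 3 → F := (φ' i)⁻¹ • (E i : Fin 3 → F)
  let c : Fin 3 → F := v - (ψ ⬝ᵥ v) • a'
  have e5 : φ' ⬝ᵥ c = 1 := by
    simp only [c, v, dotProduct_sub, dotProduct_smul, e1, smul_zero, sub_zero, dot_E, smul_eq_mul]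
    simp; exact inv_mul_cancel₀ hi
  have e6 : ψ ⬝ᵥ c = 0 := by simp [c, dotProduct_sub, e3]
  have hf : LinearIndependent F ![b, a', c] := by
    rw [Fintype.linearIndependent_iff]
    intro g hg
    simp only [Fin.sum_univ_three, Matrix.cons_val_zero, Matrix.cons_val_one,
      Matrix.cons_val] at hg
    have g2 := congrArg (fun x => φ' ⬝ᵥ x) hg
    have g1 := congrArg (fun x => ψ ⬝ᵥ x) hg
    simp [dotProduct_add, e1, e2, e5] at g2
    simp [dotProduct_add, e3, e4, e6] at g1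
    rw [g1, g2, zero_smul, zero_smul, add_zero, add_zero, smul_eq_zero] at hg
    intro l
    fin_cases l
    exacts [hg.resolve_right hb, g1, g2]
  obtain ⟨g, hg, hrow⟩ := exists_frame hf
  have rφ : φ' ᵥ* ((g⁻¹ : GL (Fin 3) F) : Matrix (Fin 3) (Fin 3) F) = E 2 := by
    ext j
    rw [hrow]
    fin_cases j <;> simp [E, e1, e2, e5]
  have rψ : ψ ᵥ* ((g⁻¹ : GL (Fin 3) F) : Matrix (Fin 3) (Fin 3) F) = E 1 := by
    ext j
    rw [hrow]
    fin_cases j <;> simp [E, e3, e4, e6]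
  have g0 : (g : Matrix (Fin 3) (Fin 3) F) *ᵥ b = E 0 := hg 0
  have g1 : (g : Matrix (Fin 3) (Fin 3) F) *ᵥ a' = E 1 := hg 1
  have i02 := inTv_cj (g := g) hbφ
  have i01 := inTv_cj (g := g) h'
  have i12 := inTv_cj (g := g) haφ
  rw [g0, rφ] at i02
  rw [g0, rψ] at i01
  rw [g1, rφ] at i12
  rcases eq_or_lt_of_le (two_le_card_root i02) with hs | hs
  · right
    rw [← projCard_cj g]
    exact projCard_of_middle_two (setting_cj hP g) (one_mem_root i01) (one_mem_root i12)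
      (one_mem_root i02) hs.symm
  · left
    exact isSLForm_of_cj (isSLForm_of_middle (setting_cj hP g) (one_mem_root i01) (one_mem_root i12)
      (one_mem_root i02) hs)

end Cfsg.Agent.Linear.Mitchell.Tv
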