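import Cfsg.Agent.Linear.Mitchell.Tv.Mixed

/-!
No pair with exactly one incidence: a centre has one axis and distinct flags are never incident.
-/

set_option autoImplicit false

namespace Cfsg.Agent.Linear.Mitchell.Tv

open scoped MatrixGroups Matrix
open Matrix Cfsg.Geo Cfsg.Agent.H95 Cfsg.Agent.Linear Cfsg.Agent.Linear.Dickson

variable {F : Type*} [Field F] {P : Subgroup (GL (Fin 3) F)}

local notation "M3" => Matrix (Fin 3) (Fin 3) F
local notation "S2" => Matrix.SpecialLinearGroup (Fin 2) F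
local notation "M2" => Matrix (Fin 2) (Fin 2) F

/-- The action on the first two coordinates. -/
def topBlock (A : Matrix (Fin 3) (Fin 3) F) : Matrix (Fin 2) (Fin 2) F :=
  !![A 0 0, A 0 1; A 1 0, A 1 1]

/-- Incidence of transvections is symmetric. -/
def NoMixed (P : Subgroup (GL (Fin 3) F)) : Prop :=
  ∀ a φ b ψ : Fin 3 → F, a ≠ 0 → φ ≠ 0 → b ≠ 0 → ψ ≠ 0 → InTv P a φ → InTv P b ψ →
    (φ ⬝ᵥ b = 0 ↔ ψ ⬝ᵥ a = 0)

/-- Two transvections are non-incident or belong to the same flag. -/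
def Separated (P : Subgroup (GL (Fin 3) F)) : Prop :=
  ∀ a φ b ψ : Fin 3 → F, a ≠ 0 → φ ≠ 0 → b ≠ 0 → ψ ≠ 0 → InTv P a φ → InTv P b ψ →
    (φ ⬝ᵥ b ≠ 0 ∧ ψ ⬝ᵥ a ≠ 0) ∨ ((∃ c : F, b = c • a) ∧ ∃ c : F, ψ = c • φ)

theorem NoMixed.dual (h : NoMixed P) : NoMixed (P.map Tv.dual) := by
  intro a φ b ψ ha hφ hb hψ h1 h2
  rw [dotProduct_comm φ, dotProduct_comm ψ]
  exact (h φ a ψ b hφ ha hψ hb (inTv_dual_iff.mp h1) (inTv_dual_iff.mp h2)).symm

theorem ne_smul_cases {a b : Fin 3 → F} (h : ∀ c : F, b ≠ c • a) {x y : F}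
    (e : x • a + y • b = 0) : y = 0 := by
  by_contra hy
  refine h (-x / y) ?_
  have e' : y • b = (-x) • a := by rw [neg_smul, eq_neg_iff_add_eq_zero, add_comm, e]
  calc b = y⁻¹ • (y • b) := (inv_smul_smul₀ hy b).symm
    _ = _ := by rw [e', smul_smul, mul_comm, div_eq_mul_inv]

/-- Functionals killing two independent vectors are proportional. -/
theorem exists_smul_of_kill {u v θ θ' : Fin 3 → F} (hu : u ≠ 0) (hv : ∀ c : F, v ≠ c • u)
    (hθ : θ ≠ 0) (h1 : θ ⬝ᵥ u = 0) (h2 : θ ⬝ᵥ v = 0) (h1' : θ' ⬝ᵥ u = 0) (h2' : θ' ⬝ᵥ v = 0) :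
    ∃ c : F, θ' = c • θ := by
  obtain ⟨k, hk⟩ := Function.ne_iff.mp hθ
  refine ⟨θ' k / θ k, ?_⟩
  set η := θ' - (θ' k / θ k) • θ with hη
  have e1 : η ⬝ᵥ u = 0 := by simp [hη, sub_dotProduct, h1, h1']
  have e2 : η ⬝ᵥ v = 0 := by simp [hη, sub_dotProduct, h2, h2']
  have e3 : η ⬝ᵥ (E k : Fin 3 → F) = 0 := by
    rw [dot_E, hη]
    show θ' k - θ' k / θ k * θ k = 0
    rw [div_mul_cancel₀ _ hk, sub_self]
  refine sub_eq_zero.mp (show η = 0 from ?_)
  by_contra hne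
  have hf : LinearIndependent F ![u, v, (E k : Fin 3 → F)] := by
    rw [Fintype.linearIndependent_iff]
    intro g hg
    simp only [Fin.sum_univ_three, Matrix.cons_val_zero, Matrix.cons_val_one,
      Matrix.cons_val] at hg
    have g2 := congrArg (fun x => θ ⬝ᵥ x) hg
    simp [dotProduct_add, h1, h2, dot_E] at g2
    have g2 : g 2 = 0 := g2.resolve_right hk
    rw [g2, zero_smul, add_zero] at hg
    have g1 := ne_smul_cases hv hg
    rw [g1, zero_smul, add_zero, smul_eq_zero] at hg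
    intro l
    fin_cases l
    exacts [hg.resolve_right hu, g1, g2]
  obtain ⟨g, -, hrow⟩ := exists_frame hf
  refine hne (vecMul_injective_of_isUnit (g⁻¹).isUnit ?_)
  show η ᵥ* ((g⁻¹ : GL (Fin 3) F) : M3) = 0 ᵥ* _
  rw [zero_vecMul]
  ext j
  rw [hrow]
  fin_cases j
  exacts [e1, e2, e3]

variable [Finite F]

/-- All root groups have the same order. -/
theorem card_root_const (hP : Setting P) (hN : NoMixed P) {a φ : Fin 3 → F} (ha : a ≠ 0)
    (hφ : φ ≠ 0) (h : InTv P a φ) (hs : 3 ≤ Nat.card (root P a φ)) {b ψ : Fin 3 → F} (hb : b ≠ 0)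
    (hψ : ψ ≠ 0) (h' : InTv P b ψ) : Nat.card (root P b ψ) = Nat.card (root P a φ) := by
  by_contra hne
  let S : Set (GL (Fin 3) F) := {t | ∃ (c χ : Fin 3 → F) (e : χ ⬝ᵥ c = 0), c ≠ 0 ∧ χ ≠ 0 ∧
    tv c χ e ∈ P ∧ Nat.card (root P c χ) = Nat.card (root P a φ) ∧ t = tv c χ e}
  have hgen : Subgroup.closure S = P := by
    refine closure_eq hP ?_ ?_ ⟨_, a, φ, h.1, ha, hφ, h.2, rfl, rfl⟩
    · rintro _ ⟨c, χ, e, h1, h2, h3, -, rfl⟩
      exact ⟨c, χ, e, h1, h2, h3, rfl⟩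
    · rintro g hg _ ⟨c, χ, e, h1, h2, h3, h4, rfl⟩
      obtain ⟨e', h5⟩ := InTv.conj (⟨e, h3⟩ : InTv P c χ) hg
      refine ⟨_, _, e', ?_, ?_, h5, ?_, ?_⟩
      · intro z
        exact h1 (mulVec_injective_of_isUnit g.isUnit (z.trans (mulVec_zero _).symm))
      · intro z
        exact h2 (vecMul_injective_of_isUnit (g⁻¹).isUnit (z.trans (zero_vecMul _).symm))
      · rw [root_conj hg]; exact h4
      · refine Units.ext (mat_ext fun y => ?_)
        rw [tv_mulVec, Units.val_mul, Units.val_mul, ← mulVec_mulVec, ← mulVec_mulVec, tv_mulVec,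
          mulVec_add, mulVec_smul, mulVec_mulVec _ (g : M3), ← Units.val_mul, mul_inv_cancel,
          Units.val_one, one_mulVec, ← dotProduct_mulVec]
  have hcomm : ∀ g ∈ S, tv b ψ h'.1 * g = g * tv b ψ h'.1 := by
    rintro _ ⟨c, χ, e, h1, h2, h3, h4, rfl⟩
    have hi := incident_of_card_ne (⟨e, h3⟩ : InTv P c χ) h' (h4 ▸ hs) (h4 ▸ hne)
    have hiff := hN c χ b ψ h1 h2 hb hψ ⟨e, h3⟩ h'
    refine tv_comm h'.1 e ?_ ?_
    · exact hi.elim hiff.mp id
    · exact hi.elim id hiff.mpr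
  refine tv_notMem_scalars h'.1 hb hψ (scalar_of_central hP fun g hg => ?_)
  rw [← hgen] at hg
  induction hg using Subgroup.closure_induction with
  | mem x hx => exact hcomm x hx
  | one => simp
  | mul x y _ _ hx hy => rw [← mul_assoc, hx, mul_assoc, hy, mul_assoc]
  | inv x _ hx =>
    exact ((show Commute (tv b ψ h'.1) x from hx).inv_right).eq

set_option maxHeartbeats 1000000 in
/-- The plane parameters of the axes at two non-incident centres, in standard position. -/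
theorem axes_pair_std (hN : NoMixed P) [CharP F 2] (hsl : P ≤ specialLinear (Fin 3) F)
    (h4 : 4 ≤ Nat.card (axes P (E 0))) {χ : Fin 3 → F} (hχ : InTv P (E 1) χ) (hχ0 : χ 0 ≠ 0) :
    Nat.card (axes P (E 1)) = Nat.card (axes P (E 0)) ∧ ∃ K : Subfield F,
      Nat.card K = Nat.card (axes P (E 0)) ∧
      ∀ θ ∈ axes P (E 0), ∀ ω ∈ axes P (E 1), θ 1 * ω 0 ∈ K := by
  classical
  have hz0 : ∀ {θ}, InTv P (E 0) θ → θ 0 = 0 := fun h => by simpa [dot_E] using inTv_dot h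
  have hz1 : ∀ {θ}, InTv P (E 1) θ → θ 1 = 0 := fun h => by simpa [dot_E] using inTv_dot h
  have hχne : χ ≠ 0 := fun e => hχ0 (by rw [e]; rfl)
  have inj0 : ∀ {θ}, InTv P (E 0) θ → θ 1 = 0 → θ = 0 := fun {θ} h h1 => by
    by_contra hne
    refine hχ0 ?_
    have := (hN _ θ _ χ (E_ne_zero 0) hne (E_ne_zero 1) hχne h hχ).mp (by rw [dot_E]; exact h1)
    rwa [dot_E] at this
  obtain ⟨θ₁, hθ₁, hθ₁n⟩ : ∃ θ, InTv P (E 0) θ ∧ θ ≠ 0 := by
    by_contra hc
    push Not at hc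
    have : Nat.card (axes P (E 0)) ≤ 1 := Finite.card_le_one_iff_subsingleton.mpr
      ⟨fun x y => Subtype.ext ((hc x x.2).trans (hc y y.2).symm)⟩
    omega
  have hθ₁1 : θ₁ 1 ≠ 0 := fun e => hθ₁n (inj0 hθ₁ e)
  have inj1 : ∀ {ω}, InTv P (E 1) ω → ω 0 = 0 → ω = 0 := fun {ω} h h1 => by
    by_contra hne
    refine hθ₁1 ?_
    have := (hN _ ω _ θ₁ (E_ne_zero 1) hne (E_ne_zero 0) hθ₁n h hθ₁).mp (by rw [dot_E]; exact h1)
    rwa [dot_E] at this
  -- elements of the group fixing the plane and trivial modulo it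
  let S : Subgroup (GL (Fin 3) F) :=
    { carrier := {g | g ∈ P ∧ (g : M3) 2 0 = 0 ∧ (g : M3) 2 1 = 0 ∧ (g : M3) 2 2 = 1}
      one_mem' := ⟨P.one_mem, by simp, by simp, by simp⟩
      mul_mem' := by
        rintro g h ⟨hg, a0, a1, a2⟩ ⟨hh, b0, b1, b2⟩
        refine ⟨P.mul_mem hg hh, ?_, ?_, ?_⟩ <;>
          simp [Units.val_mul, Matrix.mul_apply, Fin.sum_univ_three, a0, a1, a2, b0, b1, b2]
      inv_mem' := by
        rintro g ⟨hg, a0, a1, a2⟩
        have e : ((g⁻¹ : GL (Fin 3) F) : M3) * (g : M3) = 1 := by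
          rw [← Units.val_mul, inv_mul_cancel, Units.val_one]
        have e' : (g : M3) * ((g⁻¹ : GL (Fin 3) F) : M3) = 1 := by
          rw [← Units.val_mul, mul_inv_cancel, Units.val_one]
        have k : ∀ j : Fin 3, ((g⁻¹ : GL (Fin 3) F) : M3) 2 j = (1 : M3) 2 j := fun j => by
          rw [← e', Matrix.mul_apply, Fin.sum_univ_three, a0, a1, a2]
          simp
        exact ⟨P.inv_mem hg, k 0, k 1, k 2⟩ }
  have hdet : ∀ g : S, ((g : GL (Fin 3) F) : M3).det = 1 := fun g => by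
    have h := hsl g.2.1
    rw [specialLinear, MonoidHom.mem_ker] at h
    simpa using congrArg Units.val h
  let ρ : S →* S2 :=
    { toFun := fun g => ⟨topBlock ((g : GL (Fin 3) F) : M3), by
        have := hdet g
        rw [Matrix.det_fin_three, g.2.2.1, g.2.2.2.1, g.2.2.2.2] at this
        rw [topBlock, Matrix.det_fin_two_of]
        linear_combination this⟩
      map_one' := Subtype.ext (by
        show topBlock (1 : M3) = (1 : M2)
        ext i j
        fin_cases i <;> fin_cases j <;> simp [topBlock])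
      map_mul' := fun g h => Subtype.ext (by
        show topBlock (((g : GL (Fin 3) F) : M3) * ((h : GL (Fin 3) F) : M3)) =
          topBlock ((g : GL (Fin 3) F) : M3) * topBlock ((h : GL (Fin 3) F) : M3)
        ext i j
        fin_cases i <;> fin_cases j <;>
          simp [topBlock, Matrix.mul_apply, Fin.sum_univ_two, Fin.sum_univ_three, h.2.2.1,
            h.2.2.2.1]) }
  have hρ : ∀ (g : S) (i j : Fin 2), ((ρ g : S2) : M2) i j =
      topBlock ((g : GL (Fin 3) F) : M3) i j := fun _ _ _ => rfl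
  have hker : ∀ g : S, ρ g = 1 → g = 1 := by
    intro g hg
    have e00 := congrArg (fun z : S2 => (z : M2) 0 0) hg
    have e01 := congrArg (fun z : S2 => (z : M2) 0 1) hg
    have e10 := congrArg (fun z : S2 => (z : M2) 1 0) hg
    have e11 := congrArg (fun z : S2 => (z : M2) 1 1) hg
    simp [hρ, topBlock] at e00 e01 e10 e11
    let w : Fin 3 → F := ![((g : GL (Fin 3) F) : M3) 0 2, ((g : GL (Fin 3) F) : M3) 1 2, 0]
    have hw : InTv P w (E 2) := by
      refine ⟨by simp [dotProduct, Fin.sum_univ_three, E, w], ?_⟩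
      convert g.2.1 using 1
      refine Units.ext ?_
      rw [tv_val]
      ext i j
      fin_cases i <;> fin_cases j <;>
        simp [tvMat_apply, E, w, e00, e01, e10, e11, g.2.2.1, g.2.2.2.1, g.2.2.2.2]
    have hw0 : w = 0 := by
      by_contra hne
      have a := (hN _ θ₁ _ (E 2) (E_ne_zero 0) hθ₁n hne (E_ne_zero 2) hθ₁ hw).mpr
        (E_dot_E (by decide))
      have b := (hN _ χ _ (E 2) (E_ne_zero 1) hχne hne (E_ne_zero 2) hχ hw).mpr
        (E_dot_E (by decide))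
      simp [dotProduct, Fin.sum_univ_three, w, hz0 hθ₁, hz1 hχ, hθ₁1, hχ0] at a b
      exact hne (by ext i; fin_cases i <;> simp [w, a, b])
    have hu : ((g : GL (Fin 3) F) : M3) 0 2 = 0 := by simpa [w] using congrFun hw0 0
    have hv : ((g : GL (Fin 3) F) : M3) 1 2 = 0 := by simpa [w] using congrFun hw0 1
    refine Subtype.ext (Units.ext ?_)
    ext i j
    fin_cases i <;> fin_cases j <;>
      simp [e00, e01, e10, e11, hu, hv, g.2.2.1, g.2.2.2.1, g.2.2.2.2]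
  have hinj : Function.Injective ρ := (injective_iff_map_eq_one ρ).mpr hker
  set Γ := ρ.range
  have hSθ : ∀ {θ} (h : InTv P (E 0) θ), tv (E 0) θ h.1 ∈ S := fun {θ} h =>
    ⟨h.2, by simp [tvMat_apply, E], by simp [tvMat_apply, E], by simp [tvMat_apply, E]⟩
  have hSω : ∀ {ω} (h : InTv P (E 1) ω), tv (E 1) ω h.1 ∈ S := fun {ω} h =>
    ⟨h.2, by simp [tvMat_apply, E], by simp [tvMat_apply, E], by simp [tvMat_apply, E]⟩
  have hupm : ∀ {θ}, InTv P (E 0) θ → θ 1 ∈ upA Γ := fun {θ} h => by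
    refine ⟨⟨_, hSθ h⟩, ?_⟩
    apply SL_ext_two <;> simp [hρ, topBlock, tvMat_apply, E, upSL_coe, hz0 h]
  have hlom : ∀ {ω}, InTv P (E 1) ω → ω 0 ∈ loA Γ := fun {ω} h => by
    refine ⟨⟨_, hSω h⟩, ?_⟩
    apply SL_ext_two <;> simp [hρ, topBlock, tvMat_apply, E, loSL_coe, hz1 h]
  have hsq : ∀ g : S, ρ g * ρ g = 1 →
      ((g : GL (Fin 3) F) : M3) * ((g : GL (Fin 3) F) : M3) = 1 := fun g e => by
    have := hker (g * g) (by rw [map_mul, e])
    exact congrArg (fun z : S => ((z : GL (Fin 3) F) : M3)) this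
  have hupe : ∀ x ∈ upA Γ, ∃ θ, InTv P (E 0) θ ∧ θ 1 = x := by
    intro x hx
    rcases eq_or_ne x 0 with rfl | hx0
    · exact ⟨0, inTv_zero_right _ _, rfl⟩
    obtain ⟨g, hg⟩ := hx
    have e00 := congrArg (fun z : S2 => (z : M2) 0 0) hg
    have e01 := congrArg (fun z : S2 => (z : M2) 0 1) hg
    have e10 := congrArg (fun z : S2 => (z : M2) 1 0) hg
    have e11 := congrArg (fun z : S2 => (z : M2) 1 1) hg
    simp [hρ, topBlock, upSL_coe] at e00 e01 e10 e11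
    have h2 := congrFun (congrFun (hsq g (by rw [hg, sq_upSL])) 0) 2
    simp [Matrix.mul_apply, Fin.sum_univ_three, e00, e01, g.2.2.2.2, CharTwo.add_self_eq_zero] at h2
    have hv : ((g : GL (Fin 3) F) : M3) 1 2 = 0 := by
      have h3 : x * ((g : GL (Fin 3) F) : M3) 1 2 = 0 := by
        linear_combination h2 - ((g : GL (Fin 3) F) : M3) 0 2 * CharTwo.two_eq_zero (R := F)
      exact (mul_eq_zero.mp h3).resolve_left hx0
    refine ⟨![0, x, ((g : GL (Fin 3) F) : M3) 0 2], ⟨by simp [dotProduct, Fin.sum_univ_three, E], ?_⟩, rfl⟩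
    convert g.2.1 using 1
    refine Units.ext ?_
    rw [tv_val]
    ext i j
    fin_cases i <;> fin_cases j <;>
      simp [tvMat_apply, E, e00, e01, e10, e11, hv, g.2.2.1, g.2.2.2.1, g.2.2.2.2]
  have hloe : ∀ x ∈ loA Γ, ∃ ω, InTv P (E 1) ω ∧ ω 0 = x := by
    intro x hx
    rcases eq_or_ne x 0 with rfl | hx0
    · exact ⟨0, inTv_zero_right _ _, rfl⟩
    obtain ⟨g, hg⟩ := hx
    have e00 := congrArg (fun z : S2 => (z : M2) 0 0) hg
    have e01 := congrArg (fun z : S2 => (z : M2) 0 1) hg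
    have e10 := congrArg (fun z : S2 => (z : M2) 1 0) hg
    have e11 := congrArg (fun z : S2 => (z : M2) 1 1) hg
    simp [hρ, topBlock, loSL_coe] at e00 e01 e10 e11
    have h2 := congrFun (congrFun (hsq g (by rw [hg, sq_loSL])) 1) 2
    simp [Matrix.mul_apply, Fin.sum_univ_three, e10, e11, g.2.2.2.2] at h2
    have hu : ((g : GL (Fin 3) F) : M3) 0 2 = 0 := by
      have h3 : x * ((g : GL (Fin 3) F) : M3) 0 2 = 0 := by
        linear_combination h2 - ((g : GL (Fin 3) F) : M3) 1 2 * CharTwo.two_eq_zero (R := F)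
      exact (mul_eq_zero.mp h3).resolve_left hx0
    refine ⟨![x, 0, ((g : GL (Fin 3) F) : M3) 1 2], ⟨by simp [dotProduct, Fin.sum_univ_three, E], ?_⟩, rfl⟩
    convert g.2.1 using 1
    refine Units.ext ?_
    rw [tv_val]
    ext i j
    fin_cases i <;> fin_cases j <;>
      simp [tvMat_apply, E, e00, e01, e10, e11, hu, g.2.2.1, g.2.2.2.1, g.2.2.2.2]
  have cA : Nat.card (axes P (E 0)) = Nat.card (upA Γ) :=
    Nat.card_eq_of_bijective (fun θ : axes P (E 0) => (⟨(θ : Fin 3 → F) 1, hupm θ.2⟩ : upA Γ))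
      ⟨fun x y e => Subtype.ext (sub_eq_zero.mp (inj0 ((axes P (E 0)).sub_mem x.2 y.2) (by
          rw [Pi.sub_apply, sub_eq_zero]; exact congrArg Subtype.val e))),
        fun z => by
          obtain ⟨θ, h, e⟩ := hupe z z.2
          exact ⟨⟨θ, h⟩, Subtype.ext e⟩⟩
  have cB : Nat.card (axes P (E 1)) = Nat.card (loA Γ) :=
    Nat.card_eq_of_bijective (fun ω : axes P (E 1) => (⟨(ω : Fin 3 → F) 0, hlom ω.2⟩ : loA Γ))
      ⟨fun x y e => Subtype.ext (sub_eq_zero.mp (inj1 ((axes P (E 1)).sub_mem x.2 y.2) (by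
          rw [Pi.sub_apply, sub_eq_zero]; exact congrArg Subtype.val e))),
        fun z => by
          obtain ⟨ω, h, e⟩ := hloe z z.2
          exact ⟨⟨ω, h⟩, Subtype.ext e⟩⟩
  rcases pair_SL2 (Γ := Γ) (by omega) (hlom hχ) hχ0 with ⟨K, hK, hB, hm⟩ | ⟨h3, -, -⟩
  · exact ⟨by omega, K, by omega, fun θ hθ ω hω => hm _ (hupm hθ) _ (hlom hω)⟩
  · omega

omit [Finite F] in
theorem card_axes_cj (g : GL (Fin 3) F) (a : Fin 3 → F) :
    Nat.card (axes (cj g P) ((g : M3) *ᵥ a)) = Nat.card (axes P a) := by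
  refine (Nat.card_eq_of_bijective
    (fun φ : axes P a => (⟨(φ : Fin 3 → F) ᵥ* ((g⁻¹ : GL (Fin 3) F) : M3), inTv_cj φ.2⟩ :
      axes (cj g P) ((g : M3) *ᵥ a)))
    ⟨fun x y e => Subtype.ext (vecMul_injective_of_isUnit (g⁻¹).isUnit (congrArg Subtype.val e)),
      fun z => ?_⟩).symm
  have := inTv_cj (g := g⁻¹) (mem_axes.mp z.2)
  rw [cj_cj, inv_mul_cancel, cj_one, mulVec_mulVec, ← Units.val_mul, inv_mul_cancel,
    Units.val_one, one_mulVec, inv_inv] at this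
  refine ⟨⟨_, this⟩, Subtype.ext ?_⟩
  show ((z : Fin 3 → F) ᵥ* (g : M3)) ᵥ* _ = (z : Fin 3 → F)
  rw [vecMul_vecMul, ← Units.val_mul, mul_inv_cancel, Units.val_one, vecMul_one]

omit [Finite F] in
theorem noMixed_cj (h : NoMixed P) (g : GL (Fin 3) F) : NoMixed (cj g P) := by
  have back : ∀ {a φ : Fin 3 → F}, InTv (cj g P) a φ →
      InTv P (((g⁻¹ : GL (Fin 3) F) : M3) *ᵥ a) (φ ᵥ* (g : M3)) := fun {a φ} h' => by
    have := inTv_cj (g := g⁻¹) h'
    rwa [cj_cj, inv_mul_cancel, cj_one, inv_inv] at this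
  have dot : ∀ a φ : Fin 3 → F,
      (φ ᵥ* (g : M3)) ⬝ᵥ (((g⁻¹ : GL (Fin 3) F) : M3) *ᵥ a) = φ ⬝ᵥ a := fun a φ => by
    rw [← dotProduct_mulVec, mulVec_mulVec, ← Units.val_mul, mul_inv_cancel, Units.val_one,
      one_mulVec]
  intro a φ b ψ ha hφ hb hψ h1 h2
  rw [← dot b φ, ← dot a ψ]
  exact h _ _ _ _
    (fun e => ha (mulVec_injective_of_isUnit (g⁻¹).isUnit (e.trans (mulVec_zero _).symm)))
    (fun e => hφ (vecMul_injective_of_isUnit g.isUnit (e.trans (zero_vecMul _).symm)))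
    (fun e => hb (mulVec_injective_of_isUnit (g⁻¹).isUnit (e.trans (mulVec_zero _).symm)))
    (fun e => hψ (vecMul_injective_of_isUnit g.isUnit (e.trans (zero_vecMul _).symm)))
    (back h1) (back h2)

omit [Finite F] in
theorem exists_extend {u v : Fin 3 → F} (hu : u ≠ 0) (hv : ∀ c : F, v ≠ c • u) :
    ∃ w : Fin 3 → F, LinearIndependent F ![u, v, w] := by
  classical
  obtain ⟨w, hw⟩ : ∃ w, w ∉ Submodule.span F ({u, v} : Set (Fin 3 → F)) := by
    by_contra hc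
    push Not at hc
    have h3 := finrank_span_le_card (R := F) ({u, v} : Set (Fin 3 → F))
    rw [Submodule.eq_top_iff'.mpr hc, finrank_top, Module.finrank_fin_fun] at h3
    have : ({u, v} : Set (Fin 3 → F)).toFinset.card ≤ 2 := by
      simp only [Set.toFinset_insert, Set.toFinset_singleton]
      exact Finset.card_le_two
    omega
  refine ⟨w, Fintype.linearIndependent_iff.mpr fun g hg => ?_⟩
  simp only [Fin.sum_univ_three, Matrix.cons_val_zero, Matrix.cons_val_one,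
    Matrix.cons_val] at hg
  have g2 : g 2 = 0 := by
    by_contra hne
    refine hw (Submodule.mem_span_pair.mpr ⟨-(g 0) / g 2, -(g 1) / g 2, ?_⟩)
    refine smul_right_injective _ hne ?_
    show g 2 • _ = g 2 • w
    rw [smul_add, smul_smul, smul_smul, mul_div_cancel₀ _ hne, mul_div_cancel₀ _ hne, neg_smul,
      neg_smul, ← neg_add, neg_eq_iff_add_eq_zero]
    exact hg
  rw [g2, zero_smul, add_zero] at hg
  have g1 := ne_smul_cases hv hg
  rw [g1, zero_smul, add_zero, smul_eq_zero] at hg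
  intro l
  fin_cases l
  exacts [hg.resolve_right hu, g1, g2]

/-- The axes at two non-incident centres have products in a field of their number. -/
theorem axes_pair (hP : Setting P) (hN : NoMixed P) [CharP F 2] {b a χ : Fin 3 → F} (hb : b ≠ 0)
    (ha0 : a ≠ 0) (ha : InTv P a χ) (hχb : χ ⬝ᵥ b ≠ 0) (h4 : 4 ≤ Nat.card (axes P b)) :
    Nat.card (axes P a) = Nat.card (axes P b) ∧ ∀ θ ∈ axes P b, ∀ ω ∈ axes P a,
      ((θ ⬝ᵥ a) * (ω ⬝ᵥ b)) ^ Nat.card (axes P b) = (θ ⬝ᵥ a) * (ω ⬝ᵥ b) := by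
  have hab : ∀ c : F, a ≠ c • b := by
    intro c e
    have h0 := inTv_dot ha
    rw [e, dotProduct_smul, smul_eq_mul, mul_eq_zero] at h0
    exact ha0 (by rw [e, h0.resolve_right hχb, zero_smul])
  obtain ⟨c, hf⟩ := exists_extend hb hab
  obtain ⟨g, hg, hrow⟩ := exists_frame hf
  have g0 : (g : M3) *ᵥ b = E 0 := hg 0
  have g1 : (g : M3) *ᵥ a = E 1 := hg 1
  have c0 : Nat.card (axes (cj g P) (E 0)) = Nat.card (axes P b) := g0 ▸ card_axes_cj g b
  have c1 : Nat.card (axes (cj g P) (E 1)) = Nat.card (axes P a) := g1 ▸ card_axes_cj g a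
  have h1 := inTv_cj (g := g) ha
  rw [g1] at h1
  obtain ⟨hc, K, hK, hm⟩ := axes_pair_std (noMixed_cj hN g) (setting_cj hP g).le_sl (c0.symm ▸ h4)
    h1 (by rw [hrow]; exact hχb)
  refine ⟨by omega, fun θ hθ ω hω => ?_⟩
  have t1 := inTv_cj (g := g) (mem_axes.mp hθ)
  have t2 := inTv_cj (g := g) (mem_axes.mp hω)
  rw [g0] at t1
  rw [g1] at t2
  have h := hm _ t1 _ t2
  rw [hrow, hrow] at h
  have : Fintype K := Fintype.ofFinite K
  have e := congrArg (fun z : K => (z : F)) (FiniteField.pow_card (⟨_, h⟩ : K))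
  rw [← Nat.card_eq_fintype_card, hK, c0] at e
  exact e

omit [Finite F] in
theorem mem_of_pow_eq {n : ℕ} (hn : 2 ≤ n) {S : Set F} (hcard : n ≤ S.ncard)
    (hS : ∀ s ∈ S, s ^ n = s) {x : F} (hx : x ^ n = x) : x ∈ S := by
  classical
  by_contra hxS
  let pol : Polynomial F := Polynomial.X ^ n - Polynomial.X
  have hdeg : pol.natDegree = n := by
    simp only [pol]
    rw [Polynomial.natDegree_sub_eq_left_of_natDegree_lt (by simp; omega)]
    simp
  have hp0 : pol ≠ 0 := fun e => by rw [e] at hdeg; simp at hdeg; omega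
  have hsub : insert x S ⊆ (pol.roots.toFinset : Set F) := by
    intro y hy
    rw [Finset.mem_coe, Multiset.mem_toFinset, Polynomial.mem_roots hp0]
    rcases hy with rfl | hy
    · simp [pol, hx]
    · simp [pol, hS y hy]
  have hfin : S.Finite := (pol.roots.toFinset.finite_toSet).subset fun y hy => hsub (Or.inr hy)
  have h1 := Set.ncard_le_ncard hsub
  rw [Set.ncard_insert_of_notMem hxS hfin, Set.ncard_coe_finset] at h1
  have h2 : pol.roots.toFinset.card ≤ n :=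
    (Multiset.toFinset_card_le _).trans ((Polynomial.card_roots' pol).trans hdeg.le)
  omega

set_option maxHeartbeats 1000000 in
/-- A centre has only one axis. -/
theorem one_axis (hP : Setting P) (hN : NoMixed P) {b θ θ' : Fin 3 → F} (hb : b ≠ 0) (hθ : θ ≠ 0)
    (h : InTv P b θ) (h' : InTv P b θ') : ∃ c : F, θ' = c • θ := by
  classical
  by_contra hc
  push Not at hc
  have hθ' : θ' ≠ 0 := fun e => hc 0 (by rw [e, zero_smul])
  -- the axes at the centre evaluate injectively at every other centre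
  have hzero : ∀ {d ζ : Fin 3 → F}, d ≠ 0 → ζ ≠ 0 → InTv P d ζ → (∀ c : F, d ≠ c • b) →
      ∀ ω, InTv P b ω → ω ≠ 0 → ω ⬝ᵥ d ≠ 0 := by
    intro d ζ hd hζ hdζ hdb ω hω hω0 e
    have hζb := (hN b ω d ζ hb hω0 hd hζ hω hdζ).mp e
    exact hc _ (exists_smul_of_kill hb hdb hθ (inTv_dot h)
      ((hN b θ d ζ hb hθ hd hζ h hdζ).mpr hζb) (inTv_dot h')
      ((hN b θ' d ζ hb hθ' hd hζ h' hdζ).mpr hζb)).choose_spec
  obtain ⟨a, χ, ha, hχ, haχ, hχb⟩ := exists_axis_off hP hb hθ h hb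
  have hab : ∀ c : F, a ≠ c • b := by
    intro c e
    have h0 := inTv_dot haχ
    rw [e, dotProduct_smul, smul_eq_mul, mul_eq_zero] at h0
    exact ha (by rw [e, h0.resolve_right hχb, zero_smul])
  have heval := hzero ha hχ haχ hab
  by_cases hbig : 3 ≤ Nat.card (root P a χ)
  · have hs := card_root_const hP hN ha hχ haχ hbig hb hθ h
    obtain ⟨ω, hω, hω0, hωa⟩ := exists_axis_through (P := P) (a := b) (axes P b) (fun _ x => x)
      haχ hχb hbig (hs ▸ card_axes_gt hθ h h' hc)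
    exact heval ω hω hω0 hωa
  have hsmall : ∀ {c ψ : Fin 3 → F}, c ≠ 0 → ψ ≠ 0 → InTv P c ψ → Nat.card (root P c ψ) = 2 := by
    intro c ψ hc0 hψ0 hcψ
    have h2 := two_le_card_root hcψ
    by_contra hne
    have := card_root_const hP hN hc0 hψ0 hcψ (by omega) ha hχ haχ
    omega
  have two : (2 : F) = 0 := by
    have := card_nsmul_eq_zero' (G := root P b θ) (x := ⟨1, one_mem_root h⟩)
    rw [hsmall hb hθ h] at this
    simpa [nsmul_eq_mul] using congrArg Subtype.val this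
  have : CharP F 2 := CharTwo.of_one_ne_zero_of_two_eq_zero one_ne_zero two
  set n := Nat.card (axes P b) with hn
  have h4 : 4 ≤ n := by
    have hsub : ({0, θ, θ', θ + θ'} : Set (Fin 3 → F)) ⊆ axes P b := by
      rintro x (rfl | rfl | rfl | rfl)
      exacts [(axes P b).zero_mem, h, h', (axes P b).add_mem h h']
    have h1 := Set.ncard_le_ncard hsub (Set.toFinite _)
    rw [← Nat.card_coe_set_eq ((axes P b : AddSubgroup (Fin 3 → F)) : Set (Fin 3 → F)),
      SetLike.coe_sort_coe, ← hn] at h1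
    have d1 : θ ≠ θ + θ' := fun e => hθ' (by simpa using e)
    have d2 : θ' ≠ θ + θ' := fun e => hθ (by simpa using e)
    have d3 : (0 : Fin 3 → F) ≠ θ + θ' := fun e => hc (-1) (by
      rw [neg_one_smul, eq_neg_iff_add_eq_zero, add_comm, e])
    have d4 : θ ≠ θ' := fun e => hc 1 (by rw [one_smul, e])
    rw [Set.ncard_insert_of_notMem (by simp [Ne.symm hθ, Ne.symm hθ', d3]),
      Set.ncard_insert_of_notMem (by simp [d4, d1, ne_comm.mp hθ']),
      Set.ncard_pair d2] at h1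
    exact h1
  obtain ⟨hna, hpa⟩ := axes_pair hP hN hb ha haχ hχb h4
  -- a centre off the line
  obtain ⟨w, hf⟩ := exists_extend hb hab
  obtain ⟨g, hg, -⟩ := exists_frame hf
  let κ : Fin 3 → F := (E 2 : Fin 3 → F) ᵥ* (g : M3)
  have hκ : ∀ x, κ ⬝ᵥ x = ((g : M3) *ᵥ x) 2 := fun x => by rw [← dotProduct_mulVec, E_dot]
  have κb : κ ⬝ᵥ b = 0 := by rw [hκ, show (g : M3) *ᵥ b = E 0 from hg 0]; simp [E]
  have κa : κ ⬝ᵥ a = 0 := by rw [hκ, show (g : M3) *ᵥ a = E 1 from hg 1]; simp [E]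
  have κn : κ ≠ 0 := fun e => by
    have := hκ w
    rw [e, zero_dotProduct, show (g : M3) *ᵥ w = E 2 from hg 2] at this
    simp [E] at this
  obtain ⟨d, ζ, hd, hζ, hdζ, hκd⟩ := exists_centre_off hP hb hθ h κn
  have hdb : ∀ c : F, d ≠ c • b := fun c e => hκd (by rw [e, dotProduct_smul, κb, smul_zero])
  have hda : ∀ c : F, d ≠ c • a := fun c e => hκd (by rw [e, dotProduct_smul, κa, smul_zero])
  have hvd := hzero hd hζ hdζ hdb
  have hζb : ζ ⬝ᵥ b ≠ 0 := fun e => hvd θ h hθ ((hN b θ d ζ hb hθ hd hζ h hdζ).mpr e)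
  obtain ⟨hnd, hpd⟩ := axes_pair hP hN hb hd hdζ hζb h4
  have hθa : θ ⬝ᵥ a ≠ 0 := heval θ h hθ
  have hθd : θ ⬝ᵥ d ≠ 0 := hvd θ h hθ
  -- the axes at the second centre separate the third
  obtain ⟨χ', hχ', hχ'n⟩ : ∃ χ', InTv P a χ' ∧ ∀ c : F, χ' ≠ c • χ := by
    by_contra hc'
    push Not at hc'
    have hle : Nat.card (axes P a) ≤ Nat.card (root P a χ) := by
      refine Nat.card_le_card_of_injective
        (fun x : axes P a => (⟨(hc' x x.2).choose, by
          rw [mem_root, ← (hc' x x.2).choose_spec]; exact x.2⟩ : root P a χ)) fun x y e => ?_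
      refine Subtype.ext ?_
      rw [(hc' x x.2).choose_spec, (hc' y y.2).choose_spec]
      exact congrArg (fun z : root P a χ => (z : F) • χ) e
    have := hsmall ha hχ haχ
    omega
  have hχd : ∀ ψ, InTv P a ψ → ψ ≠ 0 → ψ ⬝ᵥ d ≠ 0 := by
    intro ψ hψ hψ0 e
    have hχ'0 : χ' ≠ 0 := fun e' => hχ'n 0 (by rw [e', zero_smul])
    have hζa := (hN a ψ d ζ ha hψ0 hd hζ hψ hdζ).mp e
    exact hχ'n _ (exists_smul_of_kill ha hda hχ (inTv_dot haχ)
      ((hN a χ d ζ ha hχ hd hζ haχ hdζ).mpr hζa) (inTv_dot hχ')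
      ((hN a χ' d ζ ha hχ'0 hd hζ hχ' hdζ).mpr hζa)).choose_spec
  have hpow : ∀ {x y : F}, x ^ n = x → y ^ n = y → y ≠ 0 → (x / y) ^ n = x / y := fun hx hy hy0 => by
    rw [div_pow, hx, hy]
  have hadd : ∀ {x y : F}, x ^ n = x → y ^ n = y → (x + y) ^ n = x + y := by
    intro x y hx hy
    have hpA : IsPGroup 2 (Multiplicative (axes P b)) := by
      intro z
      refine ⟨1, ?_⟩
      apply Multiplicative.toAdd.injective
      refine Subtype.ext ?_
      show (2 ^ 1) • ((Multiplicative.toAdd z : axes P b) : Fin 3 → F) = 0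
      ext i
      simp [CharTwo.two_eq_zero]
    have : Fact (Nat.Prime 2) := ⟨Nat.prime_two⟩
    obtain ⟨k, hk⟩ := hpA.exists_card_eq
    have hnk : n = 2 ^ k := by
      rw [hn]
      exact (Nat.card_congr (Multiplicative.ofAdd)).trans hk
    rw [hnk, add_pow_char_pow, ← hnk, hx, hy]
  -- scaled evaluations
  have hx : ∀ ω, InTv P b ω → (ω ⬝ᵥ a / θ ⬝ᵥ a) ^ n = ω ⬝ᵥ a / θ ⬝ᵥ a := fun ω hω => by
    have := hpow (hpa ω hω χ haχ) (hpa θ h χ haχ) (mul_ne_zero hθa hχb)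
    rwa [mul_div_mul_right _ _ hχb] at this
  have hy : ∀ ω, InTv P b ω → (ω ⬝ᵥ d / θ ⬝ᵥ d) ^ n = ω ⬝ᵥ d / θ ⬝ᵥ d := fun ω hω => by
    have := hpow (hpd ω hω ζ hdζ) (hpd θ h ζ hdζ) (mul_ne_zero hθd hζb)
    rwa [mul_div_mul_right _ _ hζb] at this
  -- some axis has different scaled evaluations
  obtain ⟨ω₀, hω₀, hdiff⟩ : ∃ ω, InTv P b ω ∧ ω ⬝ᵥ d / θ ⬝ᵥ d ≠ ω ⬝ᵥ a / θ ⬝ᵥ a := by
    by_contra hall
    push Not at hall
    let p : Fin 3 → F := (θ ⬝ᵥ a) • d - (θ ⬝ᵥ d) • a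
    have hp : ∀ c : F, p ≠ c • b := fun c e => hκd (by
      have := congrArg (fun z => κ ⬝ᵥ z) e
      simpa [p, dotProduct_sub, κa, κb, hθa] using this)
    have hkill : ∀ ω, InTv P b ω → ω ⬝ᵥ p = 0 := fun ω hω => by
      have := hall ω hω
      field_simp at this
      simp only [p, dotProduct_sub, dotProduct_smul, smul_eq_mul]
      linear_combination this
    exact hc _ (exists_smul_of_kill hb hp hθ (inTv_dot h) (hkill θ h) (inTv_dot h')
      (hkill θ' h')).choose_spec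
  have hω₀0 : ω₀ ≠ 0 := fun e => hdiff (by simp [e])
  -- every translate stays in the field
  let cv : axes P a → F := fun ψ => (ψ : Fin 3 → F) ⬝ᵥ d * (θ ⬝ᵥ a) / θ ⬝ᵥ d
  have htrans : ∀ ψ : axes P a, cv ψ ^ n = cv ψ := by
    intro ψ
    set t := (ψ : Fin 3 → F) ⬝ᵥ d
    let d' : Fin 3 → F := d + t • a
    let ζ' : Fin 3 → F := ζ - (ζ ⬝ᵥ a) • (ψ : Fin 3 → F)
    have hd'ζ : InTv P d' ζ' := inTv_conj_tv hdζ ψ.2
    have hκd' : κ ⬝ᵥ d' ≠ 0 := by simp [d', dotProduct_add, κa, hκd]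
    have hd'0 : d' ≠ 0 := fun e => hκd' (by rw [e, dotProduct_zero])
    have hd'b : ∀ c : F, d' ≠ c • b := fun c e => hκd' (by rw [e, dotProduct_smul, κb, smul_zero])
    have hζ'0 : ζ' ≠ 0 := by
      intro e
      have e' : ζ = (ζ ⬝ᵥ a) • (ψ : Fin 3 → F) := sub_eq_zero.mp e
      have hψ0 : (ψ : Fin 3 → F) ≠ 0 := fun z => hζ (by rw [e', z, smul_zero])
      have hz : ζ ⬝ᵥ a = (ζ ⬝ᵥ a) * ((ψ : Fin 3 → F) ⬝ᵥ a) := by
        conv_lhs => rw [e', smul_dotProduct, smul_eq_mul]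
      rw [inTv_dot (mem_axes.mp ψ.2), mul_zero] at hz
      exact hζ (by rw [e', hz, zero_smul])
    have hv' := hzero hd'0 hζ'0 hd'ζ hd'b
    have hζ'b : ζ' ⬝ᵥ b ≠ 0 := fun e =>
      hv' θ h hθ ((hN b θ d' ζ' hb hθ hd'0 hζ'0 h hd'ζ).mpr e)
    obtain ⟨-, hp'⟩ := axes_pair hP hN hb hd'0 hd'ζ hζ'b h4
    have hr := hpow (hp' ω₀ hω₀ ζ' hd'ζ) (hp' θ h ζ' hd'ζ) (mul_ne_zero (hv' θ h hθ) hζ'b)
    rw [mul_div_mul_right _ _ hζ'b] at hr
    set x := ω₀ ⬝ᵥ a / θ ⬝ᵥ a with hxdef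
    set y := ω₀ ⬝ᵥ d / θ ⬝ᵥ d with hydef
    set r := ω₀ ⬝ᵥ d' / θ ⬝ᵥ d' with hrdef
    have hrel : r * (1 + cv ψ) = y + cv ψ * x := by
      have hden := hv' θ h hθ
      simp only [hrdef, hydef, hxdef, cv, d', dotProduct_add, dotProduct_smul, smul_eq_mul]
        at hden ⊢
      field_simp
      ring
    have hne : x + r ≠ 0 := fun e => by
      have e' : r = x := by linear_combination e - x * two
      rw [e'] at hrel
      exact hdiff (by linear_combination -hrel)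
    have e : cv ψ = (y + r) / (x + r) := by
      rw [eq_div_iff hne]
      linear_combination hrel + (cv ψ * x - r) * two
    rw [e]
    exact hpow (hadd (hy ω₀ hω₀) hr) (hadd (hx ω₀ hω₀) hr) hne
  have hinj : Function.Injective cv := fun ψ₁ ψ₂ e => by
    by_contra hne
    refine hχd _ ((axes P a).sub_mem ψ₁.2 ψ₂.2) (sub_ne_zero.mpr fun z => hne (Subtype.ext z)) ?_
    simp only [cv] at e
    field_simp at e
    rw [sub_dotProduct, sub_eq_zero]
    exact e
  have hcard : n ≤ (Set.range cv).ncard := by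
    rw [← Nat.card_coe_set_eq, Nat.card_range_of_injective hinj, hna]
  have hxne : ω₀ ⬝ᵥ a / θ ⬝ᵥ a ≠ 0 := div_ne_zero (heval ω₀ hω₀ hω₀0) hθa
  obtain ⟨ψ, hψ⟩ := mem_of_pow_eq (by omega) hcard (by rintro _ ⟨ψ, rfl⟩; exact htrans ψ)
    (hpow (hy ω₀ hω₀) (hx ω₀ hω₀) hxne)
  -- the translate with this parameter lies on an axis
  set t := (ψ : Fin 3 → F) ⬝ᵥ d
  let d' : Fin 3 → F := d + t • a
  have hd'ζ := inTv_conj_tv hdζ (mem_axes.mp ψ.2)
  have hκd' : κ ⬝ᵥ d' ≠ 0 := by simp [d', dotProduct_add, κa, hκd]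
  have hd'b : ∀ c : F, d' ≠ c • b := fun c e => hκd' (by rw [e, dotProduct_smul, κb, smul_zero])
  refine hzero (fun e => hκd' (by rw [show d' = 0 from e, dotProduct_zero])) ?_ hd'ζ hd'b ω₀ hω₀ hω₀0 ?_
  · intro e
    have e' : ζ = (ζ ⬝ᵥ a) • (ψ : Fin 3 → F) := sub_eq_zero.mp e
    have hz : ζ ⬝ᵥ a = (ζ ⬝ᵥ a) * ((ψ : Fin 3 → F) ⬝ᵥ a) := by
      conv_lhs => rw [e', smul_dotProduct, smul_eq_mul]
    rw [inTv_dot (mem_axes.mp ψ.2), mul_zero] at hz
    exact hζ (by rw [e', hz, zero_smul])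
  · have hcv : t * (θ ⬝ᵥ a) / θ ⬝ᵥ d = (ω₀ ⬝ᵥ d / θ ⬝ᵥ d) / (ω₀ ⬝ᵥ a / θ ⬝ᵥ a) := hψ
    have hωa := heval ω₀ hω₀ hω₀0
    field_simp at hcv
    show ω₀ ⬝ᵥ (d + t • a) = 0
    rw [dotProduct_add, dotProduct_smul, smul_eq_mul]
    linear_combination hcv + (ω₀ ⬝ᵥ d) * two

/-- Distinct flags are never incident. -/
theorem separated_of_noMixed (hP : Setting P) (hN : NoMixed P) : Separated P := by
  intro a φ b ψ ha hφ hb hψ h1 h2
  by_cases hz : φ ⬝ᵥ b = 0
  swap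
  · exact Or.inl ⟨hz, fun e => hz ((hN a φ b ψ ha hφ hb hψ h1 h2).mpr e)⟩
  right
  have hz' := (hN a φ b ψ ha hφ hb hψ h1 h2).mp hz
  by_cases hba : ∀ c : F, b ≠ c • a
  · obtain ⟨c, hc⟩ := exists_smul_of_kill ha hba hφ (inTv_dot h1) hz hz' (inTv_dot h2)
    -- one centre on each axis
    have hc0 : c ≠ 0 := fun e => hψ (by rw [hc, e, zero_smul])
    have h2' : InTv P (c • b) φ := inTv_smul_left (hc ▸ h2) hz
    obtain ⟨k, hk⟩ := one_axis (setting_dual hP) (NoMixed.dual hN) hφ ha (inTv_dual h1)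
      (inTv_dual h2')
    exact absurd (by rw [← smul_smul, ← hk, inv_smul_smul₀ hc0] : b = (c⁻¹ * k) • a) (hba _)
  · push Not at hba
    obtain ⟨c, hc⟩ := hba
    have hc0 : c ≠ 0 := fun e => hb (by rw [hc, e, zero_smul])
    have h2' : InTv P a (c • ψ) := inTv_of_smul (hc ▸ h2) hz'
    obtain ⟨k, hk⟩ := one_axis hP hN ha hφ h1 h2'
    exact ⟨⟨c, hc⟩, c⁻¹ * k, by rw [← smul_smul, ← hk, inv_smul_smul₀ hc0]⟩

end Cfsg.Agent.Linear.Mitchell.Tv
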