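import Cfsg.Agent.Linear.Mitchell.Tv.Basic
import Cfsg.Agent.Linear.Mitchell.Tv.PairSL2

/-!
Two transvections with both incidences non-zero, and the bound on the evaluation of the axes at a
given centre.
-/

set_option autoImplicit false

namespace Cfsg.Agent.Linear.Mitchell.Tv

open scoped MatrixGroups Matrix
open Matrix Cfsg.Geo Cfsg.Agent.H95 Cfsg.Agent.Linear Cfsg.Agent.Linear.Dickson

variable {F : Type*} [Field F] {P : Subgroup (GL (Fin 3) F)}

local notation "S2" => Matrix.SpecialLinearGroup (Fin 2) F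
local notation "M2" => Matrix (Fin 2) (Fin 2) F
local notation "M3" => Matrix (Fin 3) (Fin 3) F

section Embedding

variable (A : Matrix (Fin 3) (Fin 2) F) (C : Matrix (Fin 2) (Fin 3) F) (hCA : C * A = 1)

/-- The action on a plane, trivial on a complement. -/
def embHom : S2 →* GL (Fin 3) F :=
  MonoidHom.toHomUnits
    { toFun := fun h => 1 + A * ((h : M2) - 1) * C
      map_one' := by simp
      map_mul' := fun h k => by
        have e : A * ((h : M2) - 1) * C * (A * ((k : M2) - 1) * C) =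
            A * (((h : M2) - 1) * ((k : M2) - 1)) * C := by
          simp only [Matrix.mul_assoc]
          rw [← Matrix.mul_assoc C A, hCA, Matrix.one_mul]
        rw [Matrix.SpecialLinearGroup.coe_mul, add_mul, one_mul, mul_add, mul_one, e, add_assoc]
        congr 1
        rw [show (h : M2) * (k : M2) - 1 = ((k : M2) - 1) +
          ((((h : M2) - 1)) + ((h : M2) - 1) * ((k : M2) - 1)) by noncomm_ring,
          Matrix.mul_add, Matrix.mul_add, Matrix.add_mul, Matrix.add_mul] }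

theorem embHom_val (h : S2) : ((embHom A C hCA h : GL (Fin 3) F) : M3) =
    1 + A * ((h : M2) - 1) * C := rfl

end Embedding

section Frame

variable {a b φ ψ : Fin 3 → F}

/-- The columns spanning the plane. -/
def colPair (a b : Fin 3 → F) : Matrix (Fin 3) (Fin 2) F := Matrix.of fun i => ![a i, b i]

/-- The coordinate functions on the plane. -/
def rowPair (a b φ ψ : Fin 3 → F) : Matrix (Fin 2) (Fin 3) F :=
  Matrix.of ![(ψ ⬝ᵥ a)⁻¹ • ψ, (φ ⬝ᵥ b)⁻¹ • φ]

theorem rowPair_mul_colPair (h1 : φ ⬝ᵥ a = 0) (h2 : ψ ⬝ᵥ b = 0) (h3 : φ ⬝ᵥ b ≠ 0)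
    (h4 : ψ ⬝ᵥ a ≠ 0) : rowPair a b φ ψ * colPair a b = 1 := by
  simp only [dotProduct, Fin.sum_univ_three] at h1 h2
  ext i j
  fin_cases i <;> fin_cases j <;>
    simp [rowPair, colPair, Matrix.mul_apply, Fin.sum_univ_three, dotProduct] <;>
    simp only [dotProduct, Fin.sum_univ_three] at h3 h4 <;> field_simp <;>
    first
      | linear_combination h1
      | linear_combination h2
      | ring

theorem tvMat_apply (a φ : Fin 3 → F) (i j : Fin 3) :
    tvMat a φ i j = (1 : M3) i j + a i * φ j := rfl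

theorem embHom_upSL (hCA : rowPair a b φ ψ * colPair a b = 1) (x : F) :
    ((embHom _ _ hCA (upSL x) : GL (Fin 3) F) : M3) = tvMat a ((x * (φ ⬝ᵥ b)⁻¹) • φ) := by
  ext i j
  rw [embHom_val, Matrix.add_apply, tvMat_apply]
  congr 1
  simp [Matrix.mul_apply, Fin.sum_univ_two, upSL_coe, rowPair, colPair]
  ring

theorem embHom_loSL (hCA : rowPair a b φ ψ * colPair a b = 1) (x : F) :
    ((embHom _ _ hCA (loSL x) : GL (Fin 3) F) : M3) = tvMat b ((x * (ψ ⬝ᵥ a)⁻¹) • ψ) := by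
  ext i j
  rw [embHom_val, Matrix.add_apply, tvMat_apply]
  congr 1
  simp [Matrix.mul_apply, Fin.sum_univ_two, loSL_coe, rowPair, colPair]
  ring

end Frame

/-- A product of two incidences. -/
def PairProd (P : Subgroup (GL (Fin 3) F)) (a φ b ψ : Fin 3 → F) (s : ℕ) : Prop :=
  (∃ K : Subfield F, Nat.card K = s ∧
    ∀ c ∈ root P a φ, ∀ d ∈ root P b ψ, c * d * ((φ ⬝ᵥ b) * (ψ ⬝ᵥ a)) ∈ K) ∨
  (s = 3 ∧ ∀ c ∈ root P a φ, ∀ d ∈ root P b ψ, c ≠ 0 → d ≠ 0 →
    (c * d * ((φ ⬝ᵥ b) * (ψ ⬝ᵥ a))) ^ 2 = -1)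

variable [Finite F]

/-- The pair lemma. -/
theorem pair {a φ b ψ : Fin 3 → F} (ha : InTv P a φ) (hb : InTv P b ψ) (h1 : φ ⬝ᵥ b ≠ 0)
    (h2 : ψ ⬝ᵥ a ≠ 0) (hs : 3 ≤ Nat.card (root P a φ)) :
    Nat.card (root P b ψ) = Nat.card (root P a φ) ∧
      PairProd P a φ b ψ (Nat.card (root P a φ)) := by
  have hCA := rowPair_mul_colPair ha.1 hb.1 h1 h2
  set Γ := P.comap (embHom _ _ hCA)
  have hup : ∀ x, x ∈ upA Γ ↔ x * (φ ⬝ᵥ b)⁻¹ ∈ root P a φ := fun x => by
    rw [mem_upA, Subgroup.mem_comap, mem_root]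
    constructor
    · exact fun h => ⟨by simp [ha.1], by convert h using 1; exact Units.ext (embHom_upSL hCA x).symm⟩
    · rintro ⟨h0, h⟩
      convert h using 1
      exact Units.ext (embHom_upSL hCA x)
  have hlo : ∀ x, x ∈ loA Γ ↔ x * (ψ ⬝ᵥ a)⁻¹ ∈ root P b ψ := fun x => by
    rw [mem_loA, Subgroup.mem_comap, mem_root]
    constructor
    · exact fun h => ⟨by simp [hb.1], by convert h using 1; exact Units.ext (embHom_loSL hCA x).symm⟩
    · rintro ⟨h0, h⟩
      convert h using 1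
      exact Units.ext (embHom_loSL hCA x)
  have cA : Nat.card (upA Γ) = Nat.card (root P a φ) :=
    Nat.card_congr
      { toFun := fun x => ⟨x.1 * (φ ⬝ᵥ b)⁻¹, (hup _).1 x.2⟩
        invFun := fun c => ⟨c.1 * (φ ⬝ᵥ b), (hup _).2 (by rw [mul_inv_cancel_right₀ h1]; exact c.2)⟩
        left_inv := fun x => Subtype.ext (inv_mul_cancel_right₀ h1 _)
        right_inv := fun c => Subtype.ext (mul_inv_cancel_right₀ h1 _) }
  have cB : Nat.card (loA Γ) = Nat.card (root P b ψ) :=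
    Nat.card_congr
      { toFun := fun x => ⟨x.1 * (ψ ⬝ᵥ a)⁻¹, (hlo _).1 x.2⟩
        invFun := fun c => ⟨c.1 * (ψ ⬝ᵥ a), (hlo _).2 (by rw [mul_inv_cancel_right₀ h2]; exact c.2)⟩
        left_inv := fun x => Subtype.ext (inv_mul_cancel_right₀ h2 _)
        right_inv := fun c => Subtype.ext (mul_inv_cancel_right₀ h2 _) }
  have hpair := pair_SL2 (Γ := Γ) (by omega) (β := ψ ⬝ᵥ a)
    ((hlo _).2 (by rw [mul_inv_cancel₀ h2]; exact one_mem_root hb)) h2
  rw [← cA, ← cB]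
  have mc : ∀ c ∈ root P a φ, c * (φ ⬝ᵥ b) ∈ upA Γ := fun c hc =>
    (hup _).2 (by rwa [mul_inv_cancel_right₀ h1])
  have md : ∀ d ∈ root P b ψ, d * (ψ ⬝ᵥ a) ∈ loA Γ := fun d hd =>
    (hlo _).2 (by rwa [mul_inv_cancel_right₀ h2])
  rcases hpair with ⟨K, hK, hB, hm⟩ | ⟨hA3, hB3, hm⟩
  · refine ⟨hB, Or.inl ⟨K, hK, fun c hc d hd => ?_⟩⟩
    rw [show c * d * ((φ ⬝ᵥ b) * (ψ ⬝ᵥ a)) = c * (φ ⬝ᵥ b) * (d * (ψ ⬝ᵥ a)) by ring]
    exact hm _ (mc c hc) _ (md d hd)
  · refine ⟨hB3.trans hA3.symm, Or.inr ⟨hA3, fun c hc d hd hc0 hd0 => ?_⟩⟩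
    rw [show c * d * ((φ ⬝ᵥ b) * (ψ ⬝ᵥ a)) = c * (φ ⬝ᵥ b) * (d * (ψ ⬝ᵥ a)) by ring]
    exact hm _ (mc c hc) _ (md d hd) (mul_ne_zero hc0 h1) (mul_ne_zero hd0 h2)

/-- Transvections of different root group orders, one of them at least three, are incident. -/
theorem incident_of_card_ne {a φ b ψ : Fin 3 → F} (ha : InTv P a φ) (hb : InTv P b ψ)
    (hs : 3 ≤ Nat.card (root P a φ)) (hne : Nat.card (root P b ψ) ≠ Nat.card (root P a φ)) :
    φ ⬝ᵥ b = 0 ∨ ψ ⬝ᵥ a = 0 := by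
  by_contra hc
  push Not at hc
  exact hne (pair ha hb hc.1 hc.2 hs).1

/-- The incidence product of two transvections. -/
theorem pair_one {a φ b ψ : Fin 3 → F} (ha : InTv P a φ) (hb : InTv P b ψ) (h1 : φ ⬝ᵥ b ≠ 0)
    (h2 : ψ ⬝ᵥ a ≠ 0) (hs : 3 ≤ Nat.card (root P a φ)) :
    ((φ ⬝ᵥ b) * (ψ ⬝ᵥ a)) ^ Nat.card (root P a φ) = (φ ⬝ᵥ b) * (ψ ⬝ᵥ a) ∨
      (Nat.card (root P a φ) = 3 ∧ ((φ ⬝ᵥ b) * (ψ ⬝ᵥ a)) ^ 2 = -1) := by
  rcases (pair ha hb h1 h2 hs).2 with ⟨K, hK, hm⟩ | ⟨h3, hm⟩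
  · left
    have h := hm 1 (one_mem_root ha) 1 (one_mem_root hb)
    rw [one_mul, one_mul] at h
    have : Fintype K := Fintype.ofFinite K
    have e := congrArg (fun z : K => (z : F)) (FiniteField.pow_card (⟨_, h⟩ : K))
    rwa [← Nat.card_eq_fintype_card, hK] at e
  · right
    have h := hm 1 (one_mem_root ha) 1 (one_mem_root hb) one_ne_zero one_ne_zero
    rw [one_mul, one_mul] at h
    exact ⟨h3, h⟩

omit [Finite F] in
theorem three_eq_zero_of_card {A : AddSubgroup F} (h1 : (1 : F) ∈ A) (h : Nat.card A = 3) :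
    (3 : F) = 0 := by
  have h' := card_nsmul_eq_zero' (G := A) (x := ⟨1, h1⟩)
  rw [h] at h'
  simpa [nsmul_eq_mul] using congrArg Subtype.val h'

/-- An additive group of allowed products is small. -/
theorem card_le_of_allowed {J : AddSubgroup F} {s : ℕ} (hs : 2 ≤ s) (h3 : s = 3 → (3 : F) = 0)
    (h : ∀ z ∈ J, z ^ s = z ∨ (s = 3 ∧ z ^ 2 = -1)) : Nat.card J ≤ s := by
  classical
  have key : ∀ (n : ℕ), 2 ≤ n → (∀ z ∈ J, z ^ n = z) → Nat.card J ≤ n := by
    intro n hn hz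
    let p : Polynomial F := Polynomial.X ^ n - Polynomial.X
    have hd : p.natDegree = n := by
      simp only [p]
      rw [Polynomial.natDegree_sub_eq_left_of_natDegree_lt (by simp; omega)]
      simp
    have hp0 : p ≠ 0 := fun e => by rw [e] at hd; simp at hd; omega
    rw [← SetLike.coe_sort_coe, Nat.card_coe_set_eq]
    calc (J : Set F).ncard ≤ (p.roots.toFinset : Set F).ncard :=
          Set.ncard_le_ncard fun x hx => by
            rw [Finset.mem_coe, Multiset.mem_toFinset, Polynomial.mem_roots hp0]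
            simp [p, hz x hx]
      _ ≤ n := by
            rw [Set.ncard_coe_finset]
            exact (Multiset.toFinset_card_le _).trans ((Polynomial.card_roots' p).trans hd.le)
  by_cases hs3 : s = 3
  · subst hs3
    have h5 := key 5 (by norm_num) fun z hz => by
      rcases h z hz with e | ⟨-, e⟩
      · linear_combination (z ^ 2 + 1) * e
      · linear_combination (z ^ 3 - z) * e
    have : CharP F 3 := CharP.charP_iff_prime_eq_zero Nat.prime_three |>.mpr (by exact_mod_cast h3 rfl)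
    have : Fintype F := Fintype.ofFinite F
    obtain ⟨n, -, hn⟩ := FiniteField.card F 3
    have hdvd := J.card_addSubgroup_dvd_card
    rw [Nat.card_eq_fintype_card (α := F), hn] at hdvd
    obtain ⟨i, -, hi⟩ := (Nat.dvd_prime_pow Nat.prime_three).mp hdvd
    rw [hi] at h5 ⊢
    rcases i with _ | _ | i
    · norm_num
    · norm_num
    · exfalso
      have : 3 ^ 2 ≤ 3 ^ (i + 1 + 1) := Nat.pow_le_pow_right (by norm_num) (by omega)
      omega
  · exact key s hs fun z hz => (h z hz).resolve_right fun h' => hs3 h'.1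

/-- The axes at a centre cannot be separated by an opposite transvection beyond its root group. -/
theorem exists_axis_through {a b ψ : Fin 3 → F} (V : AddSubgroup (Fin 3 → F))
    (hV : ∀ ω ∈ V, InTv P a ω) (hb : InTv P b ψ) (h2 : ψ ⬝ᵥ a ≠ 0)
    (hs : 3 ≤ Nat.card (root P b ψ)) (hlt : Nat.card (root P b ψ) < Nat.card V) :
    ∃ ω ∈ V, ω ≠ 0 ∧ ω ⬝ᵥ b = 0 := by
  by_contra hc
  push Not at hc
  let f : (Fin 3 → F) →+ F :=
    { toFun := fun ω => (ψ ⬝ᵥ a) * (ω ⬝ᵥ b)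
      map_zero' := by simp
      map_add' := fun x y => by rw [add_dotProduct, mul_add] }
  have hcard : Nat.card (V.map f) = Nat.card V :=
    Nat.card_congr (Equiv.ofBijective (fun v : V => (⟨f v, ⟨v, v.2, rfl⟩⟩ : V.map f)) ⟨fun x y e => by
      by_contra hne
      have e' : f ((x : Fin 3 → F) - y) = 0 := by
        rw [map_sub]; exact sub_eq_zero.mpr (congrArg Subtype.val e)
      exact hc _ (V.sub_mem x.2 y.2) (sub_ne_zero.mpr fun h => hne (Subtype.ext h))
        ((mul_eq_zero.mp e').resolve_left h2), fun z => by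
      obtain ⟨_, v, hv, rfl⟩ := z
      exact ⟨⟨v, hv⟩, rfl⟩⟩).symm
  have hle := card_le_of_allowed (J := V.map f) (s := Nat.card (root P b ψ)) (by omega)
    (fun e => three_eq_zero_of_card (one_mem_root hb) e) ?_
  · omega
  rintro _ ⟨ω, hω, rfl⟩
  rcases eq_or_ne ω 0 with rfl | h0
  · left
    rw [map_zero, zero_pow (by omega)]
  · exact pair_one hb (hV ω hω) h2 (hc ω hω h0) hs

end Cfsg.Agent.Linear.Mitchell.Tv
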