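import Cfsg.Agent.Linear.Mitchell.Tv.Isolated

/-!
Separated transvections: the exceptional product does not occur, and every root group is the subfield
of its order.
-/

set_option autoImplicit false

namespace Cfsg.Agent.Linear.Mitchell.Tv

open scoped MatrixGroups Matrix
open Matrix Cfsg.Geo Cfsg.Agent.H95 Cfsg.Agent.Linear Cfsg.Agent.Linear.Dickson

variable {F : Type*} [Field F] {P : Subgroup (GL (Fin 3) F)}

local notation "M3" => Matrix (Fin 3) (Fin 3) F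

/-- Multiplication of pairs standing for the elements of the field with nine elements. -/
def nineProd (u v : Nine) : Nine := (u.1 * v.1 - u.2 * v.2, u.1 * v.2 + u.2 * v.1)

/-- The fourth roots of unity. -/
def nineFour : List Nine := [(1, 0), (-1, 0), (0, 1), (0, -1)]

theorem nine_conditions : ∀ x ∈ nineFour, ∀ y ∈ nineFour, ∀ v₁ ∈ nineFour, ∀ v₂ ∈ nineFour,
    -(v₁ + v₂) = y - nineMul x →
    x - nineMul y + (v₂ - v₁) ∈ nineFour → x - nineMul y - (v₂ - v₁) ∈ nineFour →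
    nineProd (v₂ - v₁) (v₂ - v₁) + nineMul (nineProd x y) = (0, 0) := by
  decide +kernel

/-- The identity behind the exclusion of the exceptional product. -/
theorem nine_identity [CharP F 3] {lam x y D : F} (hlam : lam ^ 2 = -1)
    (S : ∀ z ∈ [x, y, y - lam * x + D, y - lam * x - D, x - lam * y + D, x - lam * y - D],
      z = 1 ∨ z = -1 ∨ z = lam ∨ z = -lam) :
    D * D + lam * (x * y) = 0 := by
  have h3 : (3 : F) = 0 := by exact_mod_cast CharP.cast_eq_zero F 3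
  let c : ZMod 3 →+* F := ZMod.castHom dvd_rfl F
  let ψ : Nine → F := fun u => c u.1 + c u.2 * lam
  have hadd : ∀ u v, ψ (u + v) = ψ u + ψ v := fun u v => by simp [ψ]; ring
  have hsub : ∀ u v, ψ (u - v) = ψ u - ψ v := fun u v => by simp [ψ]; ring
  have hneg : ∀ u, ψ (-u) = -ψ u := fun u => by simp [ψ]; ring
  have hmul : ∀ u, ψ (nineMul u) = lam * ψ u := fun u => by
    simp [ψ, nineMul]; linear_combination -c u.2 * hlam
  have hprod : ∀ u v, ψ (nineProd u v) = ψ u * ψ v := fun u v => by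
    simp [ψ, nineProd]; linear_combination -(c u.2 * c v.2) * hlam
  have hinj : Function.Injective ψ := by
    intro u v e
    have e0 : ψ (u - v) = 0 := by rw [hsub, e, sub_self]
    have e1 : c ((u - v).1 * (u - v).1 + (u - v).2 * (u - v).2) = 0 := by
      simp only [ψ] at e0
      simp only [map_add, map_mul]
      linear_combination (c (u - v).1 - c (u - v).2 * lam) * e0 + c (u - v).2 ^ 2 * hlam
    have e2 := c.injective (e1.trans (map_zero c).symm)
    have key : ∀ a b : ZMod 3, a * a + b * b = 0 → a = 0 ∧ b = 0 := by decide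
    exact sub_eq_zero.mp (Prod.ext (key _ _ e2).1 (key _ _ e2).2)
  have lift : ∀ z, (z = 1 ∨ z = -1 ∨ z = lam ∨ z = -lam) → ∃ u ∈ nineFour, ψ u = z := by
    rintro z (rfl | rfl | rfl | rfl)
    · exact ⟨(1, 0), by simp [nineFour], by simp [ψ]⟩
    · exact ⟨(-1, 0), by simp [nineFour], by simp [ψ]⟩
    · exact ⟨(0, 1), by simp [nineFour], by simp [ψ]⟩
    · exact ⟨(0, -1), by simp [nineFour], by simp [ψ]⟩
  obtain ⟨u, hu, eu⟩ := lift _ (S x (by simp))
  obtain ⟨v, hv, ev⟩ := lift _ (S y (by simp))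
  obtain ⟨v₁, hv₁, e₁⟩ := lift _ (S (y - lam * x + D) (by simp))
  obtain ⟨v₂, hv₂, e₂⟩ := lift _ (S (y - lam * x - D) (by simp))
  obtain ⟨w₁, hw₁, f₁⟩ := lift _ (S (x - lam * y + D) (by simp))
  obtain ⟨w₂, hw₂, f₂⟩ := lift _ (S (x - lam * y - D) (by simp))
  have hD : ψ (v₂ - v₁) = D := by rw [hsub, e₁, e₂]; linear_combination -D * h3
  have h1 : -(v₁ + v₂) = v - nineMul u := hinj (by
    rw [hneg, hadd, hsub, hmul, e₁, e₂, ev, eu]
    linear_combination -(y - lam * x) * h3)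
  have h2 : u - nineMul v + (v₂ - v₁) = w₁ := hinj (by rw [hadd, hsub, hmul, hD, ev, eu, f₁])
  have h4 : u - nineMul v - (v₂ - v₁) = w₂ := hinj (by rw [hsub, hsub, hmul, hD, ev, eu, f₂])
  have := congrArg ψ (nine_conditions u hu v hv v₁ hv₁ v₂ hv₂ h1 (h2 ▸ hw₁) (h4 ▸ hw₂))
  rw [hadd, hprod, hmul, hprod, hD, eu, ev] at this
  simpa [ψ] using this

theorem separated_cj (h : Separated P) (g : GL (Fin 3) F) : Separated (cj g P) := by
  have back : ∀ {a φ : Fin 3 → F}, InTv (cj g P) a φ →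
      InTv P (((g⁻¹ : GL (Fin 3) F) : M3) *ᵥ a) (φ ᵥ* (g : M3)) := fun {a φ} h' => by
    have := inTv_cj (g := g⁻¹) h'
    rwa [cj_cj, inv_mul_cancel, cj_one, inv_inv] at this
  have dot : ∀ a φ : Fin 3 → F,
      (φ ᵥ* (g : M3)) ⬝ᵥ (((g⁻¹ : GL (Fin 3) F) : M3) *ᵥ a) = φ ⬝ᵥ a := fun a φ => by
    rw [← dotProduct_mulVec, mulVec_mulVec, ← Units.val_mul, mul_inv_cancel, Units.val_one,
      one_mulVec]
  intro a φ b ψ ha hφ hb hψ h1 h2
  rcases h _ _ _ _
    (fun e => ha (mulVec_injective_of_isUnit (g⁻¹).isUnit (e.trans (mulVec_zero _).symm)))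
    (fun e => hφ (vecMul_injective_of_isUnit g.isUnit (e.trans (zero_vecMul _).symm)))
    (fun e => hb (mulVec_injective_of_isUnit (g⁻¹).isUnit (e.trans (mulVec_zero _).symm)))
    (fun e => hψ (vecMul_injective_of_isUnit g.isUnit (e.trans (zero_vecMul _).symm)))
    (back h1) (back h2) with ⟨e1, e2⟩ | ⟨⟨c, hc⟩, k, hk⟩
  · exact Or.inl ⟨by rwa [dot] at e1, by rwa [dot] at e2⟩
  · refine Or.inr ⟨⟨c, mulVec_injective_of_isUnit (g⁻¹).isUnit ?_⟩,
      k, vecMul_injective_of_isUnit g.isUnit ?_⟩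
    · rw [hc, mulVec_smul]
    · show ψ ᵥ* (g : M3) = (k • φ) ᵥ* (g : M3)
      exact (show ψ ᵥ* (g : M3) = k • (φ ᵥ* (g : M3)) from hk).trans (smul_vecMul _ _ _).symm

theorem Separated.flag_eq (hS : Separated P) {a φ b ψ : Fin 3 → F} (ha : a ≠ 0) (hφ : φ ≠ 0)
    (hb : b ≠ 0) (hψ : ψ ≠ 0) (h : InTv P a φ) (h' : InTv P b ψ)
    (hi : φ ⬝ᵥ b = 0 ∨ ψ ⬝ᵥ a = 0) : (∃ c : F, b = c • a) ∧ ∃ c : F, ψ = c • φ := by
  rcases hS a φ b ψ ha hφ hb hψ h h' with ⟨e1, e2⟩ | e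
  · exact hi.elim (absurd · e1) (absurd · e2)
  · exact e

/-- A non-incident pair in standard position. -/
theorem exists_pair_frame {a φ b ψ : Fin 3 → F} (h : InTv P a φ) (h' : InTv P b ψ)
    (h1 : φ ⬝ᵥ b ≠ 0) (h2 : ψ ⬝ᵥ a ≠ 0) :
    ∃ g : GL (Fin 3) F, InTv (cj g P) (E 0) (E 2) ∧
      InTv (cj g P) (E 2) (((φ ⬝ᵥ b) * (ψ ⬝ᵥ a)) • E 0) := by
  set μ := φ ⬝ᵥ b
  have ha : InTv P (μ • a) (μ⁻¹ • φ) :=
    inTv_smul_left (by rwa [smul_smul, mul_inv_cancel₀ h1, one_smul]) (by simp [h.1])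
  have hφ0 : φ ≠ 0 := fun e => h1 (by simp [μ, e])
  have hψ0 : ψ ≠ 0 := fun e => h2 (by simp [e])
  obtain ⟨r, hr, hr1, hr2⟩ : ∃ r : Fin 3 → F, r ≠ 0 ∧ φ ⬝ᵥ r = 0 ∧ ψ ⬝ᵥ r = 0 := by
    refine ⟨crossProduct φ ψ, fun e => ?_, dot_self_cross φ ψ, dot_cross_self φ ψ⟩
    have h3 : crossProduct φ ψ = 0 := e
    obtain ⟨i, hi⟩ := Function.ne_iff.mp hφ0
    have hc := eq_zero_of_cross (u := (φ i)⁻¹ • φ) (v := ψ - ((φ i)⁻¹ * ψ i) • φ) (m := i)
      (by simp [inv_mul_cancel₀ (show φ i ≠ 0 from hi)])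
      (by
        simp only [Pi.sub_apply, Pi.smul_apply, smul_eq_mul]
        rw [mul_comm ((φ i)⁻¹), mul_assoc, inv_mul_cancel₀ (show φ i ≠ 0 from hi), mul_one, sub_self])
      (fun j => by simp [map_sub, map_smul, h3])
    have hψe := sub_eq_zero.mp hc
    exact h2 (by rw [hψe, smul_dotProduct, h.1, smul_zero])
  have hμa : μ⁻¹ • φ ⬝ᵥ (μ • a) = 0 := inTv_dot ha
  have e02 : (μ⁻¹ • φ) ⬝ᵥ b = 1 := by simp [μ, inv_mul_cancel₀ h1]
  have e20 : ψ ⬝ᵥ (μ • a) = μ * (ψ ⬝ᵥ a) := by simp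
  have hf : LinearIndependent F ![μ • a, r, b] := by
    rw [Fintype.linearIndependent_iff]
    intro g hg
    simp only [Fin.sum_univ_three, Matrix.cons_val_zero, Matrix.cons_val_one,
      Matrix.cons_val] at hg
    have g2 := congrArg (fun x => φ ⬝ᵥ x) hg
    have g0 := congrArg (fun x => ψ ⬝ᵥ x) hg
    simp [dotProduct_add, h.1, hr1, μ, h1] at g2
    simp [dotProduct_add, h'.1, hr2, h2, μ, h1] at g0
    rw [g0, g2, zero_smul, zero_smul, zero_add, add_zero, smul_eq_zero] at hg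
    intro l
    fin_cases l
    exacts [g0, hg.resolve_right hr, g2]
  obtain ⟨g, hg, hrow⟩ := exists_frame hf
  have i1 := inTv_cj (g := g) ha
  have i2 := inTv_cj (g := g) h'
  rw [show (g : M3) *ᵥ (μ • a) = E 0 from hg 0] at i1
  rw [show (g : M3) *ᵥ b = E 2 from hg 2] at i2
  refine ⟨g, ?_, ?_⟩
  · convert i1 using 1
    ext j
    rw [hrow]
    fin_cases j
    · simpa [E] using hμa.symm
    · simp [E, hr1]
    · simpa [E] using e02.symm
  · convert i2 using 1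
    ext j
    rw [hrow]
    fin_cases j
    · simpa [E] using e20.symm
    · simp [E, hr2]
    · simp [E, h'.1]

variable [Finite F]

/-- The exceptional product does not occur. -/
theorem no_exception (hP : Setting P) (hS : Separated P) {a φ : Fin 3 → F} (ha : InTv P a φ)
    (hs : Nat.card (root P a φ) = 3) {b ψ : Fin 3 → F} (hb : InTv P b ψ) (h1 : φ ⬝ᵥ b ≠ 0)
    (h2 : ψ ⬝ᵥ a ≠ 0) : ((φ ⬝ᵥ b) * (ψ ⬝ᵥ a)) ^ 2 ≠ -1 := by
  intro hlam
  obtain ⟨g, i0, i2⟩ := exists_pair_frame ha hb h1 h2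
  set lam := (φ ⬝ᵥ b) * (ψ ⬝ᵥ a) with hlamdef
  have hlam0 : lam ≠ 0 := mul_ne_zero h1 h2
  set Q := cj g P
  have hP' := setting_cj hP g
  have hS' := separated_cj hS g
  have h3 : (3 : F) = 0 := three_eq_zero_of_card (one_mem_root ha) hs
  have : CharP F 3 := CharP.charP_iff_prime_eq_zero Nat.prime_three |>.mpr (by exact_mod_cast h3)
  have hsQ : Nat.card (root Q (E 0) (E 2)) = 3 ∧ Nat.card (root Q (E 2) (lam • E 0)) = 3 := by
    have ha0 : a ≠ 0 := fun e => h2 (by simp [e])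
    have hφ0 : φ ≠ 0 := fun e => h1 (by simp [e])
    have key : ∀ {x χ : Fin 3 → F}, x ≠ 0 → χ ≠ 0 → InTv Q x χ → Nat.card (root Q x χ) = 3 := by
      intro x χ hx hχ hxχ
      have hga : InTv Q ((g : M3) *ᵥ a) (φ ᵥ* ((g⁻¹ : GL (Fin 3) F) : M3)) := inTv_cj ha
      have hga0 : (g : M3) *ᵥ a ≠ 0 := fun e =>
        ha0 (mulVec_injective_of_isUnit g.isUnit (e.trans (mulVec_zero _).symm))
      have hgφ0 : φ ᵥ* ((g⁻¹ : GL (Fin 3) F) : M3) ≠ 0 := fun e =>
        hφ0 (vecMul_injective_of_isUnit (g⁻¹).isUnit (e.trans (zero_vecMul _).symm))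
      have hcard : Nat.card (root Q ((g : M3) *ᵥ a) (φ ᵥ* ((g⁻¹ : GL (Fin 3) F) : M3))) = 3 := by
        refine Eq.trans ?_ hs
        refine Nat.card_congr (Equiv.subtypeEquivRight fun c => ?_)
        constructor
        · intro h
          have := inTv_cj (g := g⁻¹) (mem_root.mp h)
          rw [cj_cj, inv_mul_cancel, cj_one, mulVec_mulVec, ← Units.val_mul, inv_mul_cancel,
            Units.val_one, one_mulVec, inv_inv, smul_vecMul, vecMul_vecMul, ← Units.val_mul,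
            inv_mul_cancel, Units.val_one, vecMul_one] at this
          exact this
        · intro h
          have := inTv_cj (g := g) (mem_root.mp h)
          rwa [smul_vecMul] at this
      exact (card_root_const hP' hS'.noMixed hga0 hgφ0 hga hcard.ge hx hχ hxχ).trans hcard
    exact ⟨key (E_ne_zero 0) (E_ne_zero 2) i0,
      key (E_ne_zero 2) (smul_ne_zero hlam0 (E_ne_zero 0)) i2⟩
  -- all products are fourth roots of unity
  have fourth : ∀ z : F, z ^ 3 = z ∨ z ^ 2 = -1 → z ≠ 0 → z = 1 ∨ z = -1 ∨ z = lam ∨ z = -lam := by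
    intro z hz hz0
    rcases hz with e | e
    · have : (z - 1) * (z + 1) = 0 := mul_left_cancel₀ hz0 (by linear_combination e)
      rcases mul_eq_zero.mp this with e | e
      · exact Or.inl (by linear_combination e)
      · exact Or.inr (Or.inl (by linear_combination e))
    · have : (z - lam) * (z + lam) = 0 := by linear_combination e - hlam
      rcases mul_eq_zero.mp this with e | e
      · exact Or.inr (Or.inr (Or.inl (by linear_combination e)))
      · exact Or.inr (Or.inr (Or.inr (by linear_combination e)))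
  have prodA : ∀ {x χ : Fin 3 → F}, InTv Q x χ → x 2 * χ 0 ≠ 0 →
      x 2 * χ 0 = 1 ∨ x 2 * χ 0 = -1 ∨ x 2 * χ 0 = lam ∨ x 2 * χ 0 = -lam := by
    intro x χ hxχ hne
    have := pair_one i0 hxχ (by rw [E_dot]; exact left_ne_zero_of_mul hne)
      (by rw [dot_E]; exact right_ne_zero_of_mul hne) (by omega)
    rw [hsQ.1, E_dot, dot_E] at this
    exact fourth _ (this.imp id fun h => h.2) hne
  have prodB : ∀ {x χ : Fin 3 → F}, InTv Q x χ → lam * (x 0 * χ 2) ≠ 0 →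
      lam * (x 0 * χ 2) = 1 ∨ lam * (x 0 * χ 2) = -1 ∨ lam * (x 0 * χ 2) = lam ∨
        lam * (x 0 * χ 2) = -lam := by
    intro x χ hxχ hne
    have hx : (lam • (E 0 : Fin 3 → F)) ⬝ᵥ x ≠ 0 := by
      rw [smul_dotProduct, E_dot]
      exact mul_ne_zero hlam0 (left_ne_zero_of_mul (right_ne_zero_of_mul hne))
    have := pair_one i2 hxχ hx (by rw [dot_E]; exact right_ne_zero_of_mul (right_ne_zero_of_mul hne))
      (by omega)
    rw [hsQ.2, smul_dotProduct, E_dot, dot_E, smul_eq_mul, mul_assoc] at this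
    exact fourth _ (this.imp id fun h => h.2) hne
  -- centre or axis meets the middle
  have hkey : ∀ {d θ : Fin 3 → F}, d ≠ 0 → θ ≠ 0 → InTv Q d θ → d 1 = 0 ∨ θ 1 = 0 := by
    intro d θ hd hθ hdθ
    by_contra hc
    push Not at hc
    -- different flags are non-incident
    have ne0 : ∀ {d' θ' : Fin 3 → F}, InTv Q d' θ' → d' 1 ≠ 0 → θ' ≠ 0 →
        d' 2 ≠ 0 ∧ θ' 0 ≠ 0 ∧ d' 0 ≠ 0 ∧ θ' 2 ≠ 0 := by
      intro d' θ' h hd'1 hθ'
      have hd' : d' ≠ 0 := fun e => hd'1 (by rw [e]; rfl)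
      have a1 : ∀ c : F, d' ≠ c • (E 0 : Fin 3 → F) := fun c e => hd'1 (by rw [e]; simp [E])
      have a2 : ∀ c : F, d' ≠ c • (E 2 : Fin 3 → F) := fun c e => hd'1 (by rw [e]; simp [E])
      rcases hS' _ _ d' θ' (E_ne_zero 0) (E_ne_zero 2) hd' hθ' i0 h with ⟨p1, p2⟩ | ⟨⟨c, hc'⟩, -⟩
      swap
      · exact absurd hc' (a1 c)
      rcases hS' _ _ d' θ' (E_ne_zero 2) (smul_ne_zero hlam0 (E_ne_zero 0)) hd' hθ' i2 h with
        ⟨p3, p4⟩ | ⟨⟨c, hc'⟩, -⟩
      swap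
      · exact absurd hc' (a2 c)
      rw [E_dot] at p1
      rw [dot_E] at p2 p4
      rw [smul_dotProduct, E_dot, smul_eq_mul] at p3
      exact ⟨p1, p2, right_ne_zero_of_mul p3, p4⟩
    obtain ⟨hd2, hθ0, hd0, hθ2⟩ := ne0 hdθ hc.1 hθ
    set x := d 2 * θ 0 with hx
    set y := lam * (d 0 * θ 2) with hy
    set D := lam * (d 2 * θ 2 - d 0 * θ 0) with hD
    have h0 := inTv_dot hdθ
    simp only [dotProduct, Fin.sum_univ_three] at h0
    -- translates along the first root group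
    have tA : ∀ k : F, k = 1 ∨ k = -1 → y - lam * x + k * D = 1 ∨ y - lam * x + k * D = -1 ∨
        y - lam * x + k * D = lam ∨ y - lam * x + k * D = -lam := by
      intro k hk
      have hkm : InTv Q (E 0) (k • E 2) := by
        rcases hk with rfl | rfl
        · rwa [one_smul]
        · rw [neg_one_smul]; exact inTv_neg i0
      have hkk : k * k = 1 := by rcases hk with rfl | rfl <;> ring
      have hconj := inTv_conj_tv hdθ hkm
      set d' := d + ((k • (E 2 : Fin 3 → F)) ⬝ᵥ d) • (E 0 : Fin 3 → F) with hd'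
      set θ' := θ - (θ ⬝ᵥ (E 0 : Fin 3 → F)) • (k • (E 2 : Fin 3 → F)) with hθ'
      have d0 : d' 0 = d 0 + k * d 2 := by simp [hd', E, dotProduct, Fin.sum_univ_three]
      have d1 : d' 1 = d 1 := by simp [hd', E]
      have t0 : θ' 0 = θ 0 := by simp [hθ', E]
      have t2 : θ' 2 = θ 2 - k * θ 0 := by simp [hθ', E, mul_comm]
      obtain ⟨-, -, q1, q2⟩ := ne0 hconj (by rw [d1]; exact hc.1)
        (fun e => hθ0 (by rw [← t0, e]; rfl))
      have := prodB hconj (mul_ne_zero hlam0 (mul_ne_zero q1 q2))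
      rw [d0, t2] at this
      have e : lam * ((d 0 + k * d 2) * (θ 2 - k * θ 0)) = y - lam * x + k * D := by
        rw [hy, hx, hD]; linear_combination -(lam * d 2 * θ 0) * hkk
      rwa [e] at this
    have tB : ∀ k : F, k = 1 ∨ k = -1 → x - lam * y + k * D = 1 ∨ x - lam * y + k * D = -1 ∨
        x - lam * y + k * D = lam ∨ x - lam * y + k * D = -lam := by
      intro k hk
      have hkm : InTv Q (E 2) ((-k) • (lam • E 0)) := by
        rcases hk with rfl | rfl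
        · rw [neg_one_smul]; exact inTv_neg i2
        · rwa [neg_neg, one_smul]
      have hkk : k * k = 1 := by rcases hk with rfl | rfl <;> ring
      have hconj := inTv_conj_tv hdθ hkm
      set d' := d + (((-k) • (lam • (E 0 : Fin 3 → F))) ⬝ᵥ d) • (E 2 : Fin 3 → F) with hd'
      set θ' := θ - (θ ⬝ᵥ (E 2 : Fin 3 → F)) • ((-k) • (lam • (E 0 : Fin 3 → F))) with hθ'
      have d2 : d' 2 = d 2 - k * lam * d 0 := by
        simp [hd', E, dotProduct, Fin.sum_univ_three]; ring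
      have d1 : d' 1 = d 1 := by simp [hd', E]
      have t2 : θ' 2 = θ 2 := by simp [hθ', E]
      have t0 : θ' 0 = θ 0 + k * lam * θ 2 := by simp [hθ', E]; ring
      obtain ⟨q1, q2, -, -⟩ := ne0 hconj (by rw [d1]; exact hc.1)
        (fun e => hθ2 (by rw [← t2, e]; rfl))
      have := prodA hconj (mul_ne_zero q1 q2)
      rw [d2, t0] at this
      have e : (d 2 - k * lam * d 0) * (θ 0 + k * lam * θ 2) = x - lam * y + k * D := by
        rw [hy, hx, hD]; linear_combination -(lam ^ 2 * d 0 * θ 2) * hkk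
      rwa [e] at this
    have hmem : ∀ z ∈ [x, y, y - lam * x + D, y - lam * x - D, x - lam * y + D, x - lam * y - D],
        z = 1 ∨ z = -1 ∨ z = lam ∨ z = -lam := by
      intro z hz
      simp only [List.mem_cons, List.not_mem_nil, or_false] at hz
      rcases hz with rfl | rfl | rfl | rfl | rfl | rfl
      · exact prodA hdθ (mul_ne_zero hd2 hθ0)
      · exact prodB hdθ (mul_ne_zero hlam0 (mul_ne_zero hd0 hθ2))
      · simpa using tA 1 (Or.inl rfl)
      · simpa [sub_eq_add_neg] using tA (-1) (Or.inr rfl)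
      · simpa using tB 1 (Or.inl rfl)
      · simpa [sub_eq_add_neg] using tB (-1) (Or.inr rfl)
    have hid := nine_identity hlam hmem
    have hsq : (lam * (d 1 * θ 1)) ^ 2 = 0 := by
      rw [hx, hy, hD] at hid
      linear_combination hid + lam ^ 2 * (θ 1 * d 1 - (θ 0 * d 0 + θ 2 * d 2)) * h0 +
        lam ^ 2 * (θ 0 * d 0 * θ 2 * d 2) * h3
    exact mul_ne_zero hlam0 (mul_ne_zero hc.1 hc.2) (pow_eq_zero_iff two_ne_zero |>.1 hsq)
  obtain ⟨d, θ, hd, hθ, hdθ, hd1⟩ := exists_centre_off hP' (E_ne_zero 0) (E_ne_zero 2) i0 (E_ne_zero 1)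
  obtain ⟨d', θ', hd', hθ', hdθ', hθ'1⟩ :=
    exists_axis_off hP' (E_ne_zero 0) (E_ne_zero 2) i0 (E_ne_zero 1)
  rw [E_dot] at hd1
  rw [dot_E] at hθ'1
  have t1 : θ 1 = 0 := (hkey hd hθ hdθ).resolve_left hd1
  have d'1 : d' 1 = 0 := (hkey hd' hθ' hdθ').resolve_right hθ'1
  have hne : θ ⬝ᵥ d' ≠ 0 := by
    intro e
    obtain ⟨⟨c, hc⟩, -⟩ := hS'.flag_eq hd hθ hd' hθ' hdθ hdθ' (Or.inl e)
    rw [hc, Pi.smul_apply, smul_eq_mul, mul_eq_zero] at d'1
    exact hd' (by rw [hc, d'1.resolve_right hd1, zero_smul])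
  have hconj := inTv_conj_tv hdθ' hdθ
  have e1 : (d' + (θ ⬝ᵥ d') • d) 1 = (θ ⬝ᵥ d') * d 1 := by simp [d'1]
  have e2 : (θ' - (θ' ⬝ᵥ d) • θ) 1 = θ' 1 := by simp [t1]
  rcases hkey (fun e => mul_ne_zero hne hd1 (by rw [← e1, e]; rfl))
      (fun e => hθ'1 (by rw [← e2, e]; rfl)) hconj with e | e
  · exact mul_ne_zero hne hd1 (e1 ▸ e)
  · exact hθ'1 (e2 ▸ e)

/-- Root groups are the subfield of their order and contain the incidence products. -/
theorem exists_rootField (hP : Setting P) (hS : Separated P) {a φ : Fin 3 → F} (ha : a ≠ 0)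
    (hφ : φ ≠ 0) (h : InTv P a φ) (hs : 3 ≤ Nat.card (root P a φ)) :
    ∃ K : Subfield F, 3 ≤ Nat.card K ∧ (∀ x : F, x ∈ K ↔ x ^ Nat.card K = x) ∧
      (∀ b ψ : Fin 3 → F, b ≠ 0 → ψ ≠ 0 → InTv P b ψ → ∀ c, c ∈ root P b ψ ↔ c ∈ K) ∧
      (∀ b ψ d θ : Fin 3 → F, InTv P b ψ → InTv P d θ → (ψ ⬝ᵥ d) * (θ ⬝ᵥ b) ∈ K) := by
  classical
  set s := Nat.card (root P a φ) with hsdef
  have hsize : ∀ {b ψ : Fin 3 → F}, b ≠ 0 → ψ ≠ 0 → InTv P b ψ → Nat.card (root P b ψ) = s :=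
    fun hb hψ hbψ => card_root_const hP hS.noMixed ha hφ h hs hb hψ hbψ
  have hex : ∀ {b ψ d θ : Fin 3 → F}, InTv P b ψ → InTv P d θ → ψ ⬝ᵥ d ≠ 0 → θ ⬝ᵥ b ≠ 0 →
      ((ψ ⬝ᵥ d) * (θ ⬝ᵥ b)) ^ s = (ψ ⬝ᵥ d) * (θ ⬝ᵥ b) := by
    intro b ψ d θ hbψ hdθ e1 e2
    have hc : Nat.card (root P b ψ) = s :=
      hsize (fun e => e2 (by simp [e])) (fun e => e1 (by simp [e])) hbψ
    rcases pair_one hbψ hdθ e1 e2 (hc ▸ hs) with e | ⟨e3, e⟩
    · rwa [hc] at e
    · exact absurd e (no_exception hP hS hbψ e3 hdθ e1 e2)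
  obtain ⟨b, ψ, hb, hψ, hbψ, hψa⟩ := exists_axis_off hP ha hφ h ha
  have hφb : φ ⬝ᵥ b ≠ 0 := fun e => by
    obtain ⟨-, c, hc⟩ := hS.flag_eq ha hφ hb hψ h hbψ (Or.inl e)
    exact hψa (by rw [hc, smul_dotProduct, inTv_dot h, smul_zero])
  obtain ⟨K, hKc⟩ : ∃ K : Subfield F, Nat.card K = s := by
    rcases (pair h hbψ hφb hψa hs).2 with ⟨K, hK, -⟩ | ⟨h3, hm⟩
    · exact ⟨K, hK⟩
    · have := hm 1 (one_mem_root h) 1 (one_mem_root hbψ) one_ne_zero one_ne_zero
      rw [one_mul, one_mul] at this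
      exact absurd this (no_exception hP hS h h3 hbψ hφb hψa)
  have hKs : ∀ x : F, x ∈ K ↔ x ^ s = x := by
    intro x
    have : Fintype K := Fintype.ofFinite K
    have hfix : ∀ y ∈ (K : Set F), y ^ s = y := fun y hy => by
      have := congrArg (fun z : K => (z : F)) (FiniteField.pow_card (⟨y, hy⟩ : K))
      rwa [← Nat.card_eq_fintype_card, hKc] at this
    refine ⟨hfix x, fun hx => mem_of_pow_eq (by omega) ?_ hfix hx⟩
    rw [← Nat.card_coe_set_eq, SetLike.coe_sort_coe, hKc]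
  have hprod : ∀ b ψ d θ : Fin 3 → F, InTv P b ψ → InTv P d θ → (ψ ⬝ᵥ d) * (θ ⬝ᵥ b) ∈ K := by
    intro b ψ d θ hbψ hdθ
    rcases eq_or_ne ((ψ ⬝ᵥ d) * (θ ⬝ᵥ b)) 0 with e | e
    · rw [e]; exact K.zero_mem
    · exact (hKs _).mpr (hex hbψ hdθ (left_ne_zero_of_mul e) (right_ne_zero_of_mul e))
  refine ⟨K, hKc ▸ hs, fun x => by rw [hKc]; exact hKs x, ?_, hprod⟩
  intro b ψ hb hψ hbψ
  obtain ⟨d, θ, hd, hθ, hdθ, hθb⟩ := exists_axis_off hP hb hψ hbψ hb
  have hψd : ψ ⬝ᵥ d ≠ 0 := fun e => by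
    obtain ⟨-, c, hc⟩ := hS.flag_eq hb hψ hd hθ hbψ hdθ (Or.inl e)
    exact hθb (by rw [hc, smul_dotProduct, inTv_dot hbψ, smul_zero])
  have hsub : ∀ c ∈ root P b ψ, c ∈ K := by
    intro c hc
    have h1 := hprod _ _ _ _ (mem_root.mp hc) hdθ
    rw [smul_dotProduct, smul_eq_mul, mul_assoc] at h1
    have h2 := hprod _ _ _ _ hbψ hdθ
    have := K.div_mem h1 h2
    rwa [mul_div_assoc, div_self (mul_ne_zero hψd hθb), mul_one] at this
  have he : root P b ψ = K.toAddSubgroup := by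
    refine AddSubgroup.eq_of_le_of_card_ge hsub ?_
    rw [hsize hb hψ hbψ, ← hKc]
    exact le_rfl
  intro c
  rw [he]
  rfl

end Cfsg.Agent.Linear.Mitchell.Tv
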