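import Cfsg.Agent.Linear.Mitchell.Tv.Pair
import Cfsg.Agent.Linear.Generation

/-!
Six root groups along a triangle give `SL₃` over a subfield.
-/

set_option autoImplicit false

namespace Cfsg.Agent.Linear.Mitchell.Tv

open scoped MatrixGroups Matrix
open Matrix Cfsg.Geo Cfsg.Agent.H95

variable {F : Type*} [Field F] {P : Subgroup (GL (Fin 3) F)}

local notation "M3" => Matrix (Fin 3) (Fin 3) F

/-- The standard vectors, also used as coordinate functions. -/
def E (i : Fin 3) : Fin 3 → F := Pi.single i 1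

theorem E_dot (i : Fin 3) (x : Fin 3 → F) : (E i : Fin 3 → F) ⬝ᵥ x = x i := by
  simp [E]

theorem dot_E (i : Fin 3) (x : Fin 3 → F) : x ⬝ᵥ (E i : Fin 3 → F) = x i := by
  simp [E]

theorem E_dot_E {i j : Fin 3} (h : i ≠ j) : (E i : Fin 3 → F) ⬝ᵥ E j = 0 := by
  rw [E_dot]; simp [E, h]

theorem E_ne_zero (i : Fin 3) : (E i : Fin 3 → F) ≠ 0 := fun e => by
  simpa [E] using congrFun e i

/-- The elementary root groups. -/
def el (P : Subgroup (GL (Fin 3) F)) (i j : Fin 3) : AddSubgroup F := root P (E i) (E j)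

theorem el_mul {i j k : Fin 3} (hik : i ≠ k) {x y : F} (hx : x ∈ el P i j) (hy : y ∈ el P j k) :
    x * y ∈ el P i k := by
  have h := inTv_mixed (h := (mem_root.mp hy)) (h' := (mem_root.mp hx))
    (by simp [E_dot_E hik.symm])
  rw [smul_dotProduct, E_dot] at h
  have h' := inTv_of_smul h (by simp [E_dot_E hik.symm])
  rw [el, mem_root]
  convert h' using 1
  simp [E, smul_smul]

/-- A change of basis. -/
theorem exists_frame {f : Fin 3 → Fin 3 → F} (hf : LinearIndependent F f) :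
    ∃ g : GL (Fin 3) F, (∀ i, (g : M3) *ᵥ f i = E i) ∧
      ∀ (φ : Fin 3 → F) (j : Fin 3), (φ ᵥ* ((g⁻¹ : GL (Fin 3) F) : M3)) j = φ ⬝ᵥ f j := by
  let M : M3 := (Matrix.of f)ᵀ
  have hM : IsUnit M := by
    rw [← Matrix.linearIndependent_cols_iff_isUnit]
    exact hf
  have hcol : ∀ i, (hM.unit : M3) *ᵥ E i = f i := fun i => by
    rw [IsUnit.unit_spec, E, mulVec_single_one]
    rfl
  refine ⟨hM.unit⁻¹, fun i => ?_, fun φ j => ?_⟩
  · rw [← hcol i, mulVec_mulVec, ← Units.val_mul, inv_mul_cancel, Units.val_one, one_mulVec]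
  · rw [inv_inv, IsUnit.unit_spec]
    rfl

theorem el_scale (t : Fin 3 → Fˣ) :
    ∃ g : GL (Fin 3) F, ∀ i j, ∀ c ∈ el P i j, (t i : F) * c * (t j : F)⁻¹ ∈ el (cj g P) i j := by
  let g : GL (Fin 3) F :=
    ⟨Matrix.diagonal fun i => (t i : F), Matrix.diagonal fun i => (t i : F)⁻¹,
      by rw [diagonal_mul_diagonal]; simp, by rw [diagonal_mul_diagonal]; simp⟩
  refine ⟨g, fun i j c hc => ?_⟩
  have h := inTv_cj (g := g) (mem_root.mp hc)
  have e1 : (g : M3) *ᵥ E i = (t i : F) • E i := by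
    ext k
    show (Matrix.diagonal (fun l => (t l : F)) *ᵥ E i) k = _
    rw [mulVec_diagonal]
    rcases eq_or_ne k i with rfl | hk
    · simp [E]
    · simp [E, hk]
  have e2 : (c • E j : Fin 3 → F) ᵥ* ((g⁻¹ : GL (Fin 3) F) : M3) = (c * (t j : F)⁻¹) • E j := by
    ext k
    show ((c • E j) ᵥ* Matrix.diagonal (fun l => (t l : F)⁻¹)) k = _
    rw [vecMul_diagonal]
    rcases eq_or_ne k j with rfl | hk
    · simp [E]
    · simp [E, hk]
  rw [e1, e2] at h
  rw [el, mem_root]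
  rcases eq_or_ne c 0 with rfl | hc0
  · simp only [mul_zero, zero_mul, zero_smul]
    exact inTv_zero_right _ _
  have h0 : ((c * (t j : F)⁻¹) • E j) ⬝ᵥ (E i : Fin 3 → F) = 0 := by
    have := inTv_dot h
    rw [dotProduct_smul, smul_eq_mul, mul_eq_zero] at this
    exact this.resolve_left (t i).ne_zero
  have h' := inTv_of_smul h h0
  rwa [smul_smul, ← mul_assoc] at h'

theorem eq_zero_of_cross {u v : Fin 3 → F} {m : Fin 3} (hu : u m = 1) (hv : v m = 0)
    (hc : ∀ j, crossProduct u v j = 0) : v = 0 := by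
  have c0 := hc 0
  have c1 := hc 1
  have c2 := hc 2
  simp [cross_apply] at c0 c1 c2
  funext k
  fin_cases m <;> simp at hu hv <;> fin_cases k <;> simp [hu, hv] at c0 c1 c2 ⊢ <;>
    first
      | assumption
      | linear_combination c0
      | linear_combination -c0
      | linear_combination c1
      | linear_combination -c1
      | linear_combination c2
      | linear_combination -c2

variable [Finite F]

/-- With unit scalings the six root groups are one subfield. -/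
theorem el_eq_subfield (hne : ∀ i j : Fin 3, i ≠ j → ∃ c ∈ el P i j, c ≠ 0)
    (h01 : (1 : F) ∈ el P 0 1) (h12 : (1 : F) ∈ el P 1 2) :
    ∃ K : Subfield F, ∀ i j : Fin 3, i ≠ j → ∀ c, c ∈ el P i j ↔ c ∈ K := by
  have m : ∀ (i j k : Fin 3), i ≠ k → ∀ x ∈ el P i j, ∀ y ∈ el P j k, x * y ∈ el P i k :=
    fun i j k hik x hx y hy => el_mul hik hx hy
  have h02 : (1 : F) ∈ el P 0 2 := by simpa using m 0 1 2 (by decide) 1 h01 1 h12
  obtain ⟨w, hw, hw0⟩ := hne 2 0 (by decide)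
  obtain ⟨u, hu, hu0⟩ := hne 2 1 (by decide)
  set M := stab (el P 0 2) with hM
  have i01 : ∀ x ∈ el P 0 1, x ∈ el P 0 2 := fun x hx => by
    simpa using m 0 1 2 (by decide) x hx 1 h12
  have i12 : ∀ x ∈ el P 1 2, x ∈ el P 0 2 := fun x hx => by
    simpa using m 0 1 2 (by decide) 1 h01 x hx
  have s10 : ∀ x ∈ el P 1 0, x ∈ M := fun x hx r hr => by
    rw [mul_comm]; exact i12 _ (m 1 0 2 (by decide) x hx r hr)
  have s21 : ∀ x ∈ el P 2 1, x ∈ M := fun x hx r hr => i01 _ (m 0 2 1 (by decide) r hr x hx)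
  have s20 : ∀ x ∈ el P 2 0, x ∈ M := fun x hx => by
    simpa using s21 _ (m 2 0 1 (by decide) x hx 1 h01)
  have cancel : ∀ {x y : F}, y ≠ 0 → y ∈ M → x * y ∈ M → x ∈ M := fun {x y} hy0 hy hxy => by
    simpa [hy0] using M.mul_mem hxy (M.inv_mem hy)
  have s01 : ∀ x ∈ el P 0 1, x ∈ M := fun x hx => cancel hw0 (s20 w hw) (by
    rw [mul_comm]; exact s21 _ (m 2 0 1 (by decide) w hw x hx))
  have s12 : ∀ x ∈ el P 1 2, x ∈ M := fun x hx =>
    cancel hw0 (s20 w hw) (s10 _ (m 1 2 0 (by decide) x hx w hw))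
  have s02 : ∀ x ∈ el P 0 2, x ∈ M := fun x hx =>
    cancel hu0 (s21 u hu) (s01 _ (m 0 2 1 (by decide) x hx u hu))
  have t02 : ∀ x ∈ M, x ∈ el P 0 2 := fun x hx => by simpa using hx 1 h02
  have divm : ∀ {x y : F}, x ∈ M → y ∈ M → x * y⁻¹ ∈ M := fun hx hy => M.mul_mem hx (M.inv_mem hy)
  obtain ⟨v, hv, hv0⟩ := hne 1 0 (by decide)
  have t01 : ∀ x ∈ M, x ∈ el P 0 1 := fun x hx => by
    simpa [hu0] using m 0 2 1 (by decide) _ (t02 _ (divm hx (s21 u hu))) u hu
  have t12 : ∀ x ∈ M, x ∈ el P 1 2 := fun x hx => by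
    have e : x = v * (x * v⁻¹) := by field_simp
    rw [e]
    exact m 1 0 2 (by decide) v hv _ (t02 _ (divm hx (s10 v hv)))
  have t21 : ∀ x ∈ M, x ∈ el P 2 1 := fun x hx => by
    have e : x = w * (x * w⁻¹) := by field_simp
    rw [e]
    exact m 2 0 1 (by decide) w hw _ (t01 _ (divm hx (s20 w hw)))
  have t10 : ∀ x ∈ M, x ∈ el P 1 0 := fun x hx => by
    simpa [hw0] using m 1 2 0 (by decide) _ (t12 _ (divm hx (s20 w hw))) w hw
  have t20 : ∀ x ∈ M, x ∈ el P 2 0 := fun x hx => by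
    simpa using m 2 1 0 (by decide) _ (t21 x hx) 1 (t10 1 M.one_mem)
  refine ⟨M, fun i j hij c => ?_⟩
  fin_cases i <;> fin_cases j <;> first | exact absurd rfl hij | skip
  exacts [⟨s01 c, t01 c⟩, ⟨s02 c, t02 c⟩, ⟨s10 c, t10 c⟩, ⟨s12 c, t12 c⟩, ⟨s20 c, t20 c⟩,
    ⟨s21 c, t21 c⟩]

variable (K : Subfield F)

/-- The inclusion of `SL₃(K)`. -/
def slHom : Matrix.SpecialLinearGroup (Fin 3) K →* GL (Fin 3) F :=
  (Matrix.GeneralLinearGroup.map (n := Fin 3) (K.subtype : K →+* F)).comp SpecialLinearGroup.toGL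

omit [Finite F] in
theorem slHom_val (g : Matrix.SpecialLinearGroup (Fin 3) K) (i j : Fin 3) :
    (slHom K g : M3) i j = ((g : Matrix (Fin 3) (Fin 3) K) i j : F) := rfl

omit [Finite F] in
theorem slHom_range : (slHom K).range = (specialLinear (Fin 3) K).map
    (Matrix.GeneralLinearGroup.map (n := Fin 3) (K.subtype : K →+* F)) := by
  ext x
  constructor
  · rintro ⟨g, rfl⟩
    refine ⟨_, ?_, rfl⟩
    rw [SetLike.mem_coe, specialLinear, MonoidHom.mem_ker]
    exact Units.ext g.2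
  · rintro ⟨g, hg, rfl⟩
    rw [SetLike.mem_coe, specialLinear, MonoidHom.mem_ker] at hg
    exact ⟨⟨(g : Matrix (Fin 3) (Fin 3) K), congrArg Units.val hg⟩, Units.ext rfl⟩

theorem slHom_mem (hK : ∀ i j : Fin 3, i ≠ j → ∀ c, c ∈ el P i j ↔ c ∈ K) :
    (slHom K).range ≤ P := by
  have htop : P.comap (slHom K) = ⊤ := by
    refine eq_top_of_transvection_mem fun i j hij c => ?_
    rw [Subgroup.mem_comap]
    obtain ⟨h0, h⟩ := mem_root.mp ((hK i j hij c).mpr c.2)
    convert h using 1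
    refine Units.ext ?_
    ext k l
    rw [slHom_val, tv_val, tvMat_apply, SpecialLinearGroup.transvection_coe, Matrix.add_apply,
      Matrix.single_apply, Subfield.coe_add]
    rcases eq_or_ne k i with rfl | hk
    · rcases eq_or_ne l j with rfl | hl
      · simp [E, hij]
      · simp [E, hl, Ne.symm hl, Matrix.one_apply]
        split_ifs <;> simp
    · simp [E, hk, Ne.symm hk, Matrix.one_apply]
      split_ifs <;> simp
  rintro _ ⟨g, rfl⟩
  exact (htop ▸ Subgroup.mem_top g : g ∈ P.comap (slHom K))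

omit [Finite F] in
theorem tv_mem_range {a φ : Fin 3 → F} (h : φ ⬝ᵥ a = 0) (ha : ∀ i, a i ∈ K) (hφ : ∀ i, φ i ∈ K) :
    tv a φ h ∈ (slHom K).range := by
  let a' : Fin 3 → K := fun i => ⟨a i, ha i⟩
  let φ' : Fin 3 → K := fun i => ⟨φ i, hφ i⟩
  have h' : φ' ⬝ᵥ a' = 0 := Subtype.ext (by
    simpa [dotProduct, Fin.sum_univ_three, a', φ'] using h)
  have hdet : (tvMat a' φ').det = 1 := by
    have := tv_mem_specialLinear a' φ' h'
    rw [specialLinear, MonoidHom.mem_ker] at this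
    have h1 := congrArg Units.val this
    rwa [Matrix.GeneralLinearGroup.val_det_apply, Units.val_one, tv_val] at h1
  refine ⟨⟨tvMat a' φ', hdet⟩, Units.ext ?_⟩
  · ext i j
    show ((tvMat a' φ' i j : K) : F) = (tv a φ h : M3) i j
    rw [tv_val, tvMat_apply a φ]
    rw [tvMat_apply]
    rcases eq_or_ne i j with rfl | hij
    · simp [a', φ']
    · simp [a', φ', hij]

theorem card_root_of_six (hK : ∀ i j : Fin 3, i ≠ j → ∀ c, c ∈ el P i j ↔ c ∈ K)
    (hq : 3 ≤ Nat.card K) {d θ : Fin 3 → F} (h : InTv P d θ) (hd : d ≠ 0) (hθ : θ ≠ 0) :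
    Nat.card (root P d θ) = Nat.card K := by
  obtain ⟨i, j, hij, hi, hj⟩ : ∃ i j : Fin 3, i ≠ j ∧ θ i ≠ 0 ∧ d j ≠ 0 := by
    obtain ⟨i, hi⟩ := Function.ne_iff.mp hθ
    obtain ⟨j, hj⟩ := Function.ne_iff.mp hd
    by_contra hc
    push Not at hc
    have hij : i = j := by
      by_contra hij
      exact hj (hc i j hij hi)
    subst hij
    have hs : θ ⬝ᵥ d = θ i * d i := Finset.sum_eq_single i
      (fun k _ hk => by rw [hc i k hk.symm hi, mul_zero]) (by simp)
    exact mul_ne_zero hi hj (hs ▸ h.1)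
  have hc : Nat.card (root P (E i) (E j)) = Nat.card K :=
    Nat.card_congr (Equiv.subtypeEquivRight fun c => hK i j hij c)
  have hb : InTv P (E i) (E j) := by
    have := mem_root.mp ((hK i j hij 1).mpr K.one_mem)
    rwa [one_smul] at this
  rw [← hc] at hq ⊢
  exact (pair hb h (by rwa [E_dot]) (by rwa [dot_E]) hq).1

/-- A centre is rational up to a scalar. -/
theorem centre_rational (hK : ∀ i j : Fin 3, i ≠ j → ∀ c, c ∈ el P i j ↔ c ∈ K)
    (hq : 3 ≤ Nat.card K) {d θ : Fin 3 → F} (h : InTv P d θ) (hd : d ≠ 0) (hθ : θ ≠ 0) :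
    ∃ (c : F) (d₀ : Fin 3 → F), c ≠ 0 ∧ d₀ ≠ 0 ∧ (∀ i, d₀ i ∈ K) ∧ d = c • d₀ := by
  classical
  have : Fintype K := Fintype.ofFinite K
  obtain ⟨p, hp⟩ := CharP.exists F
  have : Fact p.Prime := ⟨CharP.char_is_prime F p⟩
  have : CharP K p := charP_of_injective_ringHom (f := K.subtype) Subtype.val_injective p |> fun _ =>
    (RingHom.charP_iff (f := K.subtype) Subtype.val_injective p).mpr hp
  obtain ⟨n, -, hn⟩ := FiniteField.card K p
  set q := Nat.card K with hqdef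
  have hqn : q = p ^ (n : ℕ) := by rw [hqdef, Nat.card_eq_fintype_card, hn]
  have hmemK : ∀ {x : F}, x ^ q = x → x ∈ K := by
    intro x hx
    by_contra hxK
    let pol : Polynomial F := Polynomial.X ^ q - Polynomial.X
    have hdeg : pol.natDegree = q := by
      simp only [pol]
      rw [Polynomial.natDegree_sub_eq_left_of_natDegree_lt (by simp; omega)]
      simp
    have hp0 : pol ≠ 0 := fun e => by rw [e] at hdeg; simp at hdeg; omega
    have hsub : insert x (K : Set F) ⊆ (pol.roots.toFinset : Set F) := by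
      intro y hy
      rw [Finset.mem_coe, Multiset.mem_toFinset, Polynomial.mem_roots hp0]
      rcases hy with rfl | hy
      · simp [pol, hx]
      · have := congrArg Subtype.val (FiniteField.pow_card (⟨y, hy⟩ : K))
        rw [← Nat.card_eq_fintype_card, ← hqdef] at this
        have e : y ^ q = y := this
        simp [pol, e]
    have h1 := Set.ncard_le_ncard hsub
    rw [Set.ncard_insert_of_notMem hxK, Set.ncard_coe_finset, ← Nat.card_coe_set_eq,
      SetLike.coe_sort_coe, ← hqdef] at h1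
    have h2 : pol.roots.toFinset.card ≤ q :=
      (Multiset.toFinset_card_le _).trans ((Polynomial.card_roots' pol).trans hdeg.le)
    omega
  have hfix : ∀ {x : F}, x ∈ K → x ^ q = x := fun {x} hx => by
    have := congrArg Subtype.val (FiniteField.pow_card (⟨x, hx⟩ : K))
    rwa [← Nat.card_eq_fintype_card, ← hqdef] at this
  -- rational axes through a rational point and the centre
  have line : ∀ a : Fin 3 → F, (∀ i, a i ∈ K) → θ ⬝ᵥ a ≠ 0 →
      ∃ ω : Fin 3 → F, (∀ i, ω i ∈ K) ∧ ω ≠ 0 ∧ ω ⬝ᵥ a = 0 ∧ ω ⬝ᵥ d = 0 := by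
    intro a ha hθa
    let ι : (Fin 3 → K) →+ (Fin 3 → F) :=
      { toFun := fun v i => (v i : F)
        map_zero' := rfl
        map_add' := fun _ _ => rfl }
    let f : (Fin 3 → K) →+ K :=
      { toFun := fun v => v ⬝ᵥ fun i => (⟨a i, ha i⟩ : K)
        map_zero' := zero_dotProduct _
        map_add' := fun x y => add_dotProduct x y _ }
    have hfv : ∀ v, ι v ⬝ᵥ a = (f v : F) := fun v => by
      simp [ι, f, dotProduct, Fin.sum_univ_three]
    let V : AddSubgroup (Fin 3 → F) := f.ker.map ι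
    have hVmem : ∀ ω ∈ V, InTv P a ω := by
      rintro _ ⟨v, hv, rfl⟩
      have h0 : ι v ⬝ᵥ a = 0 := by rw [hfv, AddMonoidHom.mem_ker.mp hv]; rfl
      exact ⟨h0, slHom_mem K hK (tv_mem_range K h0 ha fun i => (v i).2)⟩
    have hs := card_root_of_six K hK hq h hd hθ
    have hV : q < Nat.card V := by
      have h1 := f.ker.card_mul_index
      rw [AddSubgroup.index_ker, Nat.card_fun, Nat.card_fin] at h1
      have h2 : Nat.card f.range ≤ q := Nat.card_le_card_of_injective _ Subtype.val_injective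
      have h3 : Nat.card V = Nat.card f.ker :=
        AddSubgroup.card_map_of_injective (fun x y e => funext fun i => Subtype.ext (congrFun e i))
      rw [h3]
      by_contra hle
      push Not at hle
      have : q ^ 3 ≤ q * q := h1 ▸ Nat.mul_le_mul hle h2
      rw [pow_succ, sq] at this
      have h4 : q * q * 2 ≤ q * q * q := Nat.mul_le_mul_left _ (by omega)
      have h5 : 0 < q * q := Nat.mul_pos (by omega) (by omega)
      omega
    obtain ⟨ω, hω, hω0, hωd⟩ := exists_axis_through V hVmem h hθa (hs.symm ▸ hq) (hs.symm ▸ hV)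
    obtain ⟨v, hv, rfl⟩ := hω
    exact ⟨ι v, fun i => (v i).2, hω0, by rw [hfv, AddMonoidHom.mem_ker.mp hv]; rfl, hωd⟩
  obtain ⟨m, hm⟩ := Function.ne_iff.mp hd
  refine ⟨d m, (d m)⁻¹ • d, hm, smul_ne_zero (inv_ne_zero hm) hd, fun k => hmemK ?_,
    (smul_inv_smul₀ hm d).symm⟩
  set d₀ := (d m)⁻¹ • d with hd₀
  set e : Fin 3 → F := fun i => d₀ i ^ q - d₀ i with he
  have hker : ∀ a : Fin 3 → F, (∀ i, a i ∈ K) → θ ⬝ᵥ a ≠ 0 → (crossProduct d₀ e) ⬝ᵥ a = 0 := by
    intro a ha hθa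
    obtain ⟨ω, hωK, hω0, hωa, hωd⟩ := line a ha hθa
    have hω1 : ω ⬝ᵥ d₀ = 0 := by rw [hd₀, dotProduct_smul, hωd, smul_zero]
    have hω2 : ω ⬝ᵥ e = 0 := by
      have h2 : (ω ⬝ᵥ d₀) ^ q = ω ⬝ᵥ fun i => d₀ i ^ q := by
        simp only [dotProduct, Fin.sum_univ_three, hqn, add_pow_char_pow, mul_pow]
        simp only [← hqn, hfix (hωK _)]
      rw [hω1, zero_pow (by omega)] at h2
      rw [he, show (fun i => d₀ i ^ q - d₀ i) = (fun i => d₀ i ^ q) - d₀ from rfl, dotProduct_sub,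
        ← h2, hω1, sub_zero]
    have hdet : (Matrix.of ![d₀, e, a]).det = 0 := by
      refine Matrix.exists_mulVec_eq_zero_iff.mp ⟨ω, hω0, funext fun i => ?_⟩
      fin_cases i <;> simp [mulVec, dotProduct_comm _ ω, hω1, hω2, hωa]
    rw [Matrix.det_fin_three] at hdet
    simp [cross_apply, dotProduct, Fin.sum_univ_three] at hdet ⊢
    linear_combination hdet
  obtain ⟨i, hi⟩ := Function.ne_iff.mp hθ
  have hc : ∀ j, crossProduct d₀ e j = 0 := by
    have hEK : ∀ j l, (E j : Fin 3 → F) l ∈ K := fun j l => by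
      rcases eq_or_ne l j with rfl | hl
      · simp [E, K.one_mem]
      · simp [E, hl, K.zero_mem]
    have hci := hker (E i) (hEK i) (by rwa [dot_E])
    rw [dot_E] at hci
    intro j
    by_cases hj : θ j = 0
    · have := hker (E i + E j) (fun l => K.add_mem (hEK i l) (hEK j l))
        (by rwa [dotProduct_add, dot_E, dot_E, hj, add_zero])
      rwa [dotProduct_add, dot_E, dot_E, hci, zero_add] at this
    · have := hker (E j) (hEK j) (by rwa [dot_E])
      rwa [dot_E] at this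
  have h1 : d₀ m = 1 := by
    have hm0 : d m ≠ 0 := hm
    simp [hd₀, inv_mul_cancel₀ hm0]
  have hem : e m = 0 := by simp [he, h1]
  have hek : e k = 0 := congrFun (eq_zero_of_cross h1 hem hc) k
  exact sub_eq_zero.mp hek

/-- Six root groups along the standard triangle. -/
theorem isSLForm_of_six (hP : Setting P) (hK : ∀ i j : Fin 3, i ≠ j → ∀ c, c ∈ el P i j ↔ c ∈ K)
    (hq : 3 ≤ Nat.card K) : IsSLForm P := by
  have h01 : InTv P (E 0) (E 1) := by
    have := mem_root.mp ((hK 0 1 (by decide) 1).mpr K.one_mem)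
    rwa [one_smul] at this
  refine ⟨K, 1, ?_⟩
  rw [← slHom_range]
  show P = cj 1 _
  rw [cj_one]
  refine le_antisymm ?_ (slHom_mem K hK)
  rw [← closure_tvSet hP (E_ne_zero 0) (E_ne_zero 1) h01, Subgroup.closure_le]
  rintro _ ⟨d, θ, h0, hd, hθ, hm, rfl⟩
  have h : InTv P d θ := ⟨h0, hm⟩
  obtain ⟨c, d₀, hc, hd₀, hd₀K, rfl⟩ := centre_rational K hK hq h hd hθ
  have hKd : ∀ i j : Fin 3, i ≠ j → ∀ c, c ∈ el (P.map dual) i j ↔ c ∈ K := fun i j hij c => by
    rw [el, root_dual (E_dot_E hij), ← el]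
    exact hK j i hij.symm c
  obtain ⟨μ, θ₀, hμ, hθ₀, hθ₀K, rfl⟩ := centre_rational K hKd hq (inTv_dual h) hθ hd
  have hdot : θ₀ ⬝ᵥ d₀ = 0 := by
    have := inTv_dot h
    rw [dotProduct_smul, smul_dotProduct, smul_eq_mul, smul_eq_mul] at this
    simpa [hc, hμ] using this
  have h1 : InTv P d₀ (c • μ • θ₀) := inTv_of_smul h (by simp [hdot])
  rw [smul_smul] at h1
  have hone : InTv P d₀ θ₀ := ⟨hdot, slHom_mem K hK (tv_mem_range K hdot hd₀K hθ₀K)⟩
  have hcμ : c * μ ∈ K := by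
    have hsub : ∀ k ∈ K, k ∈ root P d₀ θ₀ := fun k hk => by
      have h0k : (k • θ₀) ⬝ᵥ d₀ = 0 := by rw [smul_dotProduct, hdot, smul_zero]
      exact ⟨h0k, slHom_mem K hK (tv_mem_range K h0k hd₀K fun i => K.mul_mem hk (hθ₀K i))⟩
    have he : K.toAddSubgroup = root P d₀ θ₀ := by
      refine AddSubgroup.eq_of_le_of_card_ge hsub ?_
      rw [card_root_of_six K hK hq hone hd₀ hθ₀]
      exact le_rfl
    have : c * μ ∈ K.toAddSubgroup := he ▸ h1
    exact this
  have h2 : ((c * μ) • θ₀) ⬝ᵥ d₀ = 0 := by rw [smul_dotProduct, hdot, smul_zero]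
  have e : tv (c • d₀) (μ • θ₀) h0 = tv d₀ ((c * μ) • θ₀) h2 := by
    refine Units.ext ?_
    show tvMat (c • d₀) (μ • θ₀) = tvMat d₀ ((c * μ) • θ₀)
    rw [tvMat_smul_left, smul_smul]
  rw [SetLike.mem_coe, e]
  exact tv_mem_range K h2 hd₀K fun i => K.mul_mem hcμ (hθ₀K i)

/-- Root groups along a triangle give `SL₃`. -/
theorem isSLForm_of_triangle (hP : Setting P) {f : Fin 3 → Fin 3 → F}
    (hf : LinearIndependent F f)
    (h : ∀ i j : Fin 3, i ≠ j → ∃ χ : Fin 3 → F, InTv P (f i) χ ∧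
      (∀ k, k ≠ j → χ ⬝ᵥ f k = 0) ∧ χ ⬝ᵥ f j ≠ 0)
    (hbig : ∀ χ : Fin 3 → F, InTv P (f 0) χ → (∀ k, k ≠ 2 → χ ⬝ᵥ f k = 0) → χ ⬝ᵥ f 2 ≠ 0 →
      3 ≤ Nat.card (root P (f 0) χ)) :
    IsSLForm P := by
  obtain ⟨g, hg, hrow⟩ := exists_frame hf
  have key : ∀ i j : Fin 3, ∀ χ : Fin 3 → F, InTv P (f i) χ → (∀ k, k ≠ j → χ ⬝ᵥ f k = 0) →
      InTv (cj g P) (E i) ((χ ⬝ᵥ f j) • E j) := by
    intro i j χ hχ hz
    have := inTv_cj (g := g) hχ
    rw [hg] at this
    convert this using 1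
    ext k
    rw [hrow]
    rcases eq_or_ne k j with rfl | hk
    · simp [E]
    · simp [E, hk, hz k hk]
  have hne : ∀ i j : Fin 3, i ≠ j → ∃ c ∈ el (cj g P) i j, c ≠ 0 := fun i j hij => by
    obtain ⟨χ, h1, h2, h3⟩ := h i j hij
    exact ⟨_, key i j χ h1 h2, h3⟩
  obtain ⟨c01, hc01, hc01n⟩ := hne 0 1 (by decide)
  obtain ⟨c12, hc12, hc12n⟩ := hne 1 2 (by decide)
  obtain ⟨g', hg'⟩ := el_scale (P := cj g P)
    ![1, Units.mk0 c01 hc01n, Units.mk0 c01 hc01n * Units.mk0 c12 hc12n]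
  set P' := cj g' (cj g P) with hP'
  have hne' : ∀ i j : Fin 3, i ≠ j → ∃ c ∈ el P' i j, c ≠ 0 := fun i j hij => by
    obtain ⟨c, hc, hc0⟩ := hne i j hij
    exact ⟨_, hg' i j c hc, mul_ne_zero (mul_ne_zero (Units.ne_zero _) hc0)
      (inv_ne_zero (Units.ne_zero _))⟩
  obtain ⟨K, hK⟩ := el_eq_subfield hne'
    (by simpa [hc01n] using hg' 0 1 c01 hc01)
    (by
      convert hg' 1 2 c12 hc12 using 1
      simp
      field_simp)
  refine isSLForm_of_cj (g := g' * g) ?_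
  rw [← cj_cj, ← hP']
  refine isSLForm_of_six K (hP' ▸ setting_cj (setting_cj hP g) g') hK ?_
  obtain ⟨χ, h1, h2, h3⟩ := h 0 2 (by decide)
  have hb := hbig χ h1 h2 h3
  refine hb.trans (Nat.card_le_card_of_injective
    (fun c : root P (f 0) χ =>
      let k : F := ((![1, Units.mk0 c01 hc01n, Units.mk0 c01 hc01n * Units.mk0 c12 hc12n] :
        Fin 3 → Fˣ) 0 : F) * ((c : F) * (χ ⬝ᵥ f 2)) * (((![1, Units.mk0 c01 hc01n,
          Units.mk0 c01 hc01n * Units.mk0 c12 hc12n] : Fin 3 → Fˣ) 2 : F))⁻¹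
      (⟨k, (hK 0 2 (by decide) k).mp (hg' 0 2 _ (by
        rw [el, mem_root]
        have := key 0 2 ((c : F) • χ) c.2 (fun l hl => by rw [smul_dotProduct, h2 l hl, smul_zero])
        rwa [smul_dotProduct, smul_eq_mul] at this))⟩ : K)) ?_)
  intro x y e
  have e' := congrArg Subtype.val e
  simp [h3, hc01n, hc12n] at e'
  exact e'

end Cfsg.Agent.Linear.Mitchell.Tv
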